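import Mathlib
import Groth.Prelude.Def_Adeq

/-! Basic API for module-valued functors. -/

set_option autoImplicit false
set_option backward.isDefEq.respectTransparency false
universe u
open CategoryTheory CategoryTheory.Limits Opposite

namespace Groth.Agent.Adeq
open _root_.Adeq

variable {A : Type u} [CommRing A]

/-- transition map as an additive map between the values -/
noncomputable def mp (F : MVF A) {B B' : Alg A} (f : B ⟶ B') : F.obj (pt B) →+ F.obj (pt B') where
  toFun x := F.map (ptHom f) x
  map_zero' := map_zero _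
  map_add' x y := map_add _ x y

theorem mp_apply (F : MVF A) {B B' : Alg A} (f : B ⟶ B') (x : F.obj (pt B)) : mp F f x = F.map (ptHom f) x := rfl

theorem mp_smul (F : MVF A) {B B' : Alg A} (f : B ⟶ B') (b : B) (x : F.obj (pt B)) :
    mp F f (b • x) = f.hom b • mp F f x := F.map_smul (ptHom f) b x

theorem mp_comp (F : MVF A) {B B' B'' : Alg A} (f : B ⟶ B') (g : B' ⟶ B'') (x : F.obj (pt B)) :
    mp F (f ≫ g) x = mp F g (mp F f x) := F.map_comp_apply (ptHom f) (ptHom g) x

theorem mp_id (F : MVF A) {B : Alg A} (x : F.obj (pt B)) : mp F (𝟙 B) x = x := by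
  show F.map (𝟙 _) x = x
  simp

theorem mp_natural {F G : MVF A} (φ : F ⟶ G) {B B' : Alg A} (f : B ⟶ B') (x : F.obj (pt B)) :
    φ.app (pt B') (mp F f x) = mp G f (φ.app (pt B) x) := PresheafOfModules.naturality_apply φ (ptHom f) x

end Groth.Agent.Adeq
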