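import Mathlib
import Groth.Prelude.Def_Adeq

/-! Injective module-valued functors. -/

set_option autoImplicit false
set_option backward.isDefEq.respectTransparency false
universe u
open CategoryTheory CategoryTheory.Limits Opposite

namespace Groth.Agent.Adeq
open _root_.Adeq

noncomputable section

variable {A : Type u} [CommRing A] (E : ∀ B : Alg A, ModuleCat.{u + 1} B)

/-- points of the coinduced functor at `C` -/
abbrev CoindT (C : Alg A) : Type (u + 1) := ∀ x : (Σ B : Alg A, C ⟶ B), E x.1

instance coindModule (C : Alg A) : Module C (CoindT E C) where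
  smul c h x := (x.2.hom c : x.1) • h x
  one_smul h := funext fun x => by show (x.2.hom 1 : x.1) • h x = h x; rw [map_one, one_smul]
  mul_smul a b h := funext fun x => by
    show (x.2.hom (a * b) : x.1) • h x = x.2.hom a • x.2.hom b • h x; rw [map_mul, mul_smul]
  smul_zero c := funext fun x => by show (x.2.hom c : x.1) • (0 : E x.1) = 0; rw [smul_zero]
  smul_add c h h' := funext fun x => by
    show (x.2.hom c : x.1) • (h x + h' x) = x.2.hom c • h x + x.2.hom c • h' x; rw [smul_add]
  add_smul a b h := funext fun x => by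
    show (x.2.hom (a + b) : x.1) • h x = x.2.hom a • h x + x.2.hom b • h x; rw [map_add, add_smul]
  zero_smul h := funext fun x => by show (x.2.hom 0 : x.1) • h x = 0; rw [map_zero, zero_smul]

theorem coind_smul_apply {C : Alg A} (c : C) (h : CoindT E C) (x : Σ B : Alg A, C ⟶ B) :
    (c • h) x = (x.2.hom c : x.1) • h x := rfl

/-- the underlying abelian presheaf -/
abbrev coindAb : (Alg A)ᵒᵖᵒᵖ ⥤ Ab.{u + 1} where
  obj X := AddCommGrpCat.of (CoindT E X.unop.unop)
  map {X Y} f := AddCommGrpCat.ofHom
    { toFun := fun h x => h ⟨x.1, f.unop.unop ≫ x.2⟩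
      map_zero' := rfl
      map_add' := fun _ _ => rfl }
  map_id X := by
    ext h x
    show h ⟨x.1, 𝟙 _ ≫ x.2⟩ = h x
    rw [Category.id_comp]
  map_comp {X Y Z} f g := by
    ext h x
    show h ⟨x.1, (f.unop.unop ≫ g.unop.unop) ≫ x.2⟩ = h ⟨x.1, f.unop.unop ≫ g.unop.unop ≫ x.2⟩
    rw [Category.assoc]

/-- right adjoint of the family of evaluations -/
def coind : MVF A :=
  letI : ∀ X : (Alg A)ᵒᵖᵒᵖ, Module ((ringOf A).obj X) ((coindAb E).obj X) :=
    fun X => coindModule E X.unop.unop
  PresheafOfModules.ofPresheaf (coindAb E) (by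
    intro X Y f r m
    funext x
    rfl)

/-- the value of the coinduced functor at an algebra, on the nose -/
theorem coind_map_apply {C C' : Alg A} (f : C ⟶ C') (h : (coind E).obj (pt C)) (x : Σ B : Alg A, C' ⟶ B) :
    ((coind E).map (ptHom f) h : CoindT E C') x = (h : CoindT E C) ⟨x.1, f ≫ x.2⟩ := rfl

/-- the morphism into `coind` with given components -/
def coindLift {F : MVF A} (ψ : ∀ B : Alg A, F.obj (pt B) ⟶ E B) : F ⟶ coind E where
  app X := ModuleCat.ofHom
    (Y := CoindT E X.unop.unop)
    { toFun := fun m x => (ψ x.1).hom (F.map (ptHom x.2) m)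
      map_add' := fun m m' => funext fun x => by
        show (ψ x.1).hom _ = (ψ x.1).hom _ + (ψ x.1).hom _
        rw [map_add, map_add]
      map_smul' := fun c m => funext fun x => by
        show (ψ x.1).hom (F.map (ptHom x.2) (c • m)) = (x.2.hom c : x.1) • (ψ x.1).hom (F.map (ptHom x.2) m)
        rw [← (ψ x.1).hom.map_smul]
        exact congrArg _ (F.map_smul _ c m) }
  naturality {X Y} f := by
    ext m
    funext x
    show (ψ x.1).hom (F.map (ptHom x.2) (F.map f m)) = (ψ x.1).hom (F.map (ptHom (f.unop.unop ≫ x.2)) m)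
    rw [show ptHom (f.unop.unop ≫ x.2) = f ≫ ptHom x.2 from rfl, F.map_comp_apply]

/-- the component at the identity -/
def coindProj {F : MVF A} (φ : F ⟶ coind E) (B : Alg A) : F.obj (pt B) ⟶ E B := ModuleCat.ofHom
  { toFun := fun m => (φ.app (pt B) m : CoindT E B) ⟨B, 𝟙 B⟩
    map_add' := fun m m' => by rw [map_add]; rfl
    map_smul' := fun c m => by
      rw [(φ.app (pt B)).hom.map_smul]
      rfl }

theorem coindLift_proj {F : MVF A} (φ : F ⟶ coind E) : coindLift E (coindProj E φ) = φ := by
  refine PresheafOfModules.hom_ext fun X => ?_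
  ext m
  funext x
  show (φ.app (pt x.1) (F.map (ptHom x.2) m) : CoindT E x.1) ⟨x.1, 𝟙 _⟩ = (φ.app X m : CoindT E X.unop.unop) x
  rw [PresheafOfModules.naturality_apply φ (ptHom x.2) m]
  show (φ.app X m : CoindT E X.unop.unop) ⟨x.1, x.2 ≫ 𝟙 _⟩ = _
  rw [Category.comp_id]

theorem injective_coind [∀ B, Injective (E B)] : Injective (coind E) where
  factors {F G} φ i _ := by
    have : ∀ B : Alg A, Mono (i.app (pt B)) := fun B => by
      rw [ModuleCat.mono_iff_injective]
      exact PresheafOfModules.injective_of_mono i (X := pt B)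
    refine ⟨coindLift E (fun B => Injective.factorThru (coindProj E φ B) (i.app (pt B))), ?_⟩
    conv_rhs => rw [← coindLift_proj E φ]
    refine PresheafOfModules.hom_ext fun X => ?_
    ext m
    funext x
    show (Injective.factorThru (coindProj E φ x.1) (i.app (pt x.1))).hom (G.map (ptHom x.2) (i.app X m)) =
      (coindProj E φ x.1).hom (F.map (ptHom x.2) m)
    rw [← PresheafOfModules.naturality_apply i (ptHom x.2) m]
    exact congrArg (fun g : F.obj (pt x.1) ⟶ E x.1 => g.hom (F.map (ptHom x.2) m))
      (Injective.comp_factorThru (coindProj E φ x.1) (i.app (pt x.1)))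

end

variable (A : Type u) [CommRing A]

/-- the canonical embedding into an injective -/
theorem exists_mono_coind (F : MVF A) :
    ∃ (E : ∀ B : Alg A, ModuleCat.{u + 1} B) (_ : Injective (coind E)) (i : F ⟶ coind E), Mono i := by
  have h : ∀ B : Alg A, Nonempty (InjectivePresentation (F.obj (pt B) : ModuleCat.{u + 1} B)) :=
    fun B => EnoughInjectives.presentation _
  let P := fun B => (h B).some
  haveI : ∀ B, Injective ((fun B => (P B).J) B) := fun B => (P B).injective
  refine ⟨fun B => (P B).J, injective_coind _, coindLift _ fun B => (P B).f, ?_⟩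
  refine PresheafOfModules.mono_of_injective fun {X} m m' h => ?_
  have e := congrFun h ⟨X.unop.unop, 𝟙 _⟩
  have hi := (ModuleCat.mono_iff_injective (P X.unop.unop).f).1 (P X.unop.unop).mono e
  rw [show ptHom (𝟙 X.unop.unop) = 𝟙 X from rfl] at hi
  simpa using hi

theorem enoughInjectives_MVF : EnoughInjectives (MVF A) where
  presentation F := by
    obtain ⟨E, hE, i, hi⟩ := exists_mono_coind A F
    exact ⟨{ J := coind E, injective := hE, f := i, mono := hi }⟩

theorem map_surjective_of_injective {A : Type u} [CommRing A] (I : MVF A) [Injective I] {C D : Alg A} (q : D ⟶ C)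
    (hq : Function.Surjective q.hom) : Function.Surjective (I.map (ptHom q)) := by
  intro y
  obtain ⟨E, -, i, hi⟩ := exists_mono_coind A I
  classical
  let h : CoindT E D := fun x =>
    if hx : ∃ f : C ⟶ x.1, q ≫ f = x.2 then (i.app (pt C) y : CoindT E C) ⟨x.1, hx.choose⟩ else 0
  have e : (coind E).map (ptHom q) h = i.app (pt C) y := by
    funext x
    show h ⟨x.1, q ≫ x.2⟩ = _
    have hx : ∃ f : C ⟶ x.1, q ≫ f = q ≫ x.2 := ⟨x.2, rfl⟩
    simp only [h, dif_pos hx]
    have hf : hx.choose = x.2 := by
      apply CommAlgCat.hom_ext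
      refine AlgHom.ext fun c => ?_
      obtain ⟨d, rfl⟩ := hq c
      exact congrArg (fun g : D ⟶ x.1 => g.hom d) hx.choose_spec
    rw [hf]
  refine ⟨(Injective.factorThru (𝟙 I) i).app (pt D) h, ?_⟩
  rw [← PresheafOfModules.naturality_apply (Injective.factorThru (𝟙 I) i) (ptHom q), e]
  exact congrArg (fun g : I ⟶ I => g.app (pt C) y) (Injective.comp_factorThru (𝟙 I) i)

end Groth.Agent.Adeq
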