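import Mathlib
import Groth.Prelude.Def_Adeq
import Groth.Agent.Adeq.Basic

/-! Value-wise kernels in module-valued functors. -/

set_option autoImplicit false
set_option backward.isDefEq.respectTransparency false
universe u
open CategoryTheory CategoryTheory.Limits Opposite TensorProduct

namespace Groth.Agent.Adeq
open _root_.Adeq

variable {A : Type u} [CommRing A]

/-- `u M` -/
noncomputable abbrev U (M : ModuleCat.{u + 1} A) : MVF A := (underline A).obj M

/-- `u g` -/
noncomputable abbrev Um {M N : ModuleCat.{u + 1} A} (g : M ⟶ N) : U M ⟶ U N := (underline A).map g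

theorem Um_app {M N : ModuleCat.{u + 1} A} (g : M ⟶ N) (B : Alg A) (x : (B : Type u) ⊗[A] M) :
    (Um g).app (pt B) x = g.hom.baseChange B x := rfl

theorem mp_U (M : ModuleCat.{u + 1} A) {B B' : Alg A} (f : B ⟶ B') (x : (B : Type u) ⊗[A] M) :
    mp (U M) f x = f.hom.toLinearMap.rTensor M x := rfl

theorem comp_app {F G H : MVF A} (φ : F ⟶ G) (χ : G ⟶ H) (B : Alg A) (x : F.obj (pt B)) :
    (φ ≫ χ).app (pt B) x = χ.app (pt B) (φ.app (pt B) x) := rfl

theorem hom_ext_pt {F G : MVF A} {φ χ : F ⟶ G} (h : ∀ (B : Alg A) x, φ.app (pt B) x = χ.app (pt B) x) : φ = χ :=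
  PresheafOfModules.hom_ext fun X => ModuleCat.hom_ext (LinearMap.ext fun x => h X.unop.unop x)

theorem mono_of_pt {F G : MVF A} (φ : F ⟶ G) (h : ∀ B : Alg A, Function.Injective (φ.app (pt B))) : Mono φ :=
  ⟨fun a b e => hom_ext_pt fun B x => h B (by rw [← comp_app, ← comp_app, e])⟩

theorem injective_pt {F G : MVF A} (φ : F ⟶ G) [Mono φ] (B : Alg A) : Function.Injective (φ.app (pt B)) :=
  PresheafOfModules.injective_of_mono φ (pt B)

theorem surjective_pt {F G : MVF A} (φ : F ⟶ G) [Epi φ] (B : Alg A) : Function.Surjective (φ.app (pt B)) :=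
  PresheafOfModules.surjective_of_epi φ (X := pt B)

theorem epi_of_pt {F G : MVF A} (φ : F ⟶ G) (h : ∀ B : Alg A, Function.Surjective (φ.app (pt B))) : Epi φ :=
  ⟨fun a b e => hom_ext_pt fun B x => by
    obtain ⟨y, rfl⟩ := h B x
    rw [← comp_app, ← comp_app, e]⟩

theorem isIso_of_pt {F G : MVF A} (φ : F ⟶ G) (h : ∀ B : Alg A, Function.Bijective (φ.app (pt B))) : IsIso φ := by
  have := mono_of_pt φ fun B => (h B).1
  have := epi_of_pt φ fun B => (h B).2
  exact isIso_of_mono_of_epi φ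

theorem exact_kernel_pt {G H : MVF A} (p : G ⟶ H) (B : Alg A) (x : G.obj (pt B))
    (hx : p.app (pt B) x = 0) : ∃ y, (kernel.ι p).app (pt B) y = x := by
  have : (PresheafOfModules.evaluation.{u + 1} (ringOf A) (pt B)).Additive := ⟨fun {_ _ _ _} => rfl⟩
  have : (PresheafOfModules.evaluation.{u + 1} (ringOf A) (pt B)).PreservesZeroMorphisms :=
    Functor.preservesZeroMorphisms_of_additive _
  have := PresheafOfModules.evaluation_preservesFiniteLimits.{u + 1} (ringOf A) (pt B)
  let S := (ShortComplex.mk _ _ (kernel.condition p)).map (PresheafOfModules.evaluation.{u + 1} (ringOf A) (pt B))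
  have hS : S.Exact := ShortComplex.exact_of_f_is_kernel S
    (KernelFork.mapIsLimit _ (kernelIsKernel p) (PresheafOfModules.evaluation.{u + 1} (ringOf A) (pt B)))
  exact (ShortComplex.moduleCat_exact_iff S).1 hS x hx

/-- `i` is, value by value, the kernel of `p` -/
structure IsKer {F G H : MVF A} (i : F ⟶ G) (p : G ⟶ H) : Prop where
  inj : ∀ B : Alg A, Function.Injective (i.app (pt B))
  zero : ∀ (B : Alg A) (y : F.obj (pt B)), p.app (pt B) (i.app (pt B) y) = 0
  exact : ∀ (B : Alg A) (x : G.obj (pt B)), p.app (pt B) x = 0 → ∃ y, i.app (pt B) y = x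

theorem isKer_kernel {G H : MVF A} (p : G ⟶ H) : IsKer (kernel.ι p) p where
  inj B := injective_pt _ B
  zero B y := by rw [← comp_app, kernel.condition]; rfl
  exact B x hx := exact_kernel_pt p B x hx

namespace IsKer

variable {F G H : MVF A} {i : F ⟶ G} {p : G ⟶ H}

theorem comp_eq_zero (h : IsKer i p) : i ≫ p = 0 := hom_ext_pt fun B y => h.zero B y

theorem nonempty_iso (h : IsKer i p) : Nonempty (F ≅ kernel p) := by
  let l := kernel.lift p i h.comp_eq_zero
  have hl : ∀ B y, (kernel.ι p).app (pt B) (l.app (pt B) y) = i.app (pt B) y := fun B y => by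
    rw [← comp_app, kernel.lift_ι]
  have : IsIso l := isIso_of_pt l fun B => ⟨fun y y' e => h.inj B (by rw [← hl, ← hl, e]), fun z => by
    obtain ⟨y, hy⟩ := h.exact B _ ((isKer_kernel p).zero B z)
    exact ⟨y, (isKer_kernel p).inj B ((hl B y).trans hy)⟩⟩
  exact ⟨asIso l⟩

theorem exists_lift (h : IsKer i p) {T : MVF A} (f : T ⟶ G) (hf : ∀ B y, p.app (pt B) (f.app (pt B) y) = 0) :
    ∃ l : T ⟶ F, l ≫ i = f := by
  obtain ⟨e⟩ := h.nonempty_iso
  have := mono_of_pt i h.inj
  let l' := kernel.lift p f (hom_ext_pt hf)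
  have he : ∀ B y, ∃ z, i.app (pt B) z = f.app (pt B) y := fun B y => h.exact B _ (hf B y)
  let l₀ := kernel.lift p i h.comp_eq_zero
  have hl : ∀ B y, (kernel.ι p).app (pt B) (l₀.app (pt B) y) = i.app (pt B) y := fun B y => by
    rw [← comp_app, kernel.lift_ι]
  have : IsIso l₀ := isIso_of_pt l₀ fun B => ⟨fun y y' e => h.inj B (by rw [← hl, ← hl, e]), fun z => by
    obtain ⟨y, hy⟩ := h.exact B _ ((isKer_kernel p).zero B z)
    exact ⟨y, (isKer_kernel p).inj B ((hl B y).trans hy)⟩⟩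
  exact ⟨l' ≫ inv l₀, by
    have e1 : inv l₀ ≫ i = kernel.ι p := by rw [IsIso.inv_comp_eq]; exact (kernel.lift_ι p i _).symm
    rw [Category.assoc, e1, kernel.lift_ι]⟩

theorem of_iso {F' : MVF A} (h : IsKer i p) (e : F' ≅ F) : IsKer (e.hom ≫ i) p where
  inj B := (h.inj B).comp (injective_pt e.hom B)
  zero B y := h.zero B _
  exact B x hx := by
    obtain ⟨y, hy⟩ := h.exact B x hx
    obtain ⟨y', rfl⟩ := surjective_pt e.hom B y
    exact ⟨y', hy⟩

end IsKer

theorem adequate_iff (F : MVF A) : adequate A F ↔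
    ∃ (M N : ModuleCat.{u + 1} A) (ψ : M ⟶ N) (i : F ⟶ U M), IsKer i (Um ψ) := by
  constructor
  · rintro ⟨M, N, ψ, ⟨e⟩⟩
    exact ⟨M, N, ψ, _, (isKer_kernel (Um ψ)).of_iso e⟩
  · rintro ⟨M, N, ψ, i, h⟩
    exact ⟨M, N, ψ, h.nonempty_iso⟩

theorem adequate_of_isKer {F : MVF A} {M N : ModuleCat.{u + 1} A} {ψ : M ⟶ N} {i : F ⟶ U M}
    (h : IsKer i (Um ψ)) : adequate A F := (adequate_iff F).2 ⟨M, N, ψ, i, h⟩

end Groth.Agent.Adeq
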