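import Mathlib

/-! Tensor lemmas for adequate functors. -/

set_option autoImplicit false
universe u v
open TensorProduct

namespace Groth.Agent.Adeq

variable {A : Type u} [CommRing A] (B : Type u) [CommRing B] [Algebra A B]
variable {P Q X Y : Type v} [AddCommGroup P] [Module A P] [AddCommGroup Q] [Module A Q]
  [AddCommGroup X] [Module A X] [AddCommGroup Y] [Module A Y]

theorem bc_surjective (f : P →ₗ[A] Q) (hf : Function.Surjective f) : Function.Surjective (f.baseChange B) := by
  intro y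
  obtain ⟨x, hx⟩ := LinearMap.lTensor_surjective B hf y
  exact ⟨x, by rw [LinearMap.baseChange_eq_ltensor]; exact hx⟩

theorem bc_exact (f : P →ₗ[A] X) (g : X →ₗ[A] Q) (h : Function.Exact f g) (hg : Function.Surjective g) :
    Function.Exact (f.baseChange B) (g.baseChange B) := by
  rw [LinearMap.baseChange_eq_ltensor, LinearMap.baseChange_eq_ltensor]
  exact lTensor_exact B h hg

theorem bc_comp_apply (f : P →ₗ[A] X) (g : X →ₗ[A] Q) (z : B ⊗[A] P) :
    (g ∘ₗ f).baseChange B z = g.baseChange B (f.baseChange B z) := by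
  rw [LinearMap.baseChange_comp]; rfl

theorem bc_add_apply (f g : P →ₗ[A] X) (z : B ⊗[A] P) :
    (f + g).baseChange B z = f.baseChange B z + g.baseChange B z := by
  rw [LinearMap.baseChange_add]; rfl

theorem bc_id_apply (z : B ⊗[A] P) : (LinearMap.id : P →ₗ[A] P).baseChange B z = z := by
  rw [LinearMap.baseChange_id]; rfl

theorem bc_zero_apply (z : B ⊗[A] P) : (0 : P →ₗ[A] X).baseChange B z = 0 := by
  rw [LinearMap.baseChange_zero]; rfl

/-- an element of `B ⊗ (X × Y)` is determined by its components -/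
theorem bc_prod_ext (z : B ⊗[A] (X × Y)) :
    z = (LinearMap.inl A X Y).baseChange B ((LinearMap.fst A X Y).baseChange B z) +
      (LinearMap.inr A X Y).baseChange B ((LinearMap.snd A X Y).baseChange B z) := by
  rw [← bc_comp_apply, ← bc_comp_apply, ← bc_add_apply]
  conv_lhs => rw [← bc_id_apply B z]
  congr 2
  ext x <;> simp

theorem bc_prod_apply_eq_zero_iff (a : P →ₗ[A] X) (b : P →ₗ[A] Y) (z : B ⊗[A] P) :
    (a.prod b).baseChange B z = 0 ↔ a.baseChange B z = 0 ∧ b.baseChange B z = 0 := by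
  have h1 : a.baseChange B z = (LinearMap.fst A X Y).baseChange B ((a.prod b).baseChange B z) := by
    rw [← bc_comp_apply, LinearMap.fst_prod]
  have h2 : b.baseChange B z = (LinearMap.snd A X Y).baseChange B ((a.prod b).baseChange B z) := by
    rw [← bc_comp_apply, LinearMap.snd_prod]
  constructor
  · intro h; exact ⟨by rw [h1, h, map_zero], by rw [h2, h, map_zero]⟩
  · intro ⟨ha, hb⟩
    rw [bc_prod_ext B ((a.prod b).baseChange B z), ← h1, ← h2, ha, hb, map_zero, map_zero, add_zero]

/-- class of the left factor in a pushout of modules -/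
def pinl (h : P →ₗ[A] X) (g : P →ₗ[A] Y) : X →ₗ[A] (X × Y) ⧸ LinearMap.range (h.prod g) :=
  (LinearMap.range (h.prod g)).mkQ ∘ₗ LinearMap.inl A X Y

/-- class of the right factor in a pushout of modules -/
def pinr (h : P →ₗ[A] X) (g : P →ₗ[A] Y) : Y →ₗ[A] (X × Y) ⧸ LinearMap.range (h.prod g) :=
  (LinearMap.range (h.prod g)).mkQ ∘ₗ LinearMap.inr A X Y

theorem pinl_add_pinr (h : P →ₗ[A] X) (g : P →ₗ[A] Y) : pinl h g ∘ₗ h + pinr h g ∘ₗ g = 0 := by
  ext p
  show (LinearMap.range (h.prod g)).mkQ (h p, 0) + (LinearMap.range (h.prod g)).mkQ (0, g p) = 0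
  rw [← map_add, Submodule.mkQ_apply, Submodule.Quotient.mk_eq_zero]
  exact ⟨p, by simp⟩

theorem pair_eq_zero_iff (h : P →ₗ[A] X) (g : P →ₗ[A] Y) (x : B ⊗[A] X) (y : B ⊗[A] Y) :
    (pinl h g).baseChange B x + (pinr h g).baseChange B y = 0 ↔
      ∃ p, h.baseChange B p = x ∧ g.baseChange B p = y := by
  constructor
  · intro e
    rw [pinl, pinr, bc_comp_apply, bc_comp_apply, ← map_add] at e
    obtain ⟨p, hp⟩ := (bc_exact B (h.prod g) (LinearMap.range (h.prod g)).mkQ
      (LinearMap.exact_iff.2 (Submodule.ker_mkQ _)) (Submodule.mkQ_surjective _) _).1 e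
    refine ⟨p, ?_, ?_⟩
    · have := congrArg ((LinearMap.fst A X Y).baseChange B) hp
      simpa [← bc_comp_apply, map_add, LinearMap.fst_prod, bc_id_apply, bc_zero_apply] using this
    · have := congrArg ((LinearMap.snd A X Y).baseChange B) hp
      simpa [← bc_comp_apply, map_add, LinearMap.snd_prod, bc_id_apply, bc_zero_apply] using this
  · rintro ⟨p, rfl, rfl⟩
    rw [← bc_comp_apply, ← bc_comp_apply, ← bc_add_apply, pinl_add_pinr, bc_zero_apply]

theorem pair_surjective (h : P →ₗ[A] X) (g : P →ₗ[A] Y) (e : B ⊗[A] ((X × Y) ⧸ LinearMap.range (h.prod g))) :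
    ∃ x y, (pinl h g).baseChange B x + (pinr h g).baseChange B y = e := by
  obtain ⟨z, rfl⟩ := bc_surjective B _ (Submodule.mkQ_surjective _) e
  exact ⟨(LinearMap.fst A X Y).baseChange B z, (LinearMap.snd A X Y).baseChange B z, by
    rw [pinl, pinr, bc_comp_apply, bc_comp_apply, ← map_add, ← bc_prod_ext]⟩

theorem pinr_apply_map (h : P →ₗ[A] X) (g : P →ₗ[A] Y) (p : B ⊗[A] P) :
    (pinr h g).baseChange B (g.baseChange B p) = -(pinl h g).baseChange B (h.baseChange B p) := by
  rw [eq_neg_iff_add_eq_zero, add_comm, pair_eq_zero_iff]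
  exact ⟨p, rfl, rfl⟩

end Groth.Agent.Adeq
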