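import Mathlib
import Groth.Prelude.Def_Adeq
import Groth.Agent.Adeq.Ker
import Groth.Agent.Adeq.Tensor

/-! Homogeneity: maps out of linearly adequate functors extend. -/

set_option autoImplicit false
set_option backward.isDefEq.respectTransparency false
universe u
open CategoryTheory CategoryTheory.Limits Opposite TensorProduct

namespace Groth.Agent.Adeq
open _root_.Adeq

variable {A : Type u} [CommRing A]

section Universal

variable {n : ℕ} {κ : Type*} (ℓ : κ → MvPolynomial (Fin n) A)

/-- the ring of the universal solution -/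
abbrev UnivRing : Type u := MvPolynomial (Fin n) A ⧸ Ideal.span (Set.range ℓ)

/-- the universal coordinates -/
noncomputable abbrev univX (i : Fin n) : UnivRing ℓ := Ideal.Quotient.mk _ (MvPolynomial.X i)

/-- degree-one component -/
noncomputable def degOne : MvPolynomial (Fin n) A →ₗ[A] UnivRing ℓ :=
  ∑ i, (MvPolynomial.lcoeff A (Finsupp.single i 1)).smulRight (univX ℓ i)

theorem degOne_apply (p : MvPolynomial (Fin n) A) :
    degOne ℓ p = ∑ i, MvPolynomial.coeff (Finsupp.single i 1) p • univX ℓ i := by
  simp [degOne]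

/-- scaling of the coordinates -/
noncomputable def scalePre : MvPolynomial (Fin n) A →ₐ[A] Polynomial (UnivRing ℓ) :=
  MvPolynomial.aeval fun i => Polynomial.X * Polynomial.C (univX ℓ i)

theorem coeff_one_scalePre (p : MvPolynomial (Fin n) A) : (scalePre ℓ p).coeff 1 = degOne ℓ p := by
  classical
  induction p using MvPolynomial.induction_on' with
  | monomial d a =>
    rw [degOne_apply, scalePre, MvPolynomial.aeval_monomial, Finsupp.prod_fintype _ _ (fun i => by rw [pow_zero])]
    have hp : ∏ i, (Polynomial.X * Polynomial.C (univX ℓ i)) ^ d i =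
        Polynomial.X ^ (∑ i, d i) * Polynomial.C (∏ i, univX ℓ i ^ d i) := by
      rw [map_prod, show (Polynomial.X : Polynomial (UnivRing ℓ)) ^ (∑ i, d i) = ∏ i, Polynomial.X ^ d i from by
        rw [Finset.prod_pow_eq_pow_sum], ← Finset.prod_mul_distrib]
      exact Finset.prod_congr rfl fun i _ =>
        by rw [map_pow]; ring
    have hm : ∀ (b c : UnivRing ℓ) (N : ℕ), Polynomial.C b * (Polynomial.X ^ N * Polynomial.C c) =
        Polynomial.X ^ N * Polynomial.C (b * c) := fun b c N => by rw [map_mul]; ring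
    rw [hp, Polynomial.algebraMap_apply, hm, Polynomial.coeff_X_pow_mul']
    simp only [MvPolynomial.coeff_monomial]
    by_cases h1 : ∑ i, d i = 1
    · obtain ⟨k, hk⟩ : ∃ k, d = Finsupp.single k 1 := by
        obtain ⟨k, -, hk⟩ := Finset.exists_ne_zero_of_sum_ne_zero (by omega : ∑ i, d i ≠ 0)
        refine ⟨k, Finsupp.ext fun i => ?_⟩
        have hle := Finset.add_sum_erase Finset.univ (fun i => d i) (Finset.mem_univ k)
        by_cases hi : i = k
        · subst hi; simp; omega
        · have : d i ≤ ∑ x ∈ Finset.univ.erase k, d x :=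
            Finset.single_le_sum (f := fun x => d x) (fun x _ => Nat.zero_le _) (Finset.mem_erase.2 ⟨hi, Finset.mem_univ i⟩)
          rw [Finsupp.single_apply, if_neg (Ne.symm hi)]; omega
      subst hk
      rw [if_pos (le_of_eq h1), h1, Nat.sub_self, Polynomial.coeff_C_zero,
        Finset.prod_eq_single k (fun j _ hj => by simp [Finsupp.single_apply, Ne.symm hj]) (by simp),
        Finsupp.single_eq_same, pow_one, Finset.sum_eq_single k (fun j _ hj => by
          rw [if_neg (fun e => hj ((Finsupp.single_left_injective one_ne_zero e).symm)), zero_smul]) (by simp),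
        if_pos rfl]
      exact (Algebra.smul_def a _).symm
    · have hz : ∑ x, (if d = Finsupp.single x 1 then a else 0) • univX ℓ x = 0 :=
        Finset.sum_eq_zero fun x _ => by rw [if_neg (fun e => h1 (by subst e; simp)), zero_smul]
      rw [hz]
      split_ifs with h2
      · rw [Polynomial.coeff_C, if_neg (by omega)]
      · rfl
  | add p q hp hq => rw [map_add, Polynomial.coeff_add, hp, hq, map_add]

end Universal

/-- every map from a kernel between finite free modules extends to the ambient free module -/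
theorem exists_extend_fin {P P' M : ModuleCat.{u + 1} A} {n : ℕ} (e : Module.Basis (Fin n) A P)
    {κ : Type (u + 1)} (e' : Module.Basis κ A P') (φ₀ : P ⟶ P') {L : MVF A} {j : L ⟶ U P} (hj : IsKer j (Um φ₀))
    (φ : L ⟶ U M) : ∃ g : P ⟶ M, j ≫ Um g = φ := by
  classical
  let ℓ : κ → MvPolynomial (Fin n) A := fun q => ∑ i, e'.repr (φ₀.hom (e i)) q • MvPolynomial.X i
  let R : Alg A := algOf A (UnivRing ℓ)
  let xu : (R : Type u) ⊗[A] P := ∑ i, univX ℓ i ⊗ₜ e i
  have hxu : (Um φ₀).app (pt R) xu = 0 := by
    show φ₀.hom.baseChange R xu = 0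
    refine (e'.baseChange (R : Type u)).ext_elem fun q => ?_
    simp only [xu, map_sum, LinearMap.baseChange_tmul, Finsupp.coe_finsetSum, Finset.sum_apply,
      Module.Basis.baseChange_repr_tmul, map_zero, Finsupp.coe_zero, Pi.zero_apply]
    have : Ideal.Quotient.mkₐ A (Ideal.span (Set.range ℓ)) (ℓ q) = 0 :=
      Ideal.Quotient.eq_zero_iff_mem.2 (Ideal.subset_span ⟨q, rfl⟩)
    rw [← this]
    show _ = Ideal.Quotient.mkₐ A (Ideal.span (Set.range ℓ)) (∑ i, e'.repr (φ₀.hom (e i)) q • MvPolynomial.X i)
    simp only [map_sum, map_smul, Ideal.Quotient.mkₐ_eq_mk]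
  obtain ⟨x, hx⟩ := hj.exact R xu hxu
  -- scaling
  let s : UnivRing ℓ →ₐ[A] Polynomial (UnivRing ℓ) := Ideal.Quotient.liftₐ _ (scalePre ℓ) fun a ha => by
    have hle : Ideal.span (Set.range ℓ) ≤ RingHom.ker (scalePre ℓ) := by
      rw [Ideal.span_le]
      rintro _ ⟨q, rfl⟩
      have : Ideal.Quotient.mkₐ A (Ideal.span (Set.range ℓ)) (ℓ q) = 0 :=
        Ideal.Quotient.eq_zero_iff_mem.2 (Ideal.subset_span ⟨q, rfl⟩)
      show scalePre ℓ (ℓ q) = 0
      have e1 : scalePre ℓ (ℓ q) = Polynomial.X * Polynomial.C (Ideal.Quotient.mkₐ A (Ideal.span (Set.range ℓ)) (ℓ q)) := by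
        simp only [ℓ, map_sum, map_smul, Finset.mul_sum, scalePre, MvPolynomial.aeval_X]
        refine Finset.sum_congr rfl fun i _ => ?_
        rw [← Polynomial.smul_C, mul_smul_comm]
        rfl
      rw [e1, this, map_zero, mul_zero]
    exact hle ha
  let R' : Alg A := algOf A (Polynomial (UnivRing ℓ))
  let sR : R ⟶ R' := CommAlgCat.ofHom s
  let cR : R ⟶ R' := CommAlgCat.ofHom Polynomial.CAlgHom
  let T : (R' : Type u) := Polynomial.X
  have hscale : mp L sR x = T • mp L cR x := by
    apply hj.inj R'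
    rw [mp_natural, hx, map_smul, mp_natural, hx, mp_U, mp_U]
    show sR.hom.toLinearMap.rTensor P xu = T • cR.hom.toLinearMap.rTensor P xu
    simp only [xu, map_sum, LinearMap.rTensor_tmul, Finset.smul_sum, smul_tmul']
    refine Finset.sum_congr rfl fun i _ => ?_
    congr 1
    show s (Ideal.Quotient.mk _ (MvPolynomial.X i)) = T * Polynomial.C _
    exact (Ideal.Quotient.lift_mk _ _ _).trans (MvPolynomial.aeval_X _ i)
  let w : (R : Type u) ⊗[A] M := φ.app (pt R) x
  have hw : s.toLinearMap.rTensor M w = T • (Polynomial.CAlgHom : UnivRing ℓ →ₐ[A] _).toLinearMap.rTensor M w := by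
    have := congrArg (φ.app (pt R')) hscale
    rw [mp_natural, map_smul, mp_natural] at this
    exact this
  let k : Polynomial (UnivRing ℓ) →ₗ[A] UnivRing ℓ := (Polynomial.lcoeff (UnivRing ℓ) 1).restrictScalars A
  have hk : ∀ v : UnivRing ℓ ⊗[A] M,
      k.rTensor M ((Polynomial.X : Polynomial (UnivRing ℓ)) • (Polynomial.CAlgHom : UnivRing ℓ →ₐ[A] _).toLinearMap.rTensor M v) = v := by
    intro v
    induction v using TensorProduct.induction_on with
    | zero => simp
    | tmul r m =>
      rw [LinearMap.rTensor_tmul, smul_tmul', LinearMap.rTensor_tmul]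
      congr 1
      show ((Polynomial.X : Polynomial (UnivRing ℓ)) * Polynomial.C r).coeff 1 = r
      simp
    | add a b ha hb => rw [map_add, smul_add, map_add, ha, hb]
  obtain ⟨z, hz⟩ := LinearMap.rTensor_surjective (g := (Ideal.Quotient.mkₐ A (Ideal.span (Set.range ℓ))).toLinearMap) M
    (Ideal.Quotient.mkₐ_surjective A (Ideal.span (Set.range ℓ))) w
  let m : Fin n → M := fun i => TensorProduct.lid A M ((MvPolynomial.lcoeff A (Finsupp.single i 1)).rTensor M z)
  have hwm : w = ∑ i, univX ℓ i ⊗ₜ[A] m i := by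
    have h1 : k.rTensor M (s.toLinearMap.rTensor M w) = (degOne ℓ).rTensor M z := by
      rw [← hz, ← LinearMap.rTensor_comp_apply, ← LinearMap.rTensor_comp_apply]
      congr 2
      refine LinearMap.ext fun p => ?_
      show (s (Ideal.Quotient.mkₐ A _ p)).coeff 1 = degOne ℓ p
      exact (congrArg (Polynomial.coeff · 1) (Ideal.Quotient.lift_mk _ _ _)).trans (coeff_one_scalePre ℓ p)
    have h2 : k.rTensor M (s.toLinearMap.rTensor M w) = w := by rw [hw]; exact hk w
    have h3 : ∀ v : MvPolynomial (Fin n) A ⊗[A] M, (degOne ℓ).rTensor M v =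
        ∑ i, univX ℓ i ⊗ₜ[A] TensorProduct.lid A M ((MvPolynomial.lcoeff A (Finsupp.single i 1)).rTensor M v) := by
      intro v
      induction v using TensorProduct.induction_on with
      | zero => simp
      | tmul p y =>
        simp only [LinearMap.rTensor_tmul, degOne_apply, sum_tmul, TensorProduct.lid_tmul, tmul_smul, smul_tmul']
        rfl
      | add a b ha hb => rw [map_add, ha, hb, ← Finset.sum_add_distrib]; simp only [map_add, tmul_add]
    rw [← h2, h1, h3]
  let g : P ⟶ M := ModuleCat.ofHom (e.constr A m)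
  refine ⟨g, hom_ext_pt fun B y => ?_⟩
  rw [comp_app, Um_app]
  let b : Fin n → (B : Type u) := fun i => (e.baseChange (B : Type u)).repr (j.app (pt B) y) i
  have hy : j.app (pt B) y = ∑ i, b i ⊗ₜ[A] e i := by
    conv_lhs => rw [← (e.baseChange (B : Type u)).sum_repr (j.app (pt B) y)]
    refine Finset.sum_congr rfl fun i _ => ?_
    rw [Module.Basis.baseChange_apply, smul_tmul', smul_eq_mul, mul_one]
  have hb : ∀ q, MvPolynomial.aeval b (ℓ q) = 0 := by
    intro q
    have h0 := hj.zero B y
    rw [Um_app, hy] at h0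
    have := congrArg (fun v => (e'.baseChange (B : Type u)).repr v q) h0
    simp only [map_sum, LinearMap.baseChange_tmul, Finsupp.coe_finsetSum, Finset.sum_apply,
      Module.Basis.baseChange_repr_tmul, map_zero, Finsupp.coe_zero, Pi.zero_apply] at this
    simpa [ℓ] using this
  let ev : UnivRing ℓ →ₐ[A] B := Ideal.Quotient.liftₐ _ (MvPolynomial.aeval b) fun a ha => by
    have hle : Ideal.span (Set.range ℓ) ≤ RingHom.ker (MvPolynomial.aeval b) := by
      rw [Ideal.span_le]; rintro _ ⟨q, rfl⟩; exact hb q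
    exact hle ha
  let evR : R ⟶ B := CommAlgCat.ofHom ev
  have hev : ∀ i, ev (univX ℓ i) = b i := fun i => (Ideal.Quotient.lift_mk _ _ _).trans (MvPolynomial.aeval_X _ i)
  have hyx : mp L evR x = y := by
    apply hj.inj B
    rw [mp_natural, hx, mp_U, hy]
    show ev.toLinearMap.rTensor P xu = _
    simp only [xu, map_sum, LinearMap.rTensor_tmul]
    exact Finset.sum_congr rfl fun i _ => by rw [← hev i]; rfl
  rw [hy]
  conv_rhs => rw [← hyx, mp_natural, mp_U]
  show g.hom.baseChange B (∑ i, b i ⊗ₜ[A] e i) = ev.toLinearMap.rTensor M w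
  rw [hwm]
  simp only [map_sum, LinearMap.rTensor_tmul, LinearMap.baseChange_tmul]
  refine Finset.sum_congr rfl fun i _ => ?_
  rw [show g.hom (e i) = m i from e.constr_basis A m i, AlgHom.toLinearMap_apply, hev i]

end Groth.Agent.Adeq
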