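import Mathlib
import Groth.Prelude.Def_Adeq
import Groth.Agent.Adeq.Extend

/-! Presentations of adequate functors by linearly adequate ones. -/

set_option autoImplicit false
set_option backward.isDefEq.respectTransparency false
universe u
open CategoryTheory CategoryTheory.Limits Opposite TensorProduct

namespace Groth.Agent.Adeq
open _root_.Adeq

variable {A : Type u} [CommRing A]

theorem exists_sum_tmul {B : Type u} [CommRing B] [Algebra A B] {M : Type (u + 1)} [AddCommGroup M] [Module A M]
    (z : B ⊗[A] M) : ∃ (n : ℕ) (b : Fin n → B) (m : Fin n → M), z = ∑ k, b k ⊗ₜ[A] m k := by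
  obtain ⟨S, hS⟩ := TensorProduct.exists_finset z
  refine ⟨S.card, fun k => ((S.equivFin.symm k) : B × M).1, fun k => ((S.equivFin.symm k) : B × M).2, ?_⟩
  rw [hS, ← Finset.sum_coe_sort S, ← Equiv.sum_comp S.equivFin.symm]

/-- a free module of finite rank with values in the right universe -/
noncomputable abbrev freeFin (A : Type u) [CommRing A] (p : ℕ) : ModuleCat.{u + 1} A :=
  ModuleCat.of A (ULift.{u + 1} (Fin p) →₀ A)

/-- its standard basis -/
noncomputable def freeFinBasis (A : Type u) [CommRing A] (p : ℕ) : Module.Basis (Fin p) A (freeFin A p) :=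
  Finsupp.basisSingleOne.reindex Equiv.ulift

/-- every element of an adequate functor comes from a linearly adequate one -/
theorem exists_fin_cover {F : MVF A} {M N : ModuleCat.{u + 1} A} {ψ : M ⟶ N} {i : F ⟶ U M}
    (hF : IsKer i (Um ψ)) (B : Alg A) (x : F.obj (pt B)) :
    ∃ (p : ℕ) (P' : ModuleCat.{u + 1} A) (κ : Type (u + 1)) (_ : Fintype κ) (_ : Module.Basis κ A P')
      (φ₀ : freeFin A p ⟶ P') (h : freeFin A p ⟶ M) (l : kernel (Um φ₀) ⟶ F) (y : (kernel (Um φ₀)).obj (pt B)),
      l ≫ i = kernel.ι (Um φ₀) ≫ Um h ∧ l.app (pt B) y = x := by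
  classical
  obtain ⟨n, b, m, hz⟩ := exists_sum_tmul (M := M) (i.app (pt B) x)
  let π : (N →₀ A) →ₗ[A] N := Finsupp.linearCombination A id
  have hπ : Function.Surjective π := fun v => ⟨Finsupp.single v 1, by simp [π]⟩
  let ξ : (B : Type u) ⊗[A] (N →₀ A) := ∑ k, b k ⊗ₜ Finsupp.single (ψ.hom (m k)) 1
  have hξ : π.baseChange B ξ = 0 := by
    have h0 := hF.zero B x
    rw [Um_app, hz] at h0
    simpa [ξ, π] using h0
  obtain ⟨η, hη⟩ := (bc_exact (B : Type u) (P := LinearMap.ker π) (LinearMap.ker π).subtype π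
    (by rw [LinearMap.exact_iff, Submodule.range_subtype]) hπ _).1 hξ
  obtain ⟨n', c, r, rfl⟩ := exists_sum_tmul (M := LinearMap.ker π) η
  let T : Finset N := (Finset.univ.image fun k => ψ.hom (m k)) ∪ Finset.univ.biUnion fun k => (r k : N →₀ A).support
  let res : (N →₀ A) →ₗ[A] (T →₀ A) := Finsupp.lcomapDomain Subtype.val Subtype.val_injective
  let π' : (T →₀ A) →ₗ[A] N := Finsupp.linearCombination A Subtype.val
  have hres : ∀ v : N →₀ A, v.support ⊆ T → π' (res v) = π v := by
    intro v hv
    have e : Finsupp.mapDomain Subtype.val (res v) = v :=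
      Finsupp.mapDomain_comapDomain _ Subtype.val_injective v fun a ha => ⟨⟨a, hv ha⟩, rfl⟩
    conv_rhs => rw [← e]
    simp only [π, π', Finsupp.linearCombination_mapDomain]
    rfl
  let e := freeFinBasis A (n + n')
  let a : Fin (n + n') → (T →₀ A) := Fin.append (fun k => res (Finsupp.single (ψ.hom (m k)) 1)) fun k => -res (r k : N →₀ A)
  let hm : Fin (n + n') → M := Fin.append m fun _ => 0
  let φ₀ : freeFin A (n + n') ⟶ ModuleCat.of A (T →₀ A) := ModuleCat.ofHom (e.constr A a)
  let h : freeFin A (n + n') ⟶ M := ModuleCat.ofHom (e.constr A hm)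
  have hcomm : ψ.hom ∘ₗ h.hom = π' ∘ₗ φ₀.hom := by
    refine e.ext fun q => ?_
    show ψ.hom (e.constr A hm (e q)) = π' (e.constr A a (e q))
    rw [e.constr_basis, e.constr_basis]
    refine Fin.addCases (fun k => ?_) (fun k => ?_) q
    · simp only [a, hm, Fin.append_left]
      rw [hres _ (Finsupp.support_single_subset.trans (Finset.singleton_subset_iff.2
        (Finset.mem_union_left _ (Finset.mem_image.2 ⟨k, Finset.mem_univ _, rfl⟩))))]
      simp [π]
    · simp only [a, hm, Fin.append_right, map_zero, map_neg]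
      rw [hres _ (fun v hv => Finset.mem_union_right _ (Finset.mem_biUnion.2 ⟨k, Finset.mem_univ _, hv⟩)),
        show π (r k : N →₀ A) = 0 from (r k).2, neg_zero]
  obtain ⟨l, hl⟩ := hF.exists_lift (kernel.ι (Um φ₀) ≫ Um h) fun B' v => by
    rw [comp_app, Um_app, Um_app, ← bc_comp_apply, hcomm, bc_comp_apply,
      show φ₀.hom.baseChange B' ((kernel.ι (Um φ₀)).app (pt B') v) = 0 from (isKer_kernel (Um φ₀)).zero B' v, map_zero]
  let y : (B : Type u) ⊗[A] freeFin A (n + n') :=
    ∑ k, b k ⊗ₜ e (Fin.castAdd n' k) + ∑ k, c k ⊗ₜ e (Fin.natAdd n k)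
  have hy : (Um φ₀).app (pt B) y = 0 := by
    rw [Um_app]
    show (e.constr A a).baseChange B y = 0
    simp only [y, map_add, map_sum, LinearMap.baseChange_tmul, e.constr_basis, a, Fin.append_left, Fin.append_right,
      tmul_neg, Finset.sum_neg_distrib]
    have := congrArg (res.baseChange (B : Type u)) hη
    simp only [ξ, map_sum, LinearMap.baseChange_tmul, Submodule.subtype_apply] at this
    rw [this, add_neg_cancel]
  obtain ⟨y', hy'⟩ := (isKer_kernel (Um φ₀)).exact B y hy
  refine ⟨n + n', _, T, inferInstance, Finsupp.basisSingleOne, φ₀, h, l, y', hl, hF.inj B ?_⟩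
  rw [← comp_app, hl, comp_app, hy', Um_app, hz]
  show (e.constr A hm).baseChange B y = _
  simp [y, hm, e.constr_basis]

theorem toModule_comp_lof {ι : Type (u + 1)} [DecidableEq ι] {X : ι → Type (u + 1)} [∀ s, AddCommGroup (X s)]
    [∀ s, Module A (X s)] {Y : Type (u + 1)} [AddCommGroup Y] [Module A Y] (f : ∀ s, X s →ₗ[A] Y) (s : ι) :
    DirectSum.toModule A ι Y f ∘ₗ DirectSum.lof A ι X s = f s :=
  LinearMap.ext fun v => DirectSum.toModule_lof (R := A) (φ := f) s v

/-- presentation adapted to a morphism into `U M'` -/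
theorem exists_presentation {F : MVF A} {M N M' : ModuleCat.{u + 1} A} {ψ : M ⟶ N} {i : F ⟶ U M}
    (hF : IsKer i (Um ψ)) (φ : F ⟶ U M') :
    ∃ (P P' : ModuleCat.{u + 1} A) (φ₀ : P ⟶ P') (h : P ⟶ M) (g : P ⟶ M'),
      (∀ (B : Alg A) (y : (B : Type u) ⊗[A] P), φ₀.hom.baseChange B y = 0 →
        ∃ x, i.app (pt B) x = h.hom.baseChange B y ∧ φ.app (pt B) x = g.hom.baseChange B y) ∧
      (∀ (B : Alg A) (x : F.obj (pt B)), ∃ y : (B : Type u) ⊗[A] P,
        φ₀.hom.baseChange B y = 0 ∧ h.hom.baseChange B y = i.app (pt B) x) := by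
  classical
  choose p P' κ hκ e' φ₀ h l y hl hy using fun s : (Σ B : Alg A, F.obj (pt B)) => exists_fin_cover hF s.1 s.2
  choose g hg using fun s : (Σ B : Alg A, F.obj (pt B)) =>
    exists_extend_fin (freeFinBasis A (p s)) (e' s) (φ₀ s) (isKer_kernel (Um (φ₀ s))) (l s ≫ φ)
  let P : ModuleCat.{u + 1} A := ModuleCat.of A (DirectSum _ fun s : (Σ B : Alg A, F.obj (pt B)) => freeFin A (p s))
  let Q : ModuleCat.{u + 1} A := ModuleCat.of A (DirectSum _ fun s : (Σ B : Alg A, F.obj (pt B)) => P' s)
  let Φ : P ⟶ Q := ModuleCat.ofHom (DirectSum.toModule A _ (DirectSum _ fun s => (P' s : Type (u + 1))) (M := fun s => (freeFin A (p s) : Type (u + 1))) fun s => DirectSum.lof A _ (fun s => (P' s : Type (u + 1))) s ∘ₗ (φ₀ s).hom)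
  let H : P ⟶ M := ModuleCat.ofHom (DirectSum.toModule A _ M (M := fun s => (freeFin A (p s) : Type (u + 1))) fun s => (h s).hom)
  let G : P ⟶ M' := ModuleCat.ofHom (DirectSum.toModule A _ M' (M := fun s => (freeFin A (p s) : Type (u + 1))) fun s => (g s).hom)
  refine ⟨P, Q, Φ, H, G, fun B z hz => ?_, fun B x => ?_⟩
  · -- decompose
    let co := fun s => (DirectSum.component A _ (fun s => (freeFin A (p s) : Type (u + 1))) s).baseChange (B : Type u)
    let lo := fun s => (DirectSum.lof A _ (fun s => (freeFin A (p s) : Type (u + 1))) s).baseChange (B : Type u)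
    have hdec : ∀ w : (B : Type u) ⊗[A] P, ∃ t : Finset (Σ B : Alg A, F.obj (pt B)), ∀ t', t ⊆ t' →
        w = ∑ s ∈ t', lo s (co s w) := by
      intro w
      induction w using TensorProduct.induction_on with
      | zero => exact ⟨∅, fun t' _ => by simp⟩
      | tmul c v =>
        refine ⟨DFinsupp.support v, fun t' ht' => ?_⟩
        simp only [lo, co, LinearMap.baseChange_tmul, ← tmul_sum]
        congr 1
        refine DFinsupp.ext fun s => ?_
        rw [DFinsupp.finsetSum_apply, Finset.sum_eq_single s]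
        · exact (DirectSum.lof_apply A (M := fun s => (freeFin A (p s) : Type (u + 1))) s _).symm
        · intro s' _ hs'
          exact DFinsupp.single_eq_of_ne (Ne.symm hs')
        · intro hs
          have h0 : v s = 0 := DFinsupp.notMem_support_iff.1 fun h' => hs (ht' h')
          rw [show DirectSum.component A _ _ s v = v s from rfl, h0, map_zero]
          rfl
      | add a b ha hb =>
        obtain ⟨ta, ha⟩ := ha
        obtain ⟨tb, hb⟩ := hb
        refine ⟨ta ∪ tb, fun t' ht' => ?_⟩
        conv_lhs => rw [ha t' (Finset.union_subset_left ht'), hb t' (Finset.union_subset_right ht')]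
        rw [← Finset.sum_add_distrib]
        simp only [map_add]
    obtain ⟨t, ht⟩ := hdec z
    have hzs : ∀ s, (φ₀ s).hom.baseChange B (co s z) = 0 := by
      intro s
      have e1 : (φ₀ s).hom ∘ₗ DirectSum.component A _ (fun s => (freeFin A (p s) : Type (u + 1))) s =
          DirectSum.component A _ (fun s => (P' s : Type (u + 1))) s ∘ₗ Φ.hom := by
        refine DirectSum.linearMap_ext A fun s' => LinearMap.ext fun v => ?_
        simp only [LinearMap.comp_apply, Φ, ModuleCat.hom_ofHom, DirectSum.toModule_lof, DirectSum.component.of]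
        split_ifs with hs
        · subst hs; rfl
        · exact map_zero _
      show (φ₀ s).hom.baseChange (B : Type u) ((DirectSum.component A _ (fun s => (freeFin A (p s) : Type (u + 1))) s).baseChange (B : Type u) z) = 0
      refine (bc_comp_apply (B : Type u) _ _ z).symm.trans ?_
      rw [e1]
      refine (bc_comp_apply (B : Type u) _ _ z).trans ?_
      rw [hz, map_zero]
    choose w hw using fun s => (isKer_kernel (Um (φ₀ s))).exact B (co s z) (hzs s)
    refine ⟨∑ s ∈ t, (l s).app (pt B) (w s), ?_, ?_⟩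
    · conv_rhs => rw [ht t subset_rfl]
      rw [map_sum, map_sum]
      refine Finset.sum_congr rfl fun s _ => ?_
      rw [← comp_app, hl, comp_app, hw, Um_app, ← bc_comp_apply]
      congr 2
      exact (toModule_comp_lof (A := A) (X := fun s => (freeFin A (p s) : Type (u + 1))) (fun s => (h s).hom) s).symm
    · conv_rhs => rw [ht t subset_rfl]
      rw [map_sum, map_sum]
      refine Finset.sum_congr rfl fun s _ => ?_
      rw [← comp_app, ← hg, comp_app, hw, Um_app, ← bc_comp_apply]
      congr 2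
      exact (toModule_comp_lof (A := A) (X := fun s => (freeFin A (p s) : Type (u + 1))) (fun s => (g s).hom) s).symm
  · let v := (kernel.ι (Um (φ₀ ⟨B, x⟩))).app (pt B) (y ⟨B, x⟩)
    refine ⟨(DirectSum.lof A _ (fun s => (freeFin A (p s) : Type (u + 1))) ⟨B, x⟩).baseChange (B : Type u) v, ?_, ?_⟩
    · rw [← bc_comp_apply, show Φ.hom ∘ₗ DirectSum.lof A _ (fun s => (freeFin A (p s) : Type (u + 1))) ⟨B, x⟩ =
        DirectSum.lof A _ (fun s => (P' s : Type (u + 1))) ⟨B, x⟩ ∘ₗ (φ₀ ⟨B, x⟩).hom from
          toModule_comp_lof (fun s => DirectSum.lof A _ (fun s => (P' s : Type (u + 1))) s ∘ₗ (φ₀ s).hom) _, bc_comp_apply,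
        show (φ₀ ⟨B, x⟩).hom.baseChange B v = 0 from (isKer_kernel (Um (φ₀ ⟨B, x⟩))).zero B _, map_zero]
    · rw [← bc_comp_apply, show H.hom ∘ₗ DirectSum.lof A _ (fun s => (freeFin A (p s) : Type (u + 1))) ⟨B, x⟩ =
        (h ⟨B, x⟩).hom from toModule_comp_lof (fun s => (h s).hom) _]
      have := congrArg (fun q : kernel (Um (φ₀ ⟨B, x⟩)) ⟶ U M => q.app (pt B) (y ⟨B, x⟩)) (hl ⟨B, x⟩)
      rw [comp_app, hy ⟨B, x⟩, comp_app, Um_app] at this
      exact this.symm

end Groth.Agent.Adeq
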