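import Mathlib
import Groth.Prelude.Def_Adeq
import Groth.Agent.Adeq.Present

/-! Closure properties of adequate functors. -/

set_option autoImplicit false
set_option backward.isDefEq.respectTransparency false
universe u
open CategoryTheory CategoryTheory.Limits Opposite TensorProduct

namespace Groth.Agent.Adeq
open _root_.Adeq

variable {A : Type u} [CommRing A]

theorem adequate_kernel {F G : MVF A} (φ : F ⟶ G) (hF : adequate A F) (hG : adequate A G) :
    adequate A (kernel φ) := by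
  obtain ⟨M, N, ψ, i, hi⟩ := (adequate_iff F).1 hF
  obtain ⟨M', N', ψ', j, hj⟩ := (adequate_iff G).1 hG
  obtain ⟨P, P', φ₀, h, g, hA, hB⟩ := exists_presentation hi (φ ≫ j)
  let a : P →ₗ[A] M' × P' := (-g.hom).prod φ₀.hom
  let W : ModuleCat.{u + 1} A := ModuleCat.of A ((M × (M' × P')) ⧸ LinearMap.range (h.hom.prod a))
  let inM : (M : Type (u + 1)) →ₗ[A] W := pinl h.hom a
  have key : ∀ (B : Alg A) (x : F.obj (pt B)), inM.baseChange B (i.app (pt B) x) =
      (pinr h.hom a ∘ₗ LinearMap.inl A M' P').baseChange B ((φ ≫ j).app (pt B) x) := by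
    intro B x
    obtain ⟨y, hy0, hy⟩ := hB B x
    obtain ⟨x', hx', hφ⟩ := hA B y hy0
    obtain rfl : x' = x := hi.inj B (hx'.trans hy)
    rw [← hy, hφ, bc_comp_apply]
    have e : a.baseChange B y = -(LinearMap.inl A M' P').baseChange B (g.hom.baseChange B y) := by
      have e1 : (LinearMap.fst A M' P').baseChange B (a.baseChange B y) = -g.hom.baseChange B y := by
        rw [← bc_comp_apply, LinearMap.fst_prod, LinearMap.baseChange_neg]; rfl
      have e2 : (LinearMap.snd A M' P').baseChange B (a.baseChange B y) = φ₀.hom.baseChange B y := by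
        rw [← bc_comp_apply, LinearMap.snd_prod]
      rw [bc_prod_ext (B : Type u) (a.baseChange B y), e1, e2, hy0, map_zero, add_zero, map_neg]
    have := pinr_apply_map (B : Type u) h.hom a y
    rw [e, map_neg, neg_inj] at this
    exact this.symm
  have inj : ∀ (B : Alg A) (m' : (B : Type u) ⊗[A] M'),
      (pinr h.hom a ∘ₗ LinearMap.inl A M' P').baseChange B m' = 0 → m' = 0 := by
    intro B m' hm
    rw [bc_comp_apply] at hm
    obtain ⟨y, hy1, hy2⟩ := (pair_eq_zero_iff (B : Type u) h.hom a 0 ((LinearMap.inl A M' P').baseChange B m')).1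
      (by rw [map_zero, zero_add]; exact hm)
    have hy0 : φ₀.hom.baseChange B y = 0 := by
      have := congrArg ((LinearMap.snd A M' P').baseChange B) hy2
      simpa [← bc_comp_apply, a, LinearMap.snd_prod, bc_zero_apply] using this
    have hg : -g.hom.baseChange B y = m' := by
      have := congrArg ((LinearMap.fst A M' P').baseChange B) hy2
      simpa [← bc_comp_apply, a, LinearMap.fst_prod, bc_id_apply] using this
    obtain ⟨x, hx, hφ⟩ := hA B y hy0
    obtain rfl : x = 0 := hi.inj B (hx.trans (hy1.trans (map_zero _).symm))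
    rw [map_zero] at hφ
    rw [← hg, ← hφ, neg_zero]
  refine adequate_of_isKer (M := M) (N := ModuleCat.of A (N × W)) (ψ := ModuleCat.ofHom (ψ.hom.prod inM))
    (i := kernel.ι φ ≫ i) ⟨fun B => (hi.inj B).comp (injective_pt _ B), fun B y => ?_, fun B x hx => ?_⟩
  · rw [Um_app, comp_app]
    refine (bc_prod_apply_eq_zero_iff (B : Type u) ψ.hom inM _).2 ⟨hi.zero B _, ?_⟩
    rw [key, ← comp_app, ← Category.assoc, kernel.condition, zero_comp]
    exact map_zero _
  · obtain ⟨h1, h2⟩ := (bc_prod_apply_eq_zero_iff (B : Type u) ψ.hom inM x).1 hx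
    obtain ⟨z, rfl⟩ := hi.exact B x h1
    rw [key] at h2
    have hz := inj B _ h2
    rw [comp_app] at hz
    obtain ⟨w, rfl⟩ := (isKer_kernel φ).exact B z (hj.inj B (hz.trans (map_zero _).symm))
    exact ⟨w, rfl⟩

theorem adequate_cokernel {F G : MVF A} (φ : F ⟶ G) (hF : adequate A F) (hG : adequate A G) :
    adequate A (cokernel φ) := by
  obtain ⟨M, N, ψ, i, hi⟩ := (adequate_iff F).1 hF
  obtain ⟨M', N', ψ', j, hj⟩ := (adequate_iff G).1 hG
  obtain ⟨P, P', φ₀, h, g, hA, hB⟩ := exists_presentation hi (φ ≫ j)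
  let q : P →ₗ[A] N' := ψ'.hom ∘ₗ g.hom
  let E : ModuleCat.{u + 1} A := ModuleCat.of A ((M' × P') ⧸ LinearMap.range (g.hom.prod φ₀.hom))
  let E' : ModuleCat.{u + 1} A := ModuleCat.of A ((N' × P') ⧸ LinearMap.range (q.prod φ₀.hom))
  let E₂ : ModuleCat.{u + 1} A := ModuleCat.of A ((P' : Type (u + 1)) ⧸ LinearMap.range φ₀.hom)
  let t : (E : Type (u + 1)) →ₗ[A] E' := Submodule.liftQ _
    ((LinearMap.coprod (pinl q φ₀.hom ∘ₗ ψ'.hom) (pinr q φ₀.hom))) (by
      rintro _ ⟨p, rfl⟩
      exact LinearMap.congr_fun (pinl_add_pinr q φ₀.hom) p)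
  let s : (E : Type (u + 1)) →ₗ[A] E₂ := Submodule.liftQ _
    ((LinearMap.range φ₀.hom).mkQ ∘ₗ LinearMap.snd A M' P') (by
      rintro _ ⟨p, rfl⟩
      exact (Submodule.Quotient.mk_eq_zero _).2 ⟨p, rfl⟩)
  have tl : t ∘ₗ pinl g.hom φ₀.hom = pinl q φ₀.hom ∘ₗ ψ'.hom := LinearMap.ext fun m => by
    show LinearMap.coprod (pinl q φ₀.hom ∘ₗ ψ'.hom) (pinr q φ₀.hom) (m, 0) = _
    simp
    rfl
  have tr : t ∘ₗ pinr g.hom φ₀.hom = pinr q φ₀.hom := LinearMap.ext fun m => by
    show LinearMap.coprod (pinl q φ₀.hom ∘ₗ ψ'.hom) (pinr q φ₀.hom) (0, m) = _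
    simp
    rfl
  have sl : s ∘ₗ pinl g.hom φ₀.hom = 0 := LinearMap.ext fun m => by
    show (LinearMap.range φ₀.hom).mkQ (0 : P') = 0
    simp
  have sr : s ∘ₗ pinr g.hom φ₀.hom = (LinearMap.range φ₀.hom).mkQ := rfl
  let cE : M' ⟶ E := ModuleCat.ofHom (pinl g.hom φ₀.hom)
  have hc : φ ≫ j ≫ Um cE = 0 := hom_ext_pt fun B x => by
    obtain ⟨y, hy0, hy⟩ := hB B x
    obtain ⟨x', hx', hφ⟩ := hA B y hy0
    obtain rfl : x' = x := hi.inj B (hx'.trans hy)
    rw [← Category.assoc, comp_app, Um_app, hφ]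
    show (pinl g.hom φ₀.hom).baseChange B (g.hom.baseChange B y) = 0
    have := pinr_apply_map (B : Type u) g.hom φ₀.hom y
    rw [hy0, map_zero, eq_comm, neg_eq_zero] at this
    exact this
  let c := cokernel.desc φ (j ≫ Um cE) hc
  have hc' : ∀ (B : Alg A) (z : G.obj (pt B)), c.app (pt B) ((cokernel.π φ).app (pt B) z) =
      (pinl g.hom φ₀.hom).baseChange B (j.app (pt B) z) := fun B z => by
    rw [← comp_app, cokernel.π_desc]; rfl
  refine adequate_of_isKer (M := E) (N := ModuleCat.of A (E' × E₂)) (ψ := ModuleCat.ofHom (t.prod s))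
    (i := c) ⟨fun B => ?_, fun B w => ?_, fun B e he => ?_⟩
  · rw [injective_iff_map_eq_zero]
    intro w hw
    obtain ⟨z, rfl⟩ := surjective_pt (cokernel.π φ) B w
    rw [hc'] at hw
    obtain ⟨y, hy1, hy2⟩ := (pair_eq_zero_iff (B : Type u) g.hom φ₀.hom (j.app (pt B) z) 0).1
      (by rw [map_zero, add_zero]; exact hw)
    obtain ⟨x, -, hφ⟩ := hA B y hy2
    obtain rfl : φ.app (pt B) x = z := hj.inj B (hφ.trans hy1)
    rw [← comp_app, cokernel.condition]
    rfl
  · obtain ⟨z, rfl⟩ := surjective_pt (cokernel.π φ) B w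
    rw [Um_app, hc']
    refine (bc_prod_apply_eq_zero_iff (B : Type u) t s _).2 ⟨?_, ?_⟩
    · refine (bc_comp_apply (B : Type u) _ _ _).symm.trans ?_
      rw [tl, bc_comp_apply]
      have := hj.zero B z
      rw [Um_app] at this
      rw [this, map_zero]
    · refine (bc_comp_apply (B : Type u) _ _ _).symm.trans ?_
      rw [sl, bc_zero_apply]
  · obtain ⟨h1, h2⟩ := (bc_prod_apply_eq_zero_iff (B : Type u) t s e).1 he
    obtain ⟨m', p', rfl⟩ := pair_surjective (B : Type u) g.hom φ₀.hom e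
    rw [map_add, ← bc_comp_apply, ← bc_comp_apply,
      sl,
      sr,
      bc_zero_apply, zero_add] at h2
    obtain ⟨y, rfl⟩ := (bc_exact (B : Type u) φ₀.hom (LinearMap.range φ₀.hom).mkQ
      (LinearMap.exact_iff.2 (Submodule.ker_mkQ _)) (Submodule.mkQ_surjective _) p').1 h2
    rw [map_add, ← bc_comp_apply, ← bc_comp_apply,
      tl,
      tr,
      bc_comp_apply] at h1
    obtain ⟨y', hy1, hy2⟩ := (pair_eq_zero_iff (B : Type u) q φ₀.hom _ _).1 h1
    have hy0 : φ₀.hom.baseChange B (y' - y) = 0 := by rw [map_sub, hy2, sub_self]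
    obtain ⟨x, -, hφ⟩ := hA B (y' - y) hy0
    have hψ : ψ'.hom.baseChange B (m' - g.hom.baseChange B y) = 0 := by
      have e0 : q.baseChange B (y' - y) = 0 := by
        rw [bc_comp_apply, ← hφ, comp_app]; exact hj.zero B _
      rw [map_sub, ← bc_comp_apply, ← hy1, ← map_sub]; exact e0
    obtain ⟨z, hz⟩ := hj.exact B (m' - g.hom.baseChange B y) hψ
    refine ⟨(cokernel.π φ).app (pt B) z, ?_⟩
    rw [hc', hz, map_sub, pinr_apply_map, sub_eq_add_neg]

end Groth.Agent.Adeq
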