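import Mathlib
import Groth.Prelude.Def_Adeq
import Groth.Agent.Adeq.Closed

/-! Colimits of adequate functors. -/

set_option autoImplicit false
set_option backward.isDefEq.respectTransparency false
universe u
open CategoryTheory CategoryTheory.Limits Opposite TensorProduct

namespace Groth.Agent.Adeq
open _root_.Adeq

variable {A : Type u} [CommRing A]

/-- decomposition of elements of a tensor product with a direct sum -/
theorem sum_lof_component {B : Type u} [CommRing B] [Algebra A B] {ι : Type (u + 1)} [DecidableEq ι]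
    (X : ι → Type (u + 1)) [∀ s, AddCommGroup (X s)] [∀ s, Module A (X s)] (w : B ⊗[A] DirectSum ι X) :
    ∃ t : Finset ι, ∀ t', t ⊆ t' →
      w = ∑ s ∈ t', (DirectSum.lof A ι X s).baseChange B ((DirectSum.component A ι X s).baseChange B w) := by
  classical
  induction w using TensorProduct.induction_on with
  | zero => exact ⟨∅, fun t' _ => by simp⟩
  | tmul c v =>
    refine ⟨DFinsupp.support v, fun t' ht' => ?_⟩
    simp only [LinearMap.baseChange_tmul, ← tmul_sum]
    congr 1
    refine DFinsupp.ext fun s => ?_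
    rw [DFinsupp.finsetSum_apply, Finset.sum_eq_single s]
    · exact (DirectSum.lof_apply A (M := X) s _).symm
    · intro s' _ hs'
      exact DFinsupp.single_eq_of_ne (Ne.symm hs')
    · intro hs
      have h0 : v s = 0 := DFinsupp.notMem_support_iff.1 fun h' => hs (ht' h')
      rw [show DirectSum.component A ι X s v = v s from rfl, h0, map_zero]
      rfl
  | add a b ha hb =>
    obtain ⟨ta, ha⟩ := ha
    obtain ⟨tb, hb⟩ := hb
    refine ⟨ta ∪ tb, fun t' ht' => ?_⟩
    conv_lhs => rw [ha t' (Finset.union_subset_left ht'), hb t' (Finset.union_subset_right ht')]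
    rw [← Finset.sum_add_distrib]
    simp only [map_add]

theorem exists_sum_sigma_ι {ι : Type (u + 1)} (F : ι → MVF A) (B : Alg A) (z : (∐ F).obj (pt B)) :
    ∃ (t : Finset ι) (w : ∀ s, (F s).obj (pt B)), z = ∑ s ∈ t, (Sigma.ι F s).app (pt B) (w s) := by
  classical
  let ev := PresheafOfModules.evaluation.{u + 1} (ringOf A) (pt B)
  have : PreservesColimitsOfShape (Discrete ι) ev :=
    PresheafOfModules.evaluation_preservesColimitsOfShape.{u + 1} (ringOf A) (Discrete ι) (pt B)
  have hc := isColimitOfPreserves ev (colimit.isColimit (Discrete.functor F))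
  let S : Submodule B ((∐ F).obj (pt B)) := ⨆ s, LinearMap.range ((Sigma.ι F s).app (pt B)).hom
  have hz : z ∈ S := by
    have e : (ModuleCat.ofHom (Y := _ ⧸ S) S.mkQ : ev.obj (∐ F) ⟶ ModuleCat.of _ (_ ⧸ S)) = 0 := by
      refine hc.hom_ext fun ⟨s⟩ => ?_
      rw [comp_zero]
      ext x
      exact (Submodule.Quotient.mk_eq_zero S).2 (Submodule.mem_iSup_of_mem s ⟨x, rfl⟩)
    exact (Submodule.Quotient.mk_eq_zero S).1 (congrArg (fun q : ev.obj (∐ F) ⟶ _ => q.hom z) e)
  rw [Submodule.mem_iSup_iff_exists_dfinsupp] at hz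
  obtain ⟨f, rfl⟩ := hz
  choose w hw using fun s => (f s).2
  refine ⟨f.support, w, ?_⟩
  rw [DFinsupp.lsum_apply_apply, DFinsupp.sumAddHom_apply, DFinsupp.sum]
  exact Finset.sum_congr rfl fun s _ => (hw s).symm

theorem adequate_coproduct {ι : Type (u + 1)} (F : ι → MVF A) (hF : ∀ s, adequate A (F s)) :
    adequate A (∐ F) := by
  classical
  choose M N ψ i hi using fun s => (adequate_iff (F s)).1 (hF s)
  let X : ι → Type (u + 1) := fun s => M s
  let Y : ι → Type (u + 1) := fun s => N s
  let Ψ : ModuleCat.of A (DirectSum ι X) ⟶ ModuleCat.of A (DirectSum ι Y) :=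
    ModuleCat.ofHom (DirectSum.toModule A ι (DirectSum ι Y) (M := X) fun s => DirectSum.lof A ι Y s ∘ₗ (ψ s).hom)
  let π : (∐ F) ⟶ U (ModuleCat.of A (DirectSum ι X)) :=
    Sigma.desc fun s => i s ≫ Um (ModuleCat.ofHom (DirectSum.lof A ι X s) : M s ⟶ _)
  have hπ : ∀ (B : Alg A) s (w : (F s).obj (pt B)), π.app (pt B) ((Sigma.ι F s).app (pt B) w) =
      (DirectSum.lof A ι X s).baseChange B ((i s).app (pt B) w) := fun B s w => by
    rw [← comp_app, Sigma.ι_desc]; rfl
  have hΨ : ∀ s, Ψ.hom ∘ₗ DirectSum.lof A ι X s = DirectSum.lof A ι Y s ∘ₗ (ψ s).hom := fun s =>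
    toModule_comp_lof (A := A) (X := X) (fun s => DirectSum.lof A ι Y s ∘ₗ (ψ s).hom) s
  have hcl : ∀ (Z : ι → Type (u + 1)) [∀ s, AddCommGroup (Z s)] [∀ s, Module A (Z s)] (k s : ι), s ≠ k →
      DirectSum.component A ι Z k ∘ₗ DirectSum.lof A ι Z s = 0 := fun Z _ _ k s hne =>
    LinearMap.ext fun v => DFinsupp.single_eq_of_ne (Ne.symm hne)
  have hcl' : ∀ (Z : ι → Type (u + 1)) [∀ s, AddCommGroup (Z s)] [∀ s, Module A (Z s)] (k : ι),
      DirectSum.component A ι Z k ∘ₗ DirectSum.lof A ι Z k = LinearMap.id := fun Z _ _ k =>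
    LinearMap.ext fun v => DirectSum.component.lof_self A k v
  have hco : ∀ s, (ψ s).hom ∘ₗ DirectSum.component A ι X s = DirectSum.component A ι Y s ∘ₗ Ψ.hom := by
    intro s
    refine DirectSum.linearMap_ext A fun s' => ?_
    show (ψ s).hom ∘ₗ (DirectSum.component A ι X s ∘ₗ DirectSum.lof A ι X s') =
      DirectSum.component A ι Y s ∘ₗ (Ψ.hom ∘ₗ DirectSum.lof A ι X s')
    rw [hΨ, ← LinearMap.comp_assoc (ψ s').hom]
    by_cases hs : s' = s
    · subst hs
      rw [hcl', hcl', LinearMap.comp_id, LinearMap.id_comp]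
    · rw [hcl X s s' hs, hcl Y s s' hs, LinearMap.comp_zero, LinearMap.zero_comp]
  refine adequate_of_isKer (ψ := Ψ) (i := π) ⟨fun B => ?_, fun B z => ?_, fun B z hz => ?_⟩
  · rw [injective_iff_map_eq_zero]
    intro z hz
    obtain ⟨t, w, rfl⟩ := exists_sum_sigma_ι F B z
    refine Finset.sum_eq_zero fun k hk => ?_
    have := congrArg ((DirectSum.component A ι X k).baseChange (B : Type u)) hz
    rw [map_zero, map_sum, map_sum, Finset.sum_eq_single k] at this
    · rw [hπ, ← bc_comp_apply, hcl' X k, bc_id_apply] at this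
      rw [(hi k).inj B (this.trans (map_zero _).symm), map_zero]
    · intro s _ hs
      rw [hπ, ← bc_comp_apply, hcl X k s hs, bc_zero_apply]
    · exact fun h => absurd hk h
  · obtain ⟨t, w, rfl⟩ := exists_sum_sigma_ι F B z
    rw [Um_app, map_sum, map_sum]
    refine Finset.sum_eq_zero fun s _ => ?_
    rw [hπ, ← bc_comp_apply, hΨ, bc_comp_apply, show (ψ s).hom.baseChange B ((i s).app (pt B) (w s)) = 0 from
      (hi s).zero B (w s), map_zero]
  · obtain ⟨t, ht⟩ := sum_lof_component (B := (B : Type u)) X z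
    choose w hw using fun s => (hi s).exact B ((DirectSum.component A ι X s).baseChange (B : Type u) z) (by
      rw [Um_app]
      refine (bc_comp_apply (B : Type u) _ _ z).symm.trans ?_
      rw [hco]
      refine (bc_comp_apply (B : Type u) _ _ z).trans ?_
      rw [show Ψ.hom.baseChange B z = 0 from hz, map_zero])
    refine ⟨∑ s ∈ t, (Sigma.ι F s).app (pt B) (w s), ?_⟩
    conv_rhs => rw [ht t subset_rfl]
    rw [map_sum]
    exact Finset.sum_congr rfl fun s _ => by rw [hπ, hw]

theorem adequate_colimit {J : Type (u + 1)} [SmallCategory J] (D : J ⥤ MVF A) (hD : ∀ j, adequate A (D.obj j)) :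
    adequate A (colimit D) := by
  let r : (∐ fun f : (Σ a b : J, a ⟶ b) => D.obj f.1) ⟶ ∐ D.obj :=
    Sigma.desc fun f => Sigma.ι D.obj f.1 - D.map f.2.2 ≫ Sigma.ι D.obj f.2.1
  let c : Cocone D :=
    { pt := cokernel r
      ι := { app := fun j => Sigma.ι D.obj j ≫ cokernel.π r
             naturality := fun a b f => by
              have := congrArg (fun q => Sigma.ι (fun f : (Σ a b : J, a ⟶ b) => D.obj f.1) ⟨a, b, f⟩ ≫ q) (cokernel.condition r)
              simp only [r, Sigma.ι_desc_assoc, comp_zero, Preadditive.sub_comp, sub_eq_zero, Category.assoc] at this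
              simpa using this.symm } }
  let hc : IsColimit c :=
    { desc := fun s => cokernel.desc r (Sigma.desc fun j => s.ι.app j) (by
        refine Sigma.hom_ext _ _ fun f => ?_
        simp [r, Preadditive.sub_comp])
      fac := fun s j => by simp [c]
      uniq := fun s m hm => by
        refine coequalizer.hom_ext ?_
        refine Sigma.hom_ext _ _ fun j => ?_
        simpa [c] using hm j }
  exact (adequate A).prop_of_iso (hc.coconePointUniqueUpToIso (colimit.isColimit D))
    (adequate_cokernel r (adequate_coproduct _ fun f => hD _) (adequate_coproduct _ hD))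

theorem linAdequate_kernel_free {P P' : ModuleCat.{u + 1} A} {κ κ' : Type (u + 1)} [Fintype κ] [Fintype κ']
    (e : Module.Basis κ A P) (e' : Module.Basis κ' A P') (φ₀ : P ⟶ P') : linAdequate A (kernel (Um φ₀)) :=
  ⟨P, P', φ₀, Module.Finite.of_basis e, Module.Free.of_basis e, Module.Finite.of_basis e', Module.Free.of_basis e',
    ⟨Iso.refl _⟩⟩

theorem exists_epi_cofan (F : MVF A) (hF : adequate A F) :
    ∃ (ι : Type (u + 1)) (L : ι → MVF A), (∀ i, linAdequate A (L i)) ∧
      ∃ (c : Cofan L) (_ : IsColimit c) (π : c.pt ⟶ F), Epi π := by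
  obtain ⟨M, N, ψ, i, hi⟩ := (adequate_iff F).1 hF
  choose p P' κ hκ e' φ₀ h l y hl hy using fun s : (Σ B : Alg A, F.obj (pt B)) => exists_fin_cover hi s.1 s.2
  refine ⟨_, fun s => kernel (Um (φ₀ s)), fun s => ?_, colimit.cocone _, colimit.isColimit _, Sigma.desc l,
    epi_of_pt _ fun B x => ⟨(Sigma.ι (fun s => kernel (Um (φ₀ s))) ⟨B, x⟩).app (pt B) (y ⟨B, x⟩), ?_⟩⟩
  · exact linAdequate_kernel_free ((freeFinBasis A (p s)).reindex Equiv.ulift.{u + 1}.symm) (e' s) (φ₀ s)
  · exact (congrArg (fun q : kernel (Um (φ₀ ⟨B, x⟩)) ⟶ F => q.app (pt B) (y ⟨B, x⟩)) (Sigma.ι_desc l ⟨B, x⟩)).trans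
      (hy ⟨B, x⟩)

end Groth.Agent.Adeq
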