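import Mathlib
import Groth.Prelude.Def_Adeq
import Groth.Agent.Adeq.Extend

/-! The universal ring of solutions of a linear system. -/

set_option autoImplicit false
set_option backward.isDefEq.respectTransparency false
universe u
open CategoryTheory Opposite TensorProduct Polynomial

namespace Groth.Agent.Adeq

variable {A : Type u} [CommRing A] {n : ℕ} {κ : Type*} (a : κ → Fin n → A)

/-- the linear forms of the system -/
noncomputable def lin (q : κ) : MvPolynomial (Fin n) A := ∑ i, a q i • MvPolynomial.X i

/-- the universal ring of solutions -/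
def Sol : Type u := UnivRing (lin a)

noncomputable instance : CommRing (Sol a) := inferInstanceAs (CommRing (UnivRing (lin a)))

noncomputable instance : Algebra A (Sol a) := inferInstanceAs (Algebra A (UnivRing (lin a)))

/-- the universal solution -/
noncomputable abbrev solX (i : Fin n) : Sol a := univX (lin a) i

/-- a solution in an algebra -/
def IsSol {B : Type u} [CommRing B] [Algebra A B] (b : Fin n → B) : Prop := ∀ q, ∑ i, a q i • b i = 0

/-- the map classifying a solution -/
noncomputable def solHom {B : Type u} [CommRing B] [Algebra A B] (b : Fin n → B) (hb : IsSol a b) : Sol a →ₐ[A] B :=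
  Ideal.Quotient.liftₐ _ (MvPolynomial.aeval b) fun p hp => by
    have hle : Ideal.span (Set.range (lin a)) ≤ RingHom.ker (MvPolynomial.aeval b) := by
      rw [Ideal.span_le]
      rintro _ ⟨q, rfl⟩
      show MvPolynomial.aeval b (lin a q) = 0
      simpa [lin] using hb q
    exact hle hp

theorem solHom_mk {B : Type u} [CommRing B] [Algebra A B] (b : Fin n → B) (hb : IsSol a b) (p : MvPolynomial (Fin n) A) :
    solHom a b hb (Ideal.Quotient.mk _ p) = MvPolynomial.aeval b p := Ideal.Quotient.lift_mk _ _ _

theorem solHom_X {B : Type u} [CommRing B] [Algebra A B] (b : Fin n → B) (hb : IsSol a b) (i : Fin n) :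
    solHom a b hb (solX a i) = b i := (solHom_mk a b hb _).trans (MvPolynomial.aeval_X _ i)

theorem sol_algHom_ext {B : Type u} [CommRing B] [Algebra A B] {f g : Sol a →ₐ[A] B}
    (h : ∀ i, f (solX a i) = g (solX a i)) : f = g :=
  Ideal.Quotient.algHom_ext _ (MvPolynomial.algHom_ext h)

theorem isSol_solX : IsSol a (solX a) := fun q => by
  have : Ideal.Quotient.mkₐ A (Ideal.span (Set.range (lin a))) (lin a q) = 0 :=
    Ideal.Quotient.eq_zero_iff_mem.2 (Ideal.subset_span ⟨q, rfl⟩)
  simpa [lin] using this

variable {a} in
theorem IsSol.map {B C : Type u} [CommRing B] [Algebra A B] [CommRing C] [Algebra A C] {b : Fin n → B}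
    (hb : IsSol a b) (f : B →ₐ[A] C) : IsSol a (fun i => f (b i)) := fun q => by
  have := congrArg f (hb q)
  simpa using this

variable {a} in
theorem IsSol.smul {B : Type u} [CommRing B] [Algebra A B] {b : Fin n → B}
    (hb : IsSol a b) (c : B) : IsSol a (fun i => c * b i) := fun q => by
  have := congrArg (fun v => c * v) (hb q)
  simpa [Finset.mul_sum, mul_smul_comm] using this

variable {a} in
theorem IsSol.add {B : Type u} [CommRing B] [Algebra A B] {b b' : Fin n → B}
    (hb : IsSol a b) (hb' : IsSol a b') : IsSol a (fun i => b i + b' i) := fun q => by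
  simp only [smul_add, Finset.sum_add_distrib, hb q, hb' q, add_zero]

/-- scaling -/
noncomputable def scaleHom : Sol a →ₐ[A] (Sol a)[X] :=
  solHom a _ (((isSol_solX a).map CAlgHom).smul X)

theorem scaleHom_X (i : Fin n) : scaleHom a (solX a i) = X * C (solX a i) := solHom_X a _ _ i

theorem scaleHom_mk (p : MvPolynomial (Fin n) A) :
    scaleHom a (Ideal.Quotient.mk _ p) = scalePre (lin a) p := solHom_mk a _ _ p

/-- augmentation -/
noncomputable def augHom : Sol a →ₐ[A] A := solHom a (fun _ => 0) (fun q => by simp)

theorem coeff_zero_scaleHom (r : Sol a) : (scaleHom a r).coeff 0 = algebraMap A (Sol a) (augHom a r) := by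
  rw [Polynomial.coeff_zero_eq_eval_zero]
  have : ((Polynomial.aeval (0 : Sol a)).restrictScalars A).comp (scaleHom a) =
      (Algebra.ofId A (Sol a)).comp (augHom a) := sol_algHom_ext a fun i => by
    simp [scaleHom_X, augHom, solHom_X]
  have h := DFunLike.congr_fun this r
  simpa using h

/-- degree-one part -/
noncomputable def degOneR : Sol a →ₗ[A] Sol a := (Polynomial.lcoeff (Sol a) 1).restrictScalars A ∘ₗ (scaleHom a).toLinearMap

theorem degOneR_apply (r : Sol a) : degOneR a r = (scaleHom a r).coeff 1 := rfl

end Groth.Agent.Adeq
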