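import Mathlib
import Groth.Prelude.Def_Adeq
import Groth.Agent.Adeq.UnivRing
import Groth.Agent.Adeq.Colim

/-! Linearly adequate functors lift through epimorphisms with adequate kernel. -/

set_option autoImplicit false
set_option backward.isDefEq.respectTransparency false
universe u
open CategoryTheory CategoryTheory.Limits Opposite TensorProduct

namespace Groth.Agent.Adeq
open _root_.Adeq

variable {A : Type u} [CommRing A]

theorem rTensor_smul_comp {B C : Type u} [CommRing B] [Algebra A B] [CommRing C] [Algebra A C]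
    {M : Type (u + 1)} [AddCommGroup M] [Module A M] (c : C) (f : B →ₗ[A] C) (v : B ⊗[A] M) :
    (LinearMap.mulLeft A c ∘ₗ f).rTensor M v = c • f.rTensor M v := by
  induction v using TensorProduct.induction_on with
  | zero => simp
  | tmul b m => simp [smul_tmul']
  | add x y hx hy => rw [map_add, map_add, smul_add, hx, hy]

theorem repr_rTensor {P : Type (u + 1)} [AddCommGroup P] [Module A P] {ι : Type*} (e : Module.Basis ι A P)
    {B C : Type u} [CommRing B] [Algebra A B] [CommRing C] [Algebra A C] (f : B →ₐ[A] C) (v : B ⊗[A] P) (i : ι) :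
    (e.baseChange C).repr (f.toLinearMap.rTensor P v) i = f ((e.baseChange B).repr v i) := by
  induction v using TensorProduct.induction_on with
  | zero => simp
  | tmul b p => simp [Module.Basis.baseChange_repr_tmul]
  | add x y hx hy => simp only [map_add, Finsupp.add_apply, hx, hy]

theorem polyHom_ext {R C : Type u} [CommRing R] [Algebra A R] [CommRing C] [Algebra A C]
    {f g : Polynomial R →ₐ[A] C} (hC : ∀ r, f (Polynomial.C r) = g (Polynomial.C r))
    (hX : f Polynomial.X = g Polynomial.X) : f = g := by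
  refine AlgHom.ext fun p => ?_
  induction p using Polynomial.induction_on' with
  | add a b ha hb => rw [map_add, map_add, ha, hb]
  | monomial k r => rw [← Polynomial.C_mul_X_pow_eq_monomial, map_mul, map_mul, map_pow, map_pow, hC, hX]

theorem exists_lift_linear {P P' : ModuleCat.{u + 1} A} {n : ℕ} (e : Module.Basis (Fin n) A P) {κ : Type (u + 1)}
    (e' : Module.Basis κ A P') (φ₀ : P ⟶ P') {L : MVF A} {j : L ⟶ U P} (hj : IsKer j (Um φ₀))
    {K G Y : MVF A} {kι : K ⟶ G} {q : G ⟶ Y} (hk : IsKer kι q)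
    (hq : ∀ B : Alg A, Function.Surjective (q.app (pt B))) (hK : adequate A K)
    (φ : L ⟶ Y) : ∃ l : L ⟶ G, l ≫ q = φ := by
  classical
  obtain ⟨M, N, ψ, iK, hiK⟩ := (adequate_iff K).1 hK
  let a : κ → Fin n → A := fun p i => e'.repr (φ₀.hom (e i)) p
  -- coordinates of the values of `L`
  let b : ∀ (B : Alg A), L.obj (pt B) → Fin n → B := fun B y i => (e.baseChange (B : Type u)).repr (j.app (pt B) y) i
  have hb : ∀ B y, IsSol a (b B y) := by
    intro B y p
    have hy : j.app (pt B) y = ∑ i, b B y i ⊗ₜ[A] e i := by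
      conv_lhs => rw [← (e.baseChange (B : Type u)).sum_repr (j.app (pt B) y)]
      refine Finset.sum_congr rfl fun i _ => ?_
      rw [Module.Basis.baseChange_apply, smul_tmul', smul_eq_mul, mul_one]
    have h0 := hj.zero B y
    rw [Um_app, hy] at h0
    have := congrArg (fun v => (e'.baseChange (B : Type u)).repr v p) h0
    simp only [map_sum, LinearMap.baseChange_tmul, Finsupp.coe_finsetSum, Finset.sum_apply,
      Module.Basis.baseChange_repr_tmul, map_zero, Finsupp.coe_zero, Pi.zero_apply] at this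
    exact this
  have hext : ∀ (B : Alg A) (y y' : L.obj (pt B)), (∀ i, b B y i = b B y' i) → y = y' := fun B y y' h =>
    hj.inj B ((e.baseChange (B : Type u)).ext_elem h)
  have hbn : ∀ (B B' : Alg A) (f : B ⟶ B') y i, b B' (mp L f y) i = f.hom (b B y i) := fun B B' f y i => by
    show (e.baseChange (B' : Type u)).repr (j.app (pt B') (mp L f y)) i = _
    rw [mp_natural, mp_U]
    exact repr_rTensor e f.hom _ i
  have hba : ∀ (B : Alg A) y y' i, b B (y + y') i = b B y i + b B y' i := fun B y y' i => by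
    simp only [b, map_add, Finsupp.add_apply]
  have hbs : ∀ (B : Alg A) (c : B) y i, b B (c • y) i = c * b B y i := fun B c y i => by
    show (e.baseChange (B : Type u)).repr (j.app (pt B) (c • y)) i = _
    rw [(j.app (pt B)).hom.map_smul]
    exact congrArg (fun v : Fin n →₀ (B : Type u) => v i) ((e.baseChange (B : Type u)).repr.map_smul c _)
  -- the universal element
  let R : Alg A := algOf A (Sol a)
  let xu : (R : Type u) ⊗[A] P := ∑ i, solX a i ⊗ₜ e i
  have hxu : (Um φ₀).app (pt R) xu = 0 := by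
    show φ₀.hom.baseChange R xu = 0
    refine (e'.baseChange (R : Type u)).ext_elem fun p => ?_
    simp only [xu, map_sum, LinearMap.baseChange_tmul, Finsupp.coe_finsetSum, Finset.sum_apply,
      Module.Basis.baseChange_repr_tmul, map_zero, Finsupp.coe_zero, Pi.zero_apply]
    exact isSol_solX a p
  obtain ⟨x, hx⟩ := hj.exact R xu hxu
  have hbx : ∀ i, b R x i = solX a i := fun i => by
    show (e.baseChange (R : Type u)).repr (j.app (pt R) x) i = _
    rw [hx]
    simp [xu, Module.Basis.baseChange_repr_tmul, Finsupp.single_apply]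
  have hev : ∀ (B : Alg A) (f : R ⟶ B) (y : L.obj (pt B)), (∀ i, f.hom (solX a i) = b B y i) → mp L f x = y :=
    fun B f y h => hext B _ _ fun i => by rw [hbn, hbx, h]
  let R' : Alg A := algOf A (Polynomial (Sol a))
  let T : (R' : Type u) := Polynomial.X
  let sR : R ⟶ R' := CommAlgCat.ofHom (scaleHom a)
  let cR : R ⟶ R' := CommAlgCat.ofHom Polynomial.CAlgHom
  have hscale : mp L sR x = T • mp L cR x := hext R' _ _ fun i => by
    rw [hbs, hbn, hbn, hbx]
    exact scaleHom_X a i
  obtain ⟨y₀, hy₀⟩ := hq R (φ.app (pt R) x)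
  let z := mp G sR y₀ - T • mp G cR y₀
  have hz : q.app (pt R') z = 0 := by
    rw [map_sub, map_smul, mp_natural, mp_natural, hy₀, ← mp_natural, ← mp_natural, ← map_smul, ← map_sub, hscale,
      sub_self, map_zero]
  obtain ⟨zK, hzK⟩ := hk.exact R' z hz
  -- two variables
  let R'' : Alg A := algOf A (Polynomial (Polynomial (Sol a)))
  let Lam : (R'' : Type u) := Polynomial.X
  let σ₀ : Polynomial (Sol a) →ₐ[A] Polynomial (Polynomial (Sol a)) :=
    (Polynomial.aeval (Polynomial.X * Polynomial.C Polynomial.X : Polynomial (Polynomial (Sol a)))).restrictScalars A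
  let σ : R' ⟶ R'' := CommAlgCat.ofHom σ₀
  let CC : R' ⟶ R'' := CommAlgCat.ofHom Polynomial.CAlgHom
  let mapS : R' ⟶ R'' := CommAlgCat.ofHom (Polynomial.mapAlgHom (scaleHom a))
  have σC : ∀ r, σ₀ (Polynomial.C r) = Polynomial.C (Polynomial.C r) := fun r => by
    show Polynomial.aeval _ (Polynomial.C r) = _
    rw [Polynomial.aeval_C]; rfl
  have σX : σ₀ Polynomial.X = Polynomial.X * Polynomial.C Polynomial.X := Polynomial.aeval_X _
  have e1 : sR ≫ mapS = sR ≫ σ := CommAlgCat.hom_ext (sol_algHom_ext a fun i => by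
    show Polynomial.mapAlgHom (scaleHom a) (scaleHom a (solX a i)) = σ₀ (scaleHom a (solX a i))
    rw [scaleHom_X, map_mul σ₀, σC, σX, map_mul]
    show Polynomial.map _ Polynomial.X * Polynomial.map _ (Polynomial.C _) = _
    rw [Polynomial.map_X, Polynomial.map_C]
    show Polynomial.X * Polynomial.C (scaleHom a (solX a i)) = _
    rw [scaleHom_X, map_mul, mul_assoc])
  have e2 : cR ≫ mapS = sR ≫ CC := CommAlgCat.hom_ext (AlgHom.ext fun r => Polynomial.map_C _)
  have e3 : cR ≫ σ = cR ≫ CC := CommAlgCat.hom_ext (AlgHom.ext fun r => σC r)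
  have eT : mapS.hom T = Lam := Polynomial.map_X _
  have eσT : σ.hom T = Lam * CC.hom T := σX
  have hG : mp G mapS z = mp G σ z - Lam • mp G CC z := by
    simp only [z, map_sub, mp_smul, ← mp_comp, e1, e2, e3, eT, eσT, smul_sub, smul_smul]
    abel
  have hKid : mp K mapS zK = mp K σ zK - Lam • mp K CC zK := hk.inj R'' (by
    rw [map_sub, map_smul, mp_natural kι mapS zK, mp_natural kι σ zK, mp_natural kι CC zK, hzK]
    exact hG)
  let zM : (R' : Type u) ⊗[A] M := iK.app (pt R') zK
  have hM : mapS.hom.toLinearMap.rTensor M zM =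
      σ.hom.toLinearMap.rTensor M zM - Lam • CC.hom.toLinearMap.rTensor M zM := by
    have := congrArg (iK.app (pt R'')) hKid
    rw [map_sub, map_smul, mp_natural iK mapS zK, mp_natural iK σ zK, mp_natural iK CC zK] at this
    exact this
  let k : Polynomial (Sol a) →ₗ[A] Sol a := (Polynomial.lcoeff (Sol a) 1).restrictScalars A
  let k' : Polynomial (Polynomial (Sol a)) →ₗ[A] Polynomial (Sol a) :=
    (Polynomial.lcoeff (Polynomial (Sol a)) 1).restrictScalars A
  have hk3 : ∀ v : Polynomial (Sol a) ⊗[A] M, k'.rTensor M (Lam • CC.hom.toLinearMap.rTensor M v) = v := by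
    intro v
    induction v using TensorProduct.induction_on with
    | zero => simp
    | tmul r m =>
      rw [LinearMap.rTensor_tmul, smul_tmul', LinearMap.rTensor_tmul]
      congr 1
      show ((Polynomial.X : Polynomial (Polynomial (Sol a))) * Polynomial.C r).coeff 1 = r
      simp
    | add p p' hp hp' => rw [map_add, smul_add, map_add, hp, hp']
  have hk1 : k' ∘ₗ mapS.hom.toLinearMap = (scaleHom a).toLinearMap ∘ₗ k := LinearMap.ext fun p =>
    Polynomial.coeff_map _ 1
  have hk2 : k' ∘ₗ σ.hom.toLinearMap = LinearMap.mulLeft A T ∘ₗ (cR.hom.toLinearMap ∘ₗ k) := by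
    refine LinearMap.ext fun p => ?_
    induction p using Polynomial.induction_on' with
    | add p p' hp hp' => rw [map_add, map_add, hp, hp']
    | monomial m r =>
      show (σ₀ (Polynomial.monomial m r)).coeff 1 = T * Polynomial.C ((Polynomial.monomial m r).coeff 1)
      rw [← Polynomial.C_mul_X_pow_eq_monomial, map_mul σ₀, map_pow σ₀, σC, σX, mul_pow, ← map_pow, mul_left_comm,
        ← map_mul, Polynomial.coeff_X_pow_mul', Polynomial.coeff_C_mul_X_pow]
      rcases eq_or_ne m 1 with rfl | hm
      · rw [if_pos le_rfl, if_pos rfl, Nat.sub_self, Polynomial.coeff_C_zero, pow_one, mul_comm]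
      · rw [if_neg (Ne.symm hm), map_zero, mul_zero]
        split_ifs with h
        · rw [Polynomial.coeff_C, if_neg (by omega)]
        · rfl
  let w : (R : Type u) ⊗[A] M := k.rTensor M zM
  have hw : (scaleHom a).toLinearMap.rTensor M w = T • cR.hom.toLinearMap.rTensor M w - zM := by
    have := congrArg (k'.rTensor M) hM
    rw [map_sub, hk3, ← LinearMap.rTensor_comp_apply, ← LinearMap.rTensor_comp_apply, hk1, hk2,
      rTensor_smul_comp, LinearMap.rTensor_comp_apply, LinearMap.rTensor_comp_apply] at this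
    exact this
  have hψw : ψ.hom.baseChange R w = 0 := by
    have h0 : ψ.hom.lTensor (R' : Type u) zM = 0 := hiK.zero R' zK
    rw [LinearMap.baseChange_eq_ltensor]
    show ψ.hom.lTensor _ (k.rTensor M zM) = 0
    rw [← LinearMap.comp_apply, LinearMap.lTensor_comp_rTensor, ← LinearMap.rTensor_comp_lTensor,
      LinearMap.comp_apply, h0, map_zero]
  obtain ⟨wK, hwK⟩ := hiK.exact R w hψw
  have hwK' : mp K sR wK = T • mp K cR wK - zK := hiK.inj R' (by
    rw [map_sub, map_smul, mp_natural iK sR wK, mp_natural iK cR wK, mp_U, mp_U, hwK]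
    exact hw)
  let y₁ := y₀ + kι.app (pt R) wK
  have hqy : q.app (pt R) y₁ = φ.app (pt R) x := by
    rw [map_add, hy₀, hk.zero R wK, add_zero]
  have hy₁ : mp G sR y₁ = T • mp G cR y₁ := by
    simp only [y₁, map_add, smul_add]
    rw [← mp_natural kι sR wK, ← mp_natural kι cR wK, hwK', map_sub, map_smul, hzK]
    simp only [z]
    abel
  -- consequences of homogeneity
  have hom_scale : ∀ (B : Alg A) (f : R ⟶ B) (B' : Alg A) (g : R ⟶ B') (c : B ⟶ B') (t : (B' : Type u)),
      (∀ i, g.hom (solX a i) = t * c.hom (f.hom (solX a i))) → mp G g y₁ = t • mp G c (mp G f y₁) := by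
    intro B f B' g c t hg
    let θ₀ : Polynomial (Sol a) →ₐ[A] B' :=
      Polynomial.eval₂AlgHom (c.hom.comp f.hom) t (fun _ => Commute.all _ _)
    let θ : R' ⟶ B' := CommAlgCat.ofHom θ₀
    have θX : θ₀ Polynomial.X = t := Polynomial.eval₂_X _ _
    have θC : ∀ r, θ₀ (Polynomial.C r) = c.hom (f.hom r) := fun r => Polynomial.eval₂_C _ _
    have eg : sR ≫ θ = g := CommAlgCat.hom_ext (sol_algHom_ext a fun i => by
      show θ₀ (scaleHom a (solX a i)) = g.hom (solX a i)
      rw [scaleHom_X, map_mul θ₀, θC, θX, hg])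
    have ec : cR ≫ θ = f ≫ c := CommAlgCat.hom_ext (AlgHom.ext fun r => θC r)
    rw [← eg, mp_comp, hy₁, mp_smul, ← mp_comp, ec, mp_comp]
    show θ₀ Polynomial.X • _ = _
    rw [θX]
  -- additivity
  let R₂ : Alg A := algOf A (Sol a ⊗[A] Sol a)
  let R₂' : Alg A := algOf A (Polynomial (Sol a ⊗[A] Sol a))
  let il : R ⟶ R₂ := CommAlgCat.ofHom Algebra.TensorProduct.includeLeft
  let ir : R ⟶ R₂ := CommAlgCat.ofHom Algebra.TensorProduct.includeRight
  have hsol₂ := ((isSol_solX a).map
    (Algebra.TensorProduct.includeLeft : Sol a →ₐ[A] Sol a ⊗[A] Sol a)).add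
    ((isSol_solX a).map (Algebra.TensorProduct.includeRight : Sol a →ₐ[A] Sol a ⊗[A] Sol a))
  let plus : R ⟶ R₂ := CommAlgCat.ofHom (solHom a _ hsol₂)
  have hplusX : ∀ i, plus.hom (solX a i) = il.hom (solX a i) + ir.hom (solX a i) := fun i => solHom_X a _ hsol₂ i
  have hplusT : ∀ i, plus.hom (solX a i) = solX a i ⊗ₜ[A] 1 + 1 ⊗ₜ[A] solX a i := fun i => solHom_X a _ hsol₂ i
  let δ := mp G plus y₁ - mp G il y₁ - mp G ir y₁
  have hplus : mp L plus x = mp L il x + mp L ir x := hext R₂ _ _ fun i => by
    rw [hba, hbn, hbn, hbn, hbx]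
    exact hplusX i
  have hqδ : q.app (pt R₂) δ = 0 := by
    simp only [δ, map_sub]
    rw [mp_natural q plus y₁, mp_natural q il y₁, mp_natural q ir y₁, hqy, ← mp_natural φ plus x, ← mp_natural φ il x,
      ← mp_natural φ ir x, hplus, map_add]
    abel
  obtain ⟨δK, hδK⟩ := hk.exact R₂ δ hqδ
  let c₂ : R₂ ⟶ R₂' := CommAlgCat.ofHom Polynomial.CAlgHom
  let S₂ : R₂ ⟶ R₂' := CommAlgCat.ofHom (Algebra.TensorProduct.lift
    ((Polynomial.mapAlgHom (Algebra.TensorProduct.includeLeft : Sol a →ₐ[A] Sol a ⊗[A] Sol a)).comp (scaleHom a))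
    ((Polynomial.mapAlgHom (Algebra.TensorProduct.includeRight : Sol a →ₐ[A] Sol a ⊗[A] Sol a)).comp (scaleHom a))
    fun _ _ => Commute.all _ _)
  let X₂ : (R₂' : Type u) := Polynomial.X
  have hS1 : ∀ r, S₂.hom (r ⊗ₜ[A] 1) =
      Polynomial.map (Algebra.TensorProduct.includeLeft : Sol a →ₐ[A] Sol a ⊗[A] Sol a).toRingHom (scaleHom a r) :=
    fun r => by
      simp only [S₂, CommAlgCat.hom_ofHom]
      exact (Algebra.TensorProduct.lift_tmul _ _ _ r 1).trans (by rw [map_one, mul_one]; rfl)
  have hS2 : ∀ r, S₂.hom (1 ⊗ₜ[A] r) =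
      Polynomial.map (Algebra.TensorProduct.includeRight : Sol a →ₐ[A] Sol a ⊗[A] Sol a).toRingHom (scaleHom a r) :=
    fun r => by
      simp only [S₂, CommAlgCat.hom_ofHom]
      exact (Algebra.TensorProduct.lift_tmul _ _ _ 1 r).trans (by rw [map_one, one_mul]; rfl)
  have hSl : ∀ i, S₂.hom (il.hom (solX a i)) = X₂ * c₂.hom (il.hom (solX a i)) := fun i => by
    refine (hS1 (solX a i)).trans ?_
    rw [scaleHom_X, Polynomial.map_mul, Polynomial.map_X, Polynomial.map_C]
    rfl
  have hSr : ∀ i, S₂.hom (ir.hom (solX a i)) = X₂ * c₂.hom (ir.hom (solX a i)) := fun i => by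
    refine (hS2 (solX a i)).trans ?_
    rw [scaleHom_X, Polynomial.map_mul, Polynomial.map_X, Polynomial.map_C]
    rfl
  have hδscale : mp G S₂ δ = X₂ • mp G c₂ δ := by
    simp only [δ, map_sub, ← mp_comp, smul_sub]
    rw [hom_scale R₂ plus R₂' (plus ≫ S₂) c₂ X₂ fun i => by
        show S₂.hom (plus.hom (solX a i)) = X₂ * c₂.hom (plus.hom (solX a i))
        rw [hplusX i]
        simp only [map_add, mul_add, hSl i, hSr i],
      hom_scale R₂ il R₂' (il ≫ S₂) c₂ X₂ hSl, hom_scale R₂ ir R₂' (ir ≫ S₂) c₂ X₂ hSr]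
    simp only [mp_comp]
  let pl : R₂ ⟶ R := CommAlgCat.ofHom (Algebra.TensorProduct.lift (AlgHom.id A (Sol a))
    ((Algebra.ofId A (Sol a)).comp (augHom a)) fun _ _ => Commute.all _ _)
  let pr : R₂ ⟶ R := CommAlgCat.ofHom (Algebra.TensorProduct.lift ((Algebra.ofId A (Sol a)).comp (augHom a))
    (AlgHom.id A (Sol a)) fun _ _ => Commute.all _ _)
  let aug : R ⟶ R := CommAlgCat.ofHom ((Algebra.ofId A (Sol a)).comp (augHom a))
  have haug : mp G aug y₁ = 0 := by
    have := hom_scale R (𝟙 R) R aug (𝟙 R) 0 fun i => by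
      show algebraMap A (Sol a) (augHom a (solX a i)) = 0 * _
      rw [augHom, solHom_X, map_zero, zero_mul]
    rw [this, zero_smul]
  have hplT : ∀ r r' : Sol a, pl.hom (r ⊗ₜ[A] r') = r * algebraMap A (Sol a) (augHom a r') := fun r r' => by
    simp only [pl, CommAlgCat.hom_ofHom]
    exact Algebra.TensorProduct.lift_tmul _ _ _ r r'
  have hprT : ∀ r r' : Sol a, pr.hom (r ⊗ₜ[A] r') = algebraMap A (Sol a) (augHom a r) * r' := fun r r' => by
    simp only [pr, CommAlgCat.hom_ofHom]
    exact Algebra.TensorProduct.lift_tmul _ _ _ r r'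
  have haugX : ∀ i, augHom a (solX a i) = 0 := fun i => solHom_X a _ _ i
  have hpl : mp G pl δ = 0 := by
    simp only [δ, map_sub, ← mp_comp]
    rw [show plus ≫ pl = 𝟙 R from CommAlgCat.hom_ext (sol_algHom_ext a fun i => by
        show pl.hom (plus.hom (solX a i)) = solX a i
        rw [hplusT i, map_add, hplT, hplT, haugX, map_one, map_one, map_zero, mul_one, mul_zero, add_zero]),
      show il ≫ pl = 𝟙 R from CommAlgCat.hom_ext (AlgHom.ext fun r => by
        show pl.hom (r ⊗ₜ[A] 1) = r
        rw [hplT, map_one, map_one, mul_one]),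
      show ir ≫ pl = aug from CommAlgCat.hom_ext (AlgHom.ext fun r => by
        show pl.hom (1 ⊗ₜ[A] r) = aug.hom r
        rw [hplT, one_mul]; rfl), haug, sub_self, sub_zero]
  have hpr : mp G pr δ = 0 := by
    simp only [δ, map_sub, ← mp_comp]
    rw [show plus ≫ pr = 𝟙 R from CommAlgCat.hom_ext (sol_algHom_ext a fun i => by
        show pr.hom (plus.hom (solX a i)) = solX a i
        rw [hplusT i, map_add, hprT, hprT, haugX, map_one, map_one, map_zero, one_mul, zero_mul, zero_add]),
      show il ≫ pr = aug from CommAlgCat.hom_ext (AlgHom.ext fun r => by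
        show pr.hom (r ⊗ₜ[A] 1) = aug.hom r
        rw [hprT, mul_one]; rfl),
      show ir ≫ pr = 𝟙 R from CommAlgCat.hom_ext (AlgHom.ext fun r => by
        show pr.hom (1 ⊗ₜ[A] r) = r
        rw [hprT, map_one, map_one, one_mul]), haug, sub_zero, sub_self]
  let δM : (R₂ : Type u) ⊗[A] M := iK.app (pt R₂) δK
  have hδM : S₂.hom.toLinearMap.rTensor M δM = X₂ • c₂.hom.toLinearMap.rTensor M δM := by
    have h0 : mp K S₂ δK = X₂ • mp K c₂ δK := hk.inj R₂' (by
      rw [mp_natural kι S₂ δK, map_smul, mp_natural kι c₂ δK, hδK]; exact hδscale)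
    have := congrArg (iK.app (pt R₂')) h0
    rw [map_smul, mp_natural iK S₂ δK, mp_natural iK c₂ δK, mp_U, mp_U] at this
    exact this
  have hδ0 : δ = 0 := by
    let k₂ : Polynomial (Sol a ⊗[A] Sol a) →ₗ[A] Sol a ⊗[A] Sol a :=
      (Polynomial.lcoeff (Sol a ⊗[A] Sol a) 1).restrictScalars A
    have hk4 : ∀ v : (Sol a ⊗[A] Sol a) ⊗[A] M, k₂.rTensor M (X₂ • c₂.hom.toLinearMap.rTensor M v) = v := by
      intro v
      induction v using TensorProduct.induction_on with
      | zero => simp
      | tmul r m =>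
        rw [LinearMap.rTensor_tmul, smul_tmul', LinearMap.rTensor_tmul]
        congr 1
        show ((Polynomial.X : Polynomial (Sol a ⊗[A] Sol a)) * Polynomial.C r).coeff 1 = r
        simp
      | add p p' hp hp' => rw [map_add, smul_add, map_add, hp, hp']
    have hsplit : k₂ ∘ₗ S₂.hom.toLinearMap =
        il.hom.toLinearMap ∘ₗ degOneR a ∘ₗ pl.hom.toLinearMap + ir.hom.toLinearMap ∘ₗ degOneR a ∘ₗ pr.hom.toLinearMap := by
      refine TensorProduct.ext' fun r r' => ?_
      show (S₂.hom (r ⊗ₜ[A] r')).coeff 1 = il.hom (degOneR a (pl.hom (r ⊗ₜ[A] r'))) + ir.hom (degOneR a (pr.hom (r ⊗ₜ[A] r')))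
      have e0 : r ⊗ₜ[A] r' = (r ⊗ₜ[A] 1) * ((1 : Sol a) ⊗ₜ[A] r') := by simp
      have ep : pl.hom (r ⊗ₜ[A] r') = augHom a r' • r := by rw [hplT, Algebra.smul_def, mul_comm]
      have eq' : pr.hom (r ⊗ₜ[A] r') = augHom a r • r' := by rw [hprT, Algebra.smul_def]
      rw [ep, eq', map_smul, map_smul, map_smul, map_smul, degOneR_apply, degOneR_apply]
      conv_lhs => rw [e0, map_mul, hS1, hS2, Polynomial.coeff_mul,
        Finset.Nat.sum_antidiagonal_eq_sum_range_succ (fun i j => (Polynomial.map _ (scaleHom a r)).coeff i *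
          (Polynomial.map _ (scaleHom a r')).coeff j), Finset.sum_range_succ, Finset.sum_range_one]
      simp only [Polynomial.coeff_map, Nat.sub_zero, Nat.sub_self, coeff_zero_scaleHom, AlgHom.toRingHom_eq_coe,
        RingHom.coe_coe, AlgHom.commutes, ← Algebra.smul_def]
      rw [add_comm, mul_comm, ← Algebra.smul_def]
      rfl
    have h1 : δM = k₂.rTensor M (S₂.hom.toLinearMap.rTensor M δM) := by rw [hδM, hk4]
    rw [← LinearMap.rTensor_comp_apply, hsplit, LinearMap.rTensor_add, LinearMap.add_apply] at h1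
    simp only [LinearMap.rTensor_comp_apply] at h1
    have z1 : pl.hom.toLinearMap.rTensor M δM = 0 := by
      have : mp K pl δK = 0 := hk.inj R (by rw [mp_natural kι pl δK, hδK, hpl, map_zero])
      have := congrArg (iK.app (pt R)) this
      rw [mp_natural iK pl δK, mp_U, map_zero] at this
      exact this
    have z2 : pr.hom.toLinearMap.rTensor M δM = 0 := by
      have : mp K pr δK = 0 := hk.inj R (by rw [mp_natural kι pr δK, hδK, hpr, map_zero])
      have := congrArg (iK.app (pt R)) this
      rw [mp_natural iK pr δK, mp_U, map_zero] at this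
      exact this
    rw [z1, z2] at h1
    simp only [map_zero, add_zero] at h1
    rw [← hδK, hiK.inj R₂ (h1.trans (map_zero _).symm), map_zero]
  -- the lift
  let ev : ∀ (B : Alg A), L.obj (pt B) → (R ⟶ B) := fun B y => CommAlgCat.ofHom (solHom a (b B y) (hb B y))
  have hevX : ∀ B y i, (ev B y).hom (solX a i) = b B y i := fun B y i => solHom_X a _ (hb B y) i
  let l : L ⟶ G :=
    { app := fun X => ModuleCat.ofHom
        { toFun := fun y => mp G (ev X.unop.unop y) y₁
          map_add' := fun y y' => by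
            let B := X.unop.unop
            let θ : R₂ ⟶ B := CommAlgCat.ofHom (Algebra.TensorProduct.lift (ev B y).hom (ev B y').hom
              fun _ _ => Commute.all _ _)
            have hθT : ∀ r r' : Sol a, θ.hom (r ⊗ₜ[A] r') = (ev B y).hom r * (ev B y').hom r' := fun r r' => by
              simp only [θ, CommAlgCat.hom_ofHom]
              exact Algebra.TensorProduct.lift_tmul _ _ _ r r'
            have h := congrArg (mp G θ) hδ0
            simp only [δ, map_sub, ← mp_comp, map_zero] at h
            rw [show plus ≫ θ = ev B (y + y') from CommAlgCat.hom_ext (sol_algHom_ext a fun i => by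
                show θ.hom (plus.hom (solX a i)) = _
                rw [hplusT i, hevX]
                refine (map_add θ.hom _ _).trans ?_
                rw [hba]
                refine congrArg₂ (· + ·) ?_ ?_
                · rw [hθT, hevX, map_one, mul_one]
                · rw [hθT, hevX, map_one, one_mul]),
              show il ≫ θ = ev B y from CommAlgCat.hom_ext (AlgHom.ext fun r => by
                show θ.hom (r ⊗ₜ[A] 1) = _
                rw [hθT, map_one, mul_one]),
              show ir ≫ θ = ev B y' from CommAlgCat.hom_ext (AlgHom.ext fun r => by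
                show θ.hom (1 ⊗ₜ[A] r) = _
                rw [hθT, map_one, one_mul]),
              sub_sub, sub_eq_zero] at h
            exact h
          map_smul' := fun c y => by
            let B := X.unop.unop
            have h := hom_scale B (ev B y) B (ev B (c • y)) (𝟙 B) c fun i => by
              rw [hevX, hbs]
              show _ = c * (ev B y).hom (solX a i)
              rw [hevX]
            rw [mp_id] at h
            exact h }
      naturality := fun {X X'} f => by
        ext y
        show mp G (ev X'.unop.unop (mp L f.unop.unop y)) y₁ = mp G f.unop.unop (mp G (ev X.unop.unop y) y₁)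
        rw [← mp_comp]
        congr 1
        congr 1
        exact CommAlgCat.hom_ext (sol_algHom_ext a fun i => by
          show _ = f.unop.unop.hom ((ev X.unop.unop y).hom (solX a i))
          rw [hevX, hevX, hbn]) }
  refine ⟨l, hom_ext_pt fun B y => ?_⟩
  show q.app (pt B) (mp G (ev B y) y₁) = φ.app (pt B) y
  rw [mp_natural q (ev B y) y₁, hqy, ← mp_natural φ (ev B y) x, hev B (ev B y) y (hevX B y)]

end Groth.Agent.Adeq
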