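import Mathlib
import Groth.Prelude.Def_Adeq
import Groth.Agent.Adeq.Lift
import Groth.Agent.Adeq.Inj

/-! Extensions of adequate functors, the coreflector, injectives. -/

set_option autoImplicit false
set_option backward.isDefEq.respectTransparency false
universe u
open CategoryTheory CategoryTheory.Limits Opposite TensorProduct

namespace Groth.Agent.Adeq
open _root_.Adeq

variable {A : Type u} [CommRing A]

theorem adequate_of_linAdequate {L : MVF A} (hL : linAdequate A L) : adequate A L := by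
  obtain ⟨M, N, φ, _, _, _, _, h⟩ := hL
  exact ⟨M, N, φ, h⟩

theorem adequate_of_iso_U {F : MVF A} (M : ModuleCat.{u + 1} A) (e : F ≅ U M) : adequate A F := by
  refine adequate_of_isKer (ψ := (0 : M ⟶ M)) (i := e.hom) ⟨fun B => injective_pt e.hom B, fun B y => ?_, fun B x _ => ?_⟩
  · rw [Um_app]
    exact bc_zero_apply (B : Type u) _
  · exact surjective_pt e.hom B x

theorem isKer_of_shortExact {S : ShortComplex (MVF A)} (hS : S.ShortExact) : IsKer S.f S.g := by
  let e := IsLimit.conePointUniqueUpToIso hS.fIsKernel (limit.isLimit (parallelPair S.g 0))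
  have he : e.hom ≫ kernel.ι S.g = S.f :=
    IsLimit.conePointUniqueUpToIso_hom_comp hS.fIsKernel (limit.isLimit _) WalkingParallelPair.zero
  rw [← he]
  exact (isKer_kernel S.g).of_iso e

theorem exists_lift_of_linAdequate {L : MVF A} (hL : linAdequate A L) {K G Y : MVF A} {kι : K ⟶ G} {q : G ⟶ Y}
    (hk : IsKer kι q) (hq : ∀ B : Alg A, Function.Surjective (q.app (pt B))) (hK : adequate A K) (φ : L ⟶ Y) :
    ∃ l : L ⟶ G, l ≫ q = φ := by
  classical
  obtain ⟨P, P', φ₀, hP, hP', hQ, hQ', ⟨e⟩⟩ := hL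
  exact exists_lift_linear ((Module.Free.chooseBasis A P).reindex (Fintype.equivFin _))
    (Module.Free.chooseBasis A P') φ₀ ((isKer_kernel (Um φ₀)).of_iso e) hk hq hK φ

/-- a lift of a jointly surjective family of linearly adequate functors -/
theorem adequate_of_extension {X G Y : MVF A} {f : X ⟶ G} {g : G ⟶ Y} (hk : IsKer f g)
    (hg : ∀ B : Alg A, Function.Surjective (g.app (pt B))) (hX : adequate A X) (hY : adequate A Y) : adequate A G := by
  classical
  obtain ⟨ι, L, hL, c, hc, π, hπ⟩ := exists_epi_cofan Y hY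
  choose l hl using fun i => exists_lift_of_linAdequate (hL i) hk hg hX (c.inj i ≫ π)
  have hP : adequate A c.pt := (adequate A).prop_of_iso ((colimit.isColimit _).coconePointUniqueUpToIso hc)
    (adequate_coproduct L fun i => adequate_of_linAdequate (hL i))
  let p : c.pt ⟶ G := Cofan.IsColimit.desc hc l
  have hp : p ≫ g = π := Cofan.IsColimit.hom_ext hc _ _ fun i => by
    rw [← Category.assoc, Cofan.IsColimit.fac, hl]
  obtain ⟨w, hw⟩ := hk.exists_lift (kernel.ι π ≫ p) fun B y => by
    rw [← comp_app, Category.assoc, hp, kernel.condition]; rfl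
  let F : ULift.{u + 1} Bool → MVF A := fun b => bif b.down then X else c.pt
  let iX : X ⟶ ∐ F := Sigma.ι F ⟨true⟩
  let iP : c.pt ⟶ ∐ F := Sigma.ι F ⟨false⟩
  let d : (∐ F) ⟶ G := Sigma.desc fun
    | ⟨true⟩ => f
    | ⟨false⟩ => p
  have dX : iX ≫ d = f := Sigma.ι_desc _ _
  have dP : iP ≫ d = p := Sigma.ι_desc _ _
  let r : kernel π ⟶ ∐ F := kernel.ι π ≫ iP - w ≫ iX
  have hr : r ≫ d = 0 := by
    simp only [r, Preadditive.sub_comp, Category.assoc, dX, dP, hw, sub_self]
  let Φ : cokernel r ⟶ G := cokernel.desc r d hr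
  have hF : ∀ b, adequate A (F b) := by
    rintro ⟨_ | _⟩
    · exact hP
    · exact hX
  have hdec : ∀ (B : Alg A) (z : (∐ F).obj (pt B)), ∃ a b, z = iX.app (pt B) a + iP.app (pt B) b := by
    intro B z
    obtain ⟨t, v, rfl⟩ := exists_sum_sigma_ι F B z
    refine Finset.sum_induction _ (fun z => ∃ a b, z = iX.app (pt B) a + iP.app (pt B) b) ?_ ⟨0, 0, by simp⟩ ?_
    · rintro _ _ ⟨a, b, rfl⟩ ⟨a', b', rfl⟩
      exact ⟨a + a', b + b', by rw [map_add, map_add]; abel⟩
    · rintro ⟨_ | _⟩ _
      · exact ⟨0, v ⟨false⟩, by rw [map_zero, zero_add]; rfl⟩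
      · exact ⟨v ⟨true⟩, 0, by rw [map_zero, add_zero]; rfl⟩
  have hcomp : ∀ (B : Alg A) z, Φ.app (pt B) ((cokernel.π r).app (pt B) z) = d.app (pt B) z := fun B z => by
    rw [← comp_app, cokernel.π_desc]
  have : IsIso Φ := isIso_of_pt Φ fun B => by
    constructor
    · rw [injective_iff_map_eq_zero]
      intro z hz
      obtain ⟨z, rfl⟩ := surjective_pt (cokernel.π r) B z
      obtain ⟨a, b, rfl⟩ := hdec B z
      rw [hcomp, map_add, ← comp_app, ← comp_app, dX, dP] at hz
      have hb : π.app (pt B) b = 0 := by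
        have := congrArg (g.app (pt B)) hz
        rwa [map_add, hk.zero, zero_add, map_zero, ← comp_app, hp] at this
      obtain ⟨k, rfl⟩ := (isKer_kernel π).exact B b hb
      have ha : a + w.app (pt B) k = 0 := hk.inj B (by
        rw [map_add, map_zero, ← comp_app w f, hw, comp_app]
        exact hz)
      have e : iX.app (pt B) a + iP.app (pt B) ((kernel.ι π).app (pt B) k) = r.app (pt B) k := by
        rw [eq_neg_of_add_eq_zero_left ha, map_neg, ← comp_app, ← comp_app]
        show _ = (kernel.ι π ≫ iP).app (pt B) k - (w ≫ iX).app (pt B) k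
        abel
      rw [e, ← comp_app, cokernel.condition]
      rfl
    · intro x
      obtain ⟨y, hy⟩ := surjective_pt π B (g.app (pt B) x)
      obtain ⟨a, ha⟩ := hk.exact B (x - p.app (pt B) y) (by
        rw [map_sub, ← comp_app p g, hp, hy, sub_self])
      refine ⟨(cokernel.π r).app (pt B) (iX.app (pt B) a + iP.app (pt B) y), ?_⟩
      rw [hcomp, map_add, ← comp_app, ← comp_app, dX, dP, ha, sub_add_cancel]
  exact (adequate A).prop_of_iso (asIso Φ)
    (adequate_cokernel r (adequate_kernel π hP hY) (adequate_coproduct F hF))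

/-- index of the standard linearly adequate functors -/
abbrev LinData (A : Type u) : Type u := Σ n : ℕ, Σ m : ℕ, Fin n → Fin m → A

/-- the standard map -/
noncomputable def linMap (d : LinData A) : freeFin A d.1 ⟶ freeFin A d.2.1 :=
  ModuleCat.ofHom ((freeFinBasis A d.1).constr A fun i => ∑ k, d.2.2 i k • freeFinBasis A d.2.1 k)

/-- the standard linearly adequate functor -/
noncomputable def linObj (d : LinData A) : MVF A := kernel (Um (linMap d))

theorem linAdequate_linObj (d : LinData A) : linAdequate A (linObj d) :=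
  linAdequate_kernel_free ((freeFinBasis A d.1).reindex Equiv.ulift.{u + 1}.symm)
    ((freeFinBasis A d.2.1).reindex Equiv.ulift.{u + 1}.symm) _

theorem exists_iso_linObj {L : MVF A} (hL : linAdequate A L) : ∃ d : LinData A, Nonempty (L ≅ linObj d) := by
  classical
  obtain ⟨P, P', φ₀, hP, hP', hQ, hQ', ⟨e⟩⟩ := hL
  let b := (Module.Free.chooseBasis A P).reindex (Fintype.equivFin _)
  let b' := (Module.Free.chooseBasis A P').reindex (Fintype.equivFin _)
  let d : LinData A := ⟨_, _, fun i k => b'.repr (φ₀.hom (b i)) k⟩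
  let eP : P ≅ freeFin A d.1 := (b.equiv (freeFinBasis A d.1) (Equiv.refl _)).toModuleIso
  let eP' : P' ≅ freeFin A d.2.1 := (b'.equiv (freeFinBasis A d.2.1) (Equiv.refl _)).toModuleIso
  have h : φ₀ ≫ eP'.hom = eP.hom ≫ linMap d := by
    refine ModuleCat.hom_ext (b.ext fun i => ?_)
    show b'.equiv (freeFinBasis A d.2.1) (Equiv.refl _) (φ₀.hom (b i)) =
      (freeFinBasis A d.1).constr A _ (b.equiv (freeFinBasis A d.1) (Equiv.refl _) (b i))
    rw [Module.Basis.equiv_apply, Equiv.refl_apply, Module.Basis.constr_basis]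
    conv_lhs => rw [← b'.sum_repr (φ₀.hom (b i))]
    simp only [map_sum, map_smul, Module.Basis.equiv_apply, Equiv.refl_apply, d]
  exact ⟨d, ⟨e ≪≫ kernel.mapIso _ _ ((underline A).mapIso eP) ((underline A).mapIso eP') (by
    show (underline A).map φ₀ ≫ (underline A).map eP'.hom = (underline A).map eP.hom ≫ (underline A).map (linMap d)
    rw [← Functor.map_comp, ← Functor.map_comp, h])⟩⟩

variable (F : MVF A)

/-- all maps from standard linearly adequate functors -/
def qGen : Type (u + 1) := Σ d : LinData A, (linObj d ⟶ F)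

/-- their coproduct -/
noncomputable def qL0 : MVF A := ∐ fun s : qGen F => linObj s.1

/-- evaluation -/
noncomputable def qπ0 : qL0 F ⟶ F := Sigma.desc fun s => s.2

/-- relations -/
def qRel : Type (u + 1) := Σ d : LinData A, {h : linObj d ⟶ qL0 F // h ≫ qπ0 F = 0}

/-- relation map -/
noncomputable def qr : (∐ fun s : qRel F => linObj s.1) ⟶ qL0 F := Sigma.desc fun s => s.2.1

/-- the coreflection -/
noncomputable def Q : MVF A := cokernel (qr F)

/-- the counit -/
noncomputable def qε : Q F ⟶ F := cokernel.desc (qr F) (qπ0 F) (Sigma.hom_ext _ _ fun s => by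
  rw [← Category.assoc, show Sigma.ι (fun s : qRel F => linObj s.1) s ≫ qr F = s.2.1 from Sigma.ι_desc _ _, s.2.2,
    comp_zero])

theorem adequate_Q : adequate A (Q F) :=
  adequate_cokernel _ (adequate_coproduct _ fun s => adequate_of_linAdequate (linAdequate_linObj s.1))
    (adequate_coproduct _ fun s => adequate_of_linAdequate (linAdequate_linObj s.1))

theorem qε_linear_unique {L : MVF A} (hL : linAdequate A L) (g : L ⟶ Q F) (hg : g ≫ qε F = 0) : g = 0 := by
  obtain ⟨d, ⟨e⟩⟩ := exists_iso_linObj hL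
  have hQ := adequate_Q F
  obtain ⟨l, hl⟩ := exists_lift_of_linAdequate (linAdequate_linObj d) (isKer_kernel (cokernel.π (qr F)))
    (fun B => surjective_pt _ B)
    (adequate_kernel _ (adequate_coproduct _ fun s => adequate_of_linAdequate (linAdequate_linObj s.1)) hQ)
    (e.inv ≫ g)
  have h0 : l ≫ qπ0 F = 0 := by
    have : cokernel.π (qr F) ≫ qε F = qπ0 F := cokernel.π_desc _ _ _
    rw [← this, ← Category.assoc, hl, Category.assoc, hg, comp_zero]
  have h1 : l ≫ cokernel.π (qr F) = 0 := by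
    have : Sigma.ι (fun s : qRel F => linObj s.1) ⟨d, l, h0⟩ ≫ qr F = l := Sigma.ι_desc _ _
    rw [← this, Category.assoc, cokernel.condition, comp_zero]
  rw [← cancel_epi e.inv, comp_zero]
  exact hl.symm.trans h1

theorem qε_linear_exists {L : MVF A} (hL : linAdequate A L) (φ : L ⟶ F) : ∃ g : L ⟶ Q F, g ≫ qε F = φ := by
  obtain ⟨d, ⟨e⟩⟩ := exists_iso_linObj hL
  refine ⟨e.hom ≫ Sigma.ι (fun s : qGen F => linObj s.1) ⟨d, e.inv ≫ φ⟩ ≫ cokernel.π (qr F), ?_⟩
  have h1 : cokernel.π (qr F) ≫ qε F = qπ0 F := cokernel.π_desc _ _ _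
  simp only [Category.assoc, h1]
  rw [show Sigma.ι (fun s : qGen F => linObj s.1) ⟨d, e.inv ≫ φ⟩ ≫ qπ0 F = e.inv ≫ φ from Sigma.ι_desc _ _,
    Iso.hom_inv_id_assoc]

theorem qε_unique {T : MVF A} (hT : adequate A T) (g : T ⟶ Q F) (hg : g ≫ qε F = 0) : g = 0 := by
  obtain ⟨ι, L, hL, c, hc, π, hπ⟩ := exists_epi_cofan T hT
  rw [← cancel_epi π, comp_zero]
  refine Cofan.IsColimit.hom_ext hc _ _ fun i => ?_
  rw [comp_zero]
  exact qε_linear_unique F (hL i) _ (by simp only [Category.assoc, hg, comp_zero])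

theorem qε_existsUnique {T : MVF A} (hT : adequate A T) (φ : T ⟶ F) : ∃! g : T ⟶ Q F, g ≫ qε F = φ := by
  obtain ⟨ι, L, hL, c, hc, π, hπ⟩ := exists_epi_cofan T hT
  choose g hg using fun i => qε_linear_exists F (hL i) (c.inj i ≫ π ≫ φ)
  let G : c.pt ⟶ Q F := Cofan.IsColimit.desc hc g
  have hG : G ≫ qε F = π ≫ φ := Cofan.IsColimit.hom_ext hc _ _ fun i => by
    rw [← Category.assoc, Cofan.IsColimit.fac, hg]
  have hP : adequate A c.pt := (adequate A).prop_of_iso ((colimit.isColimit _).coconePointUniqueUpToIso hc)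
    (adequate_coproduct L fun i => adequate_of_linAdequate (hL i))
  have h0 : kernel.ι π ≫ G = 0 := qε_unique F (adequate_kernel π hP hT) _ (by
    rw [Category.assoc, hG, kernel.condition_assoc, zero_comp])
  obtain ⟨g₀, hg₀⟩ : ∃ g₀ : T ⟶ Q F, π ≫ g₀ = G :=
    ⟨_, (Abelian.epiIsCokernelOfKernel _ (kernelIsKernel π)).fac (CokernelCofork.ofπ G h0) WalkingParallelPair.one⟩
  have he : g₀ ≫ qε F = φ := by rw [← cancel_epi π, ← Category.assoc, hg₀, hG]
  refine ⟨g₀, he, fun g' hg' => ?_⟩
  refine sub_eq_zero.1 (qε_unique F hT _ ?_)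
  rw [Preadditive.sub_comp, hg', he, sub_self]

theorem isLeftAdjoint_ι : (adequate A).ι.IsLeftAdjoint := by
  let e : ∀ (T : Adequate A) (F : MVF A), ((adequate A).ι.obj T ⟶ F) ≃ (T ⟶ (⟨Q F, adequate_Q F⟩ : Adequate A)) := fun T F =>
    (Equiv.ofBijective (fun g : T ⟶ ⟨Q F, adequate_Q F⟩ => (adequate A).ι.map g ≫ qε F) ⟨fun g g' h => by
      refine (adequate A).ι.map_injective ?_
      exact sub_eq_zero.1 (qε_unique F T.property _ (by rw [Preadditive.sub_comp, sub_eq_zero]; exact h)),
      fun φ => by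
        obtain ⟨g, hg, _⟩ := qε_existsUnique F T.property φ
        exact ⟨ObjectProperty.homMk g, hg⟩⟩).symm
  refine ⟨_, ⟨Adjunction.adjunctionOfEquivRight e fun T' T F f g => ?_⟩⟩
  refine (Equiv.symm_apply_eq _).2 ?_
  show (adequate A).ι.map f ≫ g = (adequate A).ι.map (f ≫ (e T F) g) ≫ qε F
  rw [Functor.map_comp, Category.assoc]
  congr 1
  exact ((e T F).symm_apply_apply g).symm

theorem mono_ι_map {X Y : Adequate A} (φ : X ⟶ Y) [Mono φ] : Mono ((adequate A).ι.map φ) := by
  let K : Adequate A := ⟨kernel ((adequate A).ι.map φ), adequate_kernel _ X.property Y.property⟩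
  let k : K ⟶ X := ObjectProperty.homMk (kernel.ι _)
  have h : k ≫ φ = (ObjectProperty.homMk (0 : K.obj ⟶ X.obj)) ≫ φ := by
    refine (adequate A).ι.map_injective ?_
    show kernel.ι _ ≫ (adequate A).ι.map φ = 0 ≫ (adequate A).ι.map φ
    rw [kernel.condition, zero_comp]
  exact Preadditive.mono_of_kernel_zero (congrArg (adequate A).ι.map ((cancel_mono φ).1 h))

theorem enoughInjectives_adequate : EnoughInjectives (Adequate A) := by
  have := isLeftAdjoint_ι (A := A)
  have := enoughInjectives_MVF A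
  have : (adequate A).ι.PreservesMonomorphisms := ⟨fun φ => mono_ι_map φ⟩
  exact EnoughInjectives.of_adjunction (Adjunction.ofIsLeftAdjoint (adequate A).ι)

end Groth.Agent.Adeq
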