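import Mathlib
import Groth.Prelude.Def_Adeq
import Groth.Agent.Adeq.Colim

/-! Change of rings for adequate functors. -/

set_option autoImplicit false
set_option backward.isDefEq.respectTransparency false
universe u
open CategoryTheory CategoryTheory.Limits Opposite TensorProduct

namespace Groth.Agent.Adeq
open _root_.Adeq

variable {A : Type u} [CommRing A]

/-- build a morphism from maps on the values -/
noncomputable def mkHom {F G : MVF A} (f : ∀ B : Alg A, F.obj (pt B) →+ G.obj (pt B))
    (hf : ∀ (B B' : Alg A) (g : B ⟶ B') x, f B' (mp F g x) = mp G g (f B x))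
    (hl : ∀ (B : Alg A) (b : (B : Type u)) x, f B (b • x) = b • f B x) : F ⟶ G :=
  PresheafOfModules.homMk
    { app := fun X => AddCommGrpCat.ofHom (f X.unop.unop)
      naturality := fun X Y g => by
        ext x
        exact hf X.unop.unop Y.unop.unop g.unop.unop x }
    (fun X r m => hl X.unop.unop r m)

theorem mkHom_app {F G : MVF A} (f : ∀ B : Alg A, F.obj (pt B) →+ G.obj (pt B))
    (hf : ∀ (B B' : Alg A) (g : B ⟶ B') x, f B' (mp F g x) = mp G g (f B x))
    (hl : ∀ (B : Alg A) (b : (B : Type u)) x, f B (b • x) = b • f B x) (B : Alg A) (x : F.obj (pt B)) :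
    (mkHom f hf hl).app (pt B) x = f B x := rfl

variable (A' : Type u) [CommRing A'] [Algebra A A']

theorem algebraMap_restr (B : Alg A') (a : A) :
    algebraMap A ((Alg.restr A A').obj B : Type u) a = algebraMap A' (B : Type u) (algebraMap A A' a) := rfl

theorem adequate_restr {F : MVF A} (hF : adequate A F) : adequate A' ((restr A A').obj F) := by
  obtain ⟨M, N, ψ, i, hi⟩ := (adequate_iff F).1 hF
  let M' : ModuleCat.{u + 1} A' := ModuleCat.of A' (A' ⊗[A] M)
  let N' : ModuleCat.{u + 1} A' := ModuleCat.of A' (A' ⊗[A] N)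
  let ψ' : M' ⟶ N' := ModuleCat.ofHom (ψ.hom.baseChange A')
  let cM : ∀ B : Alg A', ((Alg.restr A A').obj B : Type u) ⊗[A] M ≃+ (B : Type u) ⊗[A'] (A' ⊗[A] M) := fun B =>
    letI : Algebra A B := ((algebraMap A' B).comp (algebraMap A A')).toAlgebra
    haveI : IsScalarTower A A' B := IsScalarTower.of_algebraMap_eq fun _ => rfl
    (AlgebraTensorModule.cancelBaseChange A A' (B : Type u) (B : Type u) M).symm.toAddEquiv
  let cN : ∀ B : Alg A', ((Alg.restr A A').obj B : Type u) ⊗[A] N ≃+ (B : Type u) ⊗[A'] (A' ⊗[A] N) := fun B =>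
    letI : Algebra A B := ((algebraMap A' B).comp (algebraMap A A')).toAlgebra
    haveI : IsScalarTower A A' B := IsScalarTower.of_algebraMap_eq fun _ => rfl
    (AlgebraTensorModule.cancelBaseChange A A' (B : Type u) (B : Type u) N).symm.toAddEquiv
  have hcM : ∀ (B : Alg A') (b : (B : Type u)) (m : M),
      cM B (b ⊗ₜ[A] m) = b ⊗ₜ[A'] ((1 : A') ⊗ₜ[A] m) := fun B b m => rfl
  have hcN : ∀ (B : Alg A') (b : (B : Type u)) (m : N),
      cN B (b ⊗ₜ[A] m) = b ⊗ₜ[A'] ((1 : A') ⊗ₜ[A] m) := fun B b m => rfl
  let iB : ∀ B : Alg A', ((restr A A').obj F).obj (pt B) →+ (B : Type u) ⊗[A'] (A' ⊗[A] M) := fun B =>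
    (cM B).toAddMonoidHom.comp (i.app (pt ((Alg.restr A A').obj B))).hom.toAddMonoidHom
  have hψ : ∀ (B : Alg A') v, cN B (ψ.hom.baseChange ((Alg.restr A A').obj B : Type u) v) =
      ψ'.hom.baseChange (B : Type u) (cM B v) := by
    intro B v
    induction v using TensorProduct.induction_on with
    | zero => simp
    | tmul b m => rw [LinearMap.baseChange_tmul, hcN, hcM, LinearMap.baseChange_tmul]; rfl
    | add a b ha hb => simp only [map_add, ha, hb]
  refine adequate_of_isKer (ψ := ψ') (i := mkHom (G := U M') iB (fun B B' g x => ?_) (fun B b x => ?_))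
    ⟨fun B => ?_, fun B y => ?_, fun B x hx => ?_⟩
  · have key : ∀ v, cM B' (((Alg.restr A A').map g).hom.toLinearMap.rTensor M v) =
        g.hom.toLinearMap.rTensor (A' ⊗[A] M) (cM B v) := by
      intro v
      induction v using TensorProduct.induction_on with
      | zero => simp
      | tmul b m => rw [LinearMap.rTensor_tmul, hcM, hcM, LinearMap.rTensor_tmul]; rfl
      | add a b ha hb => simp only [map_add, ha, hb]
    rw [mp_U]
    refine (congrArg (cM B') (mp_natural i ((Alg.restr A A').map g) x)).trans ?_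
    exact key _
  · have key : ∀ (c : ((Alg.restr A A').obj B : Type u)) (v : ((Alg.restr A A').obj B : Type u) ⊗[A] M),
        cM B (c • v) = (show (B : Type u) from c) • cM B v := by
      intro c v
      induction v using TensorProduct.induction_on with
      | zero => simp
      | tmul d m => rw [smul_tmul', hcM, hcM, smul_tmul']
      | add a b ha hb => simp only [smul_add, map_add, ha, hb]
    exact (congrArg (cM B) ((i.app (pt ((Alg.restr A A').obj B))).hom.map_smul _ _)).trans (key b _)
  · exact (cM B).injective.comp (hi.inj _)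
  · rw [Um_app]
    show ψ'.hom.baseChange (B : Type u) (cM B (i.app _ y)) = 0
    exact ((hψ B _).symm.trans (congrArg (cN B) (hi.zero ((Alg.restr A A').obj B) y))).trans (map_zero _)
  · obtain ⟨v, rfl⟩ := (cM B).surjective x
    obtain ⟨y, rfl⟩ := hi.exact ((Alg.restr A A').obj B) v ((cN B).injective (by
      rw [map_zero, Um_app]
      exact (hψ B v).trans hx))
    exact ⟨y, rfl⟩

theorem adequate_push {F' : MVF A'} (hF : adequate A' F') : adequate A ((push A A').obj F') := by
  obtain ⟨M', N', ψ', i, hi⟩ := (adequate_iff F').1 hF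
  letI : Module A M' := Module.compHom M' (algebraMap A A')
  letI : Module A N' := Module.compHom N' (algebraMap A A')
  haveI : IsScalarTower A A' M' := IsScalarTower.of_algebraMap_smul fun _ _ => rfl
  haveI : IsScalarTower A A' N' := IsScalarTower.of_algebraMap_smul fun _ _ => rfl
  let M : ModuleCat.{u + 1} A := ModuleCat.of A M'
  let N : ModuleCat.{u + 1} A := ModuleCat.of A N'
  let ψ : M ⟶ N := ModuleCat.ofHom (ψ'.hom.restrictScalars A)
  let eq : ∀ (B : Alg A) (X : Type (u + 1)) [AddCommGroup X] [Module A' X] [Module A X] [IsScalarTower A A' X],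
      (B : Type u) ⊗[A] X ≃+ (A' ⊗[A] (B : Type u)) ⊗[A'] X := fun B X _ _ _ _ =>
    ((TensorProduct.comm A (B : Type u) X).toAddEquiv.trans
      (AlgebraTensorModule.cancelBaseChange A A' A' X (B : Type u)).symm.toAddEquiv).trans
      (TensorProduct.comm A' X (A' ⊗[A] (B : Type u))).toAddEquiv
  have heq : ∀ (B : Alg A) (X : Type (u + 1)) [AddCommGroup X] [Module A' X] [Module A X] [IsScalarTower A A' X]
      (b : (B : Type u)) (m : X), eq B X (b ⊗ₜ[A] m) = ((1 : A') ⊗ₜ[A] b) ⊗ₜ[A'] m := fun B X _ _ _ _ b m => rfl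
  let iB : ∀ B : Alg A, ((push A A').obj F').obj (pt B) →+ (B : Type u) ⊗[A] M' := fun B =>
    (eq B M').symm.toAddMonoidHom.comp (i.app (pt ((Alg.baseChange A A').obj B))).hom.toAddMonoidHom
  have hψ : ∀ (B : Alg A) v, eq B N' (ψ.hom.baseChange (B : Type u) v) =
      ψ'.hom.baseChange (A' ⊗[A] (B : Type u)) (eq B M' v) := by
    intro B v
    induction v using TensorProduct.induction_on with
    | zero => simp
    | tmul b m => rw [LinearMap.baseChange_tmul, heq, heq, LinearMap.baseChange_tmul]; rfl
    | add a b ha hb => simp only [map_add, ha, hb]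
  refine adequate_of_isKer (ψ := ψ) (i := mkHom (G := U M) iB (fun B B' g x => ?_) (fun B b x => ?_))
    ⟨fun B => ?_, fun B y => ?_, fun B x hx => ?_⟩
  · rw [mp_U]
    refine (congrArg (eq B' M').symm (mp_natural i ((Alg.baseChange A A').map g) x)).trans ?_
    have key : ∀ w, (eq B' M').symm (((Alg.baseChange A A').map g).hom.toLinearMap.rTensor M' w) =
        g.hom.toLinearMap.rTensor M' ((eq B M').symm w) := by
      intro w
      obtain ⟨v, rfl⟩ := (eq B M').surjective w
      rw [AddEquiv.symm_apply_apply, AddEquiv.symm_apply_eq]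
      induction v using TensorProduct.induction_on with
      | zero => simp
      | tmul b m => rw [heq, LinearMap.rTensor_tmul, LinearMap.rTensor_tmul, heq]; rfl
      | add a b ha hb => simp only [map_add, ha, hb]
    exact key _
  · have key : ∀ w : (A' ⊗[A] (B : Type u)) ⊗[A'] M',
        (eq B M').symm (((1 : A') ⊗ₜ[A] b : A' ⊗[A] (B : Type u)) • w) = b • (eq B M').symm w := by
      intro w
      obtain ⟨v, rfl⟩ := (eq B M').surjective w
      rw [AddEquiv.symm_apply_apply, AddEquiv.symm_apply_eq]
      induction v using TensorProduct.induction_on with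
      | zero => simp
      | tmul c m =>
        rw [smul_tmul', heq, heq, smul_tmul']
        simp only [smul_eq_mul, Algebra.TensorProduct.tmul_mul_tmul, mul_one]
      | add a b ha hb => simp only [smul_add, map_add, ha, hb]
    exact (congrArg (eq B M').symm ((i.app (pt ((Alg.baseChange A A').obj B))).hom.map_smul _ _)).trans (key _)
  · exact (eq B M').symm.injective.comp (hi.inj _)
  · rw [Um_app]
    show ψ.hom.baseChange (B : Type u) ((eq B M').symm (i.app _ y)) = 0
    refine (eq B N').injective ?_
    rw [hψ, AddEquiv.apply_symm_apply, map_zero]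
    exact hi.zero _ y
  · obtain ⟨y, hy⟩ := hi.exact ((Alg.baseChange A A').obj B) (eq B M' x) (by
      rw [Um_app]
      exact (hψ B x).symm.trans (by rw [show ψ.hom.baseChange (B : Type u) x = 0 from hx, map_zero]))
    exact ⟨y, (eq B M').symm_apply_eq.2 hy⟩

theorem unit_natural {B B' : Alg A} (g : B ⟶ B') :
    g ≫ Alg.unit A A' B' = Alg.unit A A' B ≫ (Alg.restr A A').map ((Alg.baseChange A A').map g) := rfl

/-- the unit of restriction and push-forward -/
noncomputable def etaHom (G : MVF A) : G ⟶ (push A A').obj ((restr A A').obj G) :=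
  mkHom (fun B => mp G (Alg.unit A A' B))
    (fun B B' g x => by
      show mp G (Alg.unit A A' B') (mp G g x) =
        mp G ((Alg.restr A A').map ((Alg.baseChange A A').map g)) (mp G (Alg.unit A A' B) x)
      rw [← mp_comp, ← mp_comp, unit_natural])
    (fun B b x => mp_smul G (Alg.unit A A' B) b x)

theorem adequate_of_descent {F : MVF A} (h₁ : adequate A' ((restr A A').obj F))
    (hinj : ∀ B : Alg A, Function.Injective (mp F (Alg.unit A A' B)))
    (hex : ∀ (B : Alg A) (y : F.obj (pt ((Alg.restr A A').obj ((Alg.baseChange A A').obj B)))),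
      mp F (Alg.unit A A' ((Alg.restr A A').obj ((Alg.baseChange A A').obj B))) y =
        mp F ((Alg.restr A A').map ((Alg.baseChange A A').map (Alg.unit A A' B))) y →
      y ∈ Set.range (mp F (Alg.unit A A' B))) : adequate A F := by
  let P₁ := (push A A').obj ((restr A A').obj F)
  let P₂ := (push A A').obj ((restr A A').obj P₁)
  have hP₁ : adequate A P₁ := adequate_push A' h₁
  have hP₂ : adequate A P₂ := adequate_push A' (adequate_restr A' hP₁)
  let d : P₁ ⟶ P₂ := (push A A').map ((restr A A').map (etaHom A' F)) - etaHom A' P₁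
  have hd : ∀ (B : Alg A) (y : F.obj (pt ((Alg.restr A A').obj ((Alg.baseChange A A').obj B)))),
      d.app (pt B) y = mp F (Alg.unit A A' ((Alg.restr A A').obj ((Alg.baseChange A A').obj B))) y -
        mp F ((Alg.restr A A').map ((Alg.baseChange A A').map (Alg.unit A A' B))) y := fun B y => rfl
  obtain ⟨e⟩ := (show IsKer (etaHom A' F) d from ⟨hinj, fun B x => by
      show d.app (pt B) (mp F (Alg.unit A A' B) x) = 0
      rw [hd, ← mp_comp, ← mp_comp, ← unit_natural, sub_self], fun B y hy => hex B y (sub_eq_zero.1 ((hd B y).symm.trans hy))⟩).nonempty_iso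
  exact (adequate A).prop_of_iso e.symm (adequate_kernel d hP₁ hP₂)

end Groth.Agent.Adeq
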