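import Mathlib
import Groth.Prelude.Def_Adeq
import Groth.Agent.Adeq.Colim

/-! Faithfully flat descent for adequate functors. -/

set_option autoImplicit false
set_option backward.isDefEq.respectTransparency false
universe u v
open CategoryTheory CategoryTheory.Limits Opposite TensorProduct

namespace Groth.Agent.Adeq
open _root_.Adeq

section Amitsur

variable (B C : Type u) [CommRing B] [CommRing C] [Algebra B C] [Module.FaithfullyFlat B C]
  (X : Type v) [AddCommGroup X] [Module B X]

/-- first degrees of the Amitsur complex of a module -/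
theorem amitsur_exact : Function.Exact (TensorProduct.mk B C X 1)
    ((TensorProduct.mk B C X 1).lTensor C - TensorProduct.mk B C (C ⊗[B] X) 1) := by
  refine (Module.FaithfullyFlat.lTensor_exact_iff_exact B C _ _).1 fun w => ⟨fun hw => ?_, ?_⟩
  · let h : C ⊗[B] (C ⊗[B] X) →ₗ[B] C ⊗[B] X := TensorProduct.lift
      (LinearMap.mk₂ B (fun c v => (LinearMap.mulLeft B c).rTensor X v)
        (fun c c' v => by
          induction v using TensorProduct.induction_on with
          | zero => simp
          | tmul a x => simp [add_mul, TensorProduct.add_tmul]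
          | add a b ha hb => simp only [map_add, ha, hb]; abel)
        (fun r c v => by
          induction v using TensorProduct.induction_on with
          | zero => simp
          | tmul a x => simp [TensorProduct.smul_tmul']
          | add a b ha hb => simp only [map_add, smul_add, ha, hb])
        (fun c v v' => map_add _ _ _) (fun r c v => map_smul _ _ _))
    let h3 : C ⊗[B] (C ⊗[B] (C ⊗[B] X)) →ₗ[B] C ⊗[B] (C ⊗[B] X) := TensorProduct.lift
      (LinearMap.mk₂ B (fun c v => (LinearMap.mulLeft B c).rTensor (C ⊗[B] X) v)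
        (fun c c' v => by
          induction v using TensorProduct.induction_on with
          | zero => simp
          | tmul a x => simp [add_mul, TensorProduct.add_tmul]
          | add a b ha hb => simp only [map_add, ha, hb]; abel)
        (fun r c v => by
          induction v using TensorProduct.induction_on with
          | zero => simp
          | tmul a x => simp [TensorProduct.smul_tmul']
          | add a b ha hb => simp only [map_add, smul_add, ha, hb])
        (fun c v v' => map_add _ _ _) (fun r c v => map_smul _ _ _))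
    have key : ∀ z : C ⊗[B] (C ⊗[B] X),
        h3 (((TensorProduct.mk B C X 1).lTensor C - TensorProduct.mk B C (C ⊗[B] X) 1).lTensor C z) =
          (TensorProduct.mk B C X 1).lTensor C (h z) - z := by
      intro z
      induction z using TensorProduct.induction_on with
      | zero => simp
      | tmul c v =>
        induction v using TensorProduct.induction_on with
        | zero => simp
        | tmul a x => simp [h, h3, LinearMap.mk₂_apply, TensorProduct.tmul_sub]
        | add a b ha hb =>
          simp only [TensorProduct.tmul_add, map_add, ha, hb]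
          abel
      | add a b ha hb =>
        simp only [map_add, ha, hb]
        abel
    refine ⟨h w, ?_⟩
    have := key w
    rw [hw, map_zero, eq_comm, sub_eq_zero] at this
    exact this
  · rintro ⟨z, rfl⟩
    rw [← LinearMap.comp_apply, ← LinearMap.lTensor_comp,
      show ((TensorProduct.mk B C X 1).lTensor C - TensorProduct.mk B C (C ⊗[B] X) 1) ∘ₗ TensorProduct.mk B C X 1 = 0 from
        LinearMap.ext fun x => by simp, LinearMap.lTensor_zero, LinearMap.zero_apply]

end Amitsur

variable {A : Type u} [CommRing A]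

section Tensor

variable {B : Type u} [CommRing B] [Algebra A B] {C : Type u} [CommRing C] [Algebra A C] [Algebra B C]
  [IsScalarTower A B C] [Module.FaithfullyFlat B C] (M : Type v) [AddCommGroup M] [Module A M]

theorem rTensor_injective_ff : Function.Injective ((IsScalarTower.toAlgHom A B C).toLinearMap.rTensor M) := by
  intro v w h
  refine Module.FaithfullyFlat.tensorProduct_mk_injective (A := B) (B := C) (B ⊗[A] M) ?_
  refine (AlgebraTensorModule.cancelBaseChange A B C C M).injective ?_
  have e : ∀ v : B ⊗[A] M, AlgebraTensorModule.cancelBaseChange A B C C M ((1 : C) ⊗ₜ[B] v) =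
      (IsScalarTower.toAlgHom A B C).toLinearMap.rTensor M v := fun v => by
    induction v using TensorProduct.induction_on with
    | zero => simp
    | tmul b m => simp [Algebra.smul_def]
    | add a b ha hb => simp only [TensorProduct.tmul_add, map_add, ha, hb]
  exact (e v).trans (h.trans (e w).symm)

theorem exists_rTensor_eq_ff (v : C ⊗[A] M)
    (hv : (((Algebra.TensorProduct.includeLeft : C →ₐ[B] C ⊗[B] C).restrictScalars A).toLinearMap.rTensor M) v =
      (((Algebra.TensorProduct.includeRight : C →ₐ[B] C ⊗[B] C).restrictScalars A).toLinearMap.rTensor M) v) :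
    ∃ w, (IsScalarTower.toAlgHom A B C).toLinearMap.rTensor M w = v := by
  let cM := AlgebraTensorModule.cancelBaseChange A B C C M
  let as := AlgebraTensorModule.assoc A B C C C M
  have e : ∀ w : B ⊗[A] M, cM ((1 : C) ⊗ₜ[B] w) = (IsScalarTower.toAlgHom A B C).toLinearMap.rTensor M w := fun w => by
    induction w using TensorProduct.induction_on with
    | zero => simp
    | tmul b m => simp [cM, Algebra.smul_def]
    | add a b ha hb => simp only [TensorProduct.tmul_add, map_add, ha, hb]
  have e1 : ∀ z : C ⊗[B] (B ⊗[A] M), (TensorProduct.mk B C (B ⊗[A] M) 1).lTensor C z =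
      (cM.symm.toLinearMap.restrictScalars B).lTensor C
        (as ((((Algebra.TensorProduct.includeLeft : C →ₐ[B] C ⊗[B] C).restrictScalars A).toLinearMap.rTensor M) (cM z))) := by
    intro z
    induction z using TensorProduct.induction_on with
    | zero => simp
    | tmul c w =>
      induction w using TensorProduct.induction_on with
      | zero => simp
      | tmul b m =>
        simp [cM, as, Algebra.smul_def]
        rw [← Algebra.smul_def, TensorProduct.smul_tmul, ← TensorProduct.tmul_smul, TensorProduct.smul_tmul', smul_eq_mul, mul_one]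
      | add a b ha hb => simp only [TensorProduct.tmul_add, map_add, ha, hb]
    | add a b ha hb => simp only [map_add, ha, hb]
  have e2 : ∀ z : C ⊗[B] (B ⊗[A] M), TensorProduct.mk B C (C ⊗[B] (B ⊗[A] M)) 1 z =
      (cM.symm.toLinearMap.restrictScalars B).lTensor C
        (as ((((Algebra.TensorProduct.includeRight : C →ₐ[B] C ⊗[B] C).restrictScalars A).toLinearMap.rTensor M) (cM z))) := by
    intro z
    induction z using TensorProduct.induction_on with
    | zero => simp
    | tmul c w =>
      induction w using TensorProduct.induction_on with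
      | zero => simp
      | tmul b m =>
        simp [cM, as, Algebra.smul_def]
        rw [← Algebra.smul_def, TensorProduct.smul_tmul, TensorProduct.smul_tmul', smul_eq_mul, mul_one]
      | add a b ha hb => simp only [TensorProduct.tmul_add, map_add, ha, hb]
    | add a b ha hb => simp only [map_add, ha, hb]
  obtain ⟨w, hw⟩ := (amitsur_exact B C (B ⊗[A] M) (cM.symm v)).1 (by
    rw [LinearMap.sub_apply, e1, e2, LinearEquiv.apply_symm_apply, hv, sub_self])
  refine ⟨w, ?_⟩
  rw [← e]
  exact (congrArg cM hw).trans (cM.apply_symm_apply v)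

end Tensor

/-- the structure map of an algebra over an algebra -/
noncomputable abbrev toTop (A B C : Type u) [CommRing A] [CommRing B] [Algebra A B] [CommRing C] [Algebra A C] [Algebra B C]
    [IsScalarTower A B C] : algOf A B ⟶ algOf A C := CommAlgCat.ofHom (IsScalarTower.toAlgHom A B C)

/-- left inclusion -/
noncomputable abbrev toLeft (A B C D : Type u) [CommRing A] [CommRing B] [Algebra A B] [CommRing C] [Algebra A C]
    [Algebra B C] [IsScalarTower A B C] [CommRing D] [Algebra A D] [Algebra B D] [IsScalarTower A B D] :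
    algOf A C ⟶ algOf A (C ⊗[B] D) :=
  CommAlgCat.ofHom ((Algebra.TensorProduct.includeLeft : C →ₐ[B] C ⊗[B] D).restrictScalars A)

/-- right inclusion -/
noncomputable abbrev toRight (A B C D : Type u) [CommRing A] [CommRing B] [Algebra A B] [CommRing C] [Algebra A C]
    [Algebra B C] [IsScalarTower A B C] [CommRing D] [Algebra A D] [Algebra B D] [IsScalarTower A B D] :
    algOf A D ⟶ algOf A (C ⊗[B] D) :=
  CommAlgCat.ofHom ((Algebra.TensorProduct.includeRight : D →ₐ[B] C ⊗[B] D).restrictScalars A)

section Single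

variable {F : MVF A} (hF : adequate A F) (B C : Type u) [CommRing B] [Algebra A B] [CommRing C] [Algebra A C]
  [Algebra B C] [IsScalarTower A B C] [Module.FaithfullyFlat B C]

include hF in
theorem mp_injective_ff : Function.Injective (mp F (toTop A B C)) := by
  obtain ⟨M, N, ψ, i, hi⟩ := (adequate_iff F).1 hF
  intro x y h
  refine hi.inj (algOf A B) (rTensor_injective_ff (A := A) (B := B) (C := C) M ?_)
  have := congrArg (i.app (pt (algOf A C))) h
  rw [mp_natural, mp_natural, mp_U, mp_U] at this
  exact this

include hF in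
theorem exists_mp_eq_ff (y : F.obj (pt (algOf A C))) (hy : mp F (toLeft A B C C) y = mp F (toRight A B C C) y) :
    ∃ x, mp F (toTop A B C) x = y := by
  obtain ⟨M, N, ψ, i, hi⟩ := (adequate_iff F).1 hF
  obtain ⟨w, hw⟩ := exists_rTensor_eq_ff (A := A) (B := B) (C := C) M (i.app (pt (algOf A C)) y) (by
    have := congrArg (i.app (pt (algOf A (C ⊗[B] C)))) hy
    rw [mp_natural, mp_natural, mp_U, mp_U] at this
    exact this)
  obtain ⟨x, hx⟩ := hi.exact (algOf A B) w (by
    rw [Um_app]
    refine rTensor_injective_ff (A := A) (B := B) (C := C) N ?_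
    show _ = (IsScalarTower.toAlgHom A B C).toLinearMap.rTensor N 0
    rw [map_zero, LinearMap.baseChange_eq_ltensor, ← LinearMap.comp_apply,
      LinearMap.rTensor_comp_lTensor, ← LinearMap.lTensor_comp_rTensor, LinearMap.comp_apply, hw]
    exact hi.zero (algOf A C) y)
  refine ⟨x, hi.inj _ ?_⟩
  rw [mp_natural, hx, mp_U]
  exact hw

end Single

section Prod

variable {ι : Type u} [Finite ι] {C : Type u} [CommRing C] [Algebra A C] {Cj : ι → Type u} [∀ j, CommRing (Cj j)]
  [∀ j, Algebra A (Cj j)] (pr : ∀ j, C →ₐ[A] Cj j) (s : ∀ j, Cj j →ₗ[A] C)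

omit [Finite ι] in
theorem rTensor_eq_sum [Fintype ι] (hs : ∑ j, s j ∘ₗ (pr j).toLinearMap = LinearMap.id) (M : Type v) [AddCommGroup M] [Module A M]
    (v : C ⊗[A] M) : v = ∑ j, (s j).rTensor M ((pr j).toLinearMap.rTensor M v) := by
  have := congrArg (fun g : C →ₗ[A] C => g.rTensor M v) hs
  simp only [← LinearMap.coe_rTensorHom, map_sum, LinearMap.sum_apply] at this
  simp only [LinearMap.coe_rTensorHom, LinearMap.rTensor_comp_apply, LinearMap.rTensor_id, LinearMap.id_apply] at this
  exact this.symm

include pr s in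
theorem mp_jointly_injective [Fintype ι] (hs : ∑ j, s j ∘ₗ (pr j).toLinearMap = LinearMap.id) {F : MVF A}
    (hF : adequate A F) (x x' : F.obj (pt (algOf A C)))
    (h : ∀ j, mp F (CommAlgCat.ofHom (pr j) : algOf A C ⟶ algOf A (Cj j)) x = mp F (CommAlgCat.ofHom (pr j)) x') :
    x = x' := by
  obtain ⟨M, N, ψ, i, hi⟩ := (adequate_iff F).1 hF
  refine hi.inj _ ?_
  refine ((rTensor_eq_sum pr s hs M _).trans (Finset.sum_congr rfl fun j _ => ?_)).trans (rTensor_eq_sum pr s hs M _).symm
  have := congrArg (i.app (pt (algOf A (Cj j)))) (h j)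
  rw [mp_natural, mp_natural, mp_U, mp_U] at this
  exact congrArg _ this

theorem exists_mp_pi [DecidableEq ι] {F : MVF A} (hF : adequate A F) (y : ∀ j, F.obj (pt (algOf A (Cj j)))) :
    ∃ x : F.obj (pt (algOf A (∀ j, Cj j))),
      ∀ j, mp F (CommAlgCat.ofHom (Pi.evalAlgHom A Cj j) : algOf A (∀ j, Cj j) ⟶ algOf A (Cj j)) x = y j := by
  cases nonempty_fintype ι
  obtain ⟨M, N, ψ, i, hi⟩ := (adequate_iff F).1 hF
  let sg : ∀ j, Cj j →ₗ[A] ∀ j, Cj j := fun j => LinearMap.single A Cj j
  have hcomp : ∀ j k (v : Cj j ⊗[A] M), (Pi.evalAlgHom A Cj k).toLinearMap.rTensor M ((sg j).rTensor M v) =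
      ((LinearMap.proj k : (∀ j, Cj j) →ₗ[A] Cj k) ∘ₗ sg j).rTensor M v := fun j k v =>
    (LinearMap.rTensor_comp_apply M _ _ v).symm
  let w : (∀ j, Cj j) ⊗[A] M := ∑ j, (sg j).rTensor M (i.app (pt (algOf A (Cj j))) (y j))
  obtain ⟨x, hx⟩ := hi.exact (algOf A (∀ j, Cj j)) w (by
    rw [Um_app]
    show ψ.hom.baseChange _ w = 0
    simp only [w, map_sum]
    refine Finset.sum_eq_zero fun j _ => ?_
    rw [LinearMap.baseChange_eq_ltensor, ← LinearMap.comp_apply,
      LinearMap.lTensor_comp_rTensor, ← LinearMap.rTensor_comp_lTensor, LinearMap.comp_apply]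
    show (sg j).rTensor N (ψ.hom.lTensor _ _) = 0
    rw [show ψ.hom.lTensor (Cj j) (i.app (pt (algOf A (Cj j))) (y j)) = 0 from hi.zero (algOf A (Cj j)) (y j), map_zero])
  refine ⟨x, fun k => hi.inj _ ?_⟩
  rw [mp_natural, hx, mp_U]
  show (Pi.evalAlgHom A Cj k).toLinearMap.rTensor M w = _
  simp only [w, map_sum]
  rw [Finset.sum_eq_single k]
  · rw [hcomp, show (LinearMap.proj k : (∀ j, Cj j) →ₗ[A] Cj k) ∘ₗ sg k = LinearMap.id from LinearMap.proj_comp_single_same A Cj k,
      LinearMap.rTensor_id_apply]
  · intro j _ hj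
    rw [hcomp, show (LinearMap.proj k : (∀ j, Cj j) →ₗ[A] Cj k) ∘ₗ sg j = 0 from LinearMap.proj_comp_single_ne A Cj k j (Ne.symm hj),
      LinearMap.rTensor_zero, LinearMap.zero_apply]
  · exact fun h => absurd (Finset.mem_univ k) h

end Prod

section Family

variable {F : MVF A} (hF : adequate A F) {ι : Type u} [Finite ι] (B : Type u) [CommRing B] [Algebra A B]
  (C : ι → Type u) [∀ j, CommRing (C j)] [∀ j, Algebra A (C j)] [∀ j, Algebra B (C j)]
  [∀ j, IsScalarTower A B (C j)] [∀ j, Module.Flat B (C j)]

theorem faithfullyFlat_pi (hC : ∀ p : PrimeSpectrum B, ∃ j, p ∈ Set.range (PrimeSpectrum.comap (algebraMap B (C j)))) :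
    Module.FaithfullyFlat B (∀ j, C j) := by
  cases nonempty_fintype ι
  classical
  haveI : Module.Flat B (∀ j, C j) := Module.Flat.of_linearEquiv (DFinsupp.linearEquivFunOnFintype (R := B)).symm
  refine Module.FaithfullyFlat.of_comap_surjective fun p => ?_
  obtain ⟨j, q, rfl⟩ := hC p
  exact ⟨PrimeSpectrum.comap (Pi.evalRingHom C j) q, by rw [← PrimeSpectrum.comap_comp_apply]; rfl⟩

include hF in
theorem exists_mp_eq_family
    (hC : ∀ p : PrimeSpectrum B, ∃ j, p ∈ Set.range (PrimeSpectrum.comap (algebraMap B (C j))))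
    (y : ∀ j, F.obj (pt (algOf A (C j))))
    (hy : ∀ j k, mp F (toLeft A B (C j) (C k)) (y j) = mp F (toRight A B (C j) (C k)) (y k)) :
    ∃! x, ∀ j, mp F (toTop A B (C j)) x = y j := by
  classical
  cases nonempty_fintype ι
  haveI := faithfullyFlat_pi B C hC
  let sg : ∀ j, C j →ₗ[A] ∀ j, C j := fun j => LinearMap.single A C j
  let sB : ∀ j, C j →ₗ[B] ∀ j, C j := fun j => LinearMap.single B C j
  have hev : ∀ j, toTop A B (∀ j, C j) ≫ CommAlgCat.ofHom (Pi.evalAlgHom A C j) = toTop A B (C j) := fun j => rfl
  obtain ⟨w, hw⟩ := exists_mp_pi hF y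
  obtain ⟨x, hx⟩ := exists_mp_eq_ff hF B (∀ j, C j) w (by
    let pr : ∀ q : ι × ι, (∀ j, C j) ⊗[B] (∀ j, C j) →ₐ[A] C q.1 ⊗[B] C q.2 := fun q =>
      (Algebra.TensorProduct.map (Pi.evalAlgHom B C q.1) (Pi.evalAlgHom B C q.2)).restrictScalars A
    let s : ∀ q : ι × ι, C q.1 ⊗[B] C q.2 →ₗ[A] (∀ j, C j) ⊗[B] (∀ j, C j) := fun q =>
      (TensorProduct.map (sB q.1) (sB q.2)).restrictScalars A
    refine mp_jointly_injective pr s (LinearMap.ext fun v => ?_) hF _ _ fun q => ?_
    · induction v using TensorProduct.induction_on with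
      | zero => simp
      | tmul a b =>
        simp only [LinearMap.sum_apply, LinearMap.comp_apply, LinearMap.id_apply]
        show ∑ q : ι × ι, LinearMap.single B C q.1 (a q.1) ⊗ₜ[B] LinearMap.single B C q.2 (b q.2) = a ⊗ₜ[B] b
        rw [Fintype.sum_prod_type]
        simp only [← tmul_sum, ← sum_tmul, LinearMap.coe_single, Finset.univ_sum_single]
      | add a b ha hb => rw [map_add, ha, hb, map_add]
    · rw [← mp_comp, ← mp_comp]
      rw [show toLeft A B (∀ j, C j) (∀ j, C j) ≫ CommAlgCat.ofHom (pr q) =
          CommAlgCat.ofHom (Pi.evalAlgHom A C q.1) ≫ toLeft A B (C q.1) (C q.2) from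
        CommAlgCat.hom_ext (AlgHom.ext fun a => by
          show (Algebra.TensorProduct.map (Pi.evalAlgHom B C q.1) (Pi.evalAlgHom B C q.2)) (a ⊗ₜ[B] 1) = a q.1 ⊗ₜ[B] 1
          rw [Algebra.TensorProduct.map_tmul, map_one]; rfl),
        show toRight A B (∀ j, C j) (∀ j, C j) ≫ CommAlgCat.ofHom (pr q) =
          CommAlgCat.ofHom (Pi.evalAlgHom A C q.2) ≫ toRight A B (C q.1) (C q.2) from
        CommAlgCat.hom_ext (AlgHom.ext fun a => by
          show (Algebra.TensorProduct.map (Pi.evalAlgHom B C q.1) (Pi.evalAlgHom B C q.2)) (1 ⊗ₜ[B] a) = 1 ⊗ₜ[B] a q.2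
          rw [Algebra.TensorProduct.map_tmul, map_one]; rfl),
        mp_comp, mp_comp, hw, hw, hy])
  refine ⟨x, fun j => ?_, fun x' hx' => ?_⟩
  · rw [← hev j, mp_comp, hx, hw]
  · refine mp_injective_ff hF B (∀ j, C j) ?_
    refine mp_jointly_injective (fun j => Pi.evalAlgHom A C j) sg ?_ hF _ _ fun j => ?_
    · refine LinearMap.ext fun a => ?_
      simp only [LinearMap.sum_apply, LinearMap.comp_apply, LinearMap.id_apply]
      exact Finset.univ_sum_single a
    · rw [← mp_comp, ← mp_comp, hev, hx', ← hev j, mp_comp, hx, hw]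

end Family

end Groth.Agent.Adeq

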