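import Mathlib
import Groth.Prelude.Def_Adeq2
import Groth.Agent.Adeq.FFDescent
import Groth.Agent.Adeq.Change

/-! Sections of sheaves on the big site over affine objects. -/

set_option autoImplicit false
set_option backward.isDefEq.respectTransparency false
universe u
open CategoryTheory CategoryTheory.Limits AlgebraicGeometry Opposite TensorProduct

namespace Groth.Agent.Adeq
open _root_.Adeq

/-- what is needed of a morphism property to define adequate modules -/
structure Good (P : MorphismProperty Scheme.{u}) : Prop where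
  flat : P ≤ @Flat
  isOpenMap : ∀ ⦃X Y : Scheme.{u}⦄ (f : X ⟶ Y), P f → IsOpenMap f
  openImm : (@IsOpenImmersion : MorphismProperty Scheme.{u}) ≤ P

theorem good_zariski : Good.{u} @IsOpenImmersion :=
  ⟨fun _ _ f (_ : IsOpenImmersion f) => inferInstance, fun _ _ f (_ : IsOpenImmersion f) => f.isOpenEmbedding.isOpenMap,
    le_rfl⟩

theorem good_fppf : Good.{u} (@Flat ⊓ @LocallyOfFinitePresentation) :=
  ⟨fun _ _ _ h => h.1, fun _ _ f ⟨_, _⟩ => f.isOpenMap, fun _ _ _ _ => ⟨inferInstance, inferInstance⟩⟩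

section Refine

variable {P : MorphismProperty Scheme.{u}} [P.IsStableUnderComposition] (hP : Good P)

include hP in
/-- every covering of an affine scheme is refined by a finite affine one -/
theorem exists_affine_refinement {B : Type u} [CommRing B] {κ : Type*} {W : κ → Scheme.{u}}
    (g : ∀ k, W k ⟶ Spec (CommRingCat.of B))
    (hg : Presieve.ofArrows W g ∈ (Scheme.precoverage P).coverings (Spec (CommRingCat.of B))) :
    ∃ (ι : Type u) (_ : Finite ι) (C : ι → CommRingCat.{u}) (φ : ∀ j, CommRingCat.of B ⟶ C j) (k : ι → κ)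
      (h : ∀ j, Spec (C j) ⟶ W (k j)), (∀ j, h j ≫ g (k j) = Spec.map (φ j)) ∧ (∀ j, P (Spec.map (φ j))) ∧
        ∀ p : PrimeSpectrum B, ∃ j, p ∈ Set.range (PrimeSpectrum.comap (φ j).hom) := by
  classical
  obtain ⟨hsurj, hPg⟩ := (Scheme.ofArrows_mem_precoverage_iff P).1 hg
  have key : ∀ x : Spec (CommRingCat.of B), ∃ (k : κ) (V : (W k).Opens), IsAffineOpen V ∧ x ∈ g k '' (V : Set (W k)) := by
    intro x
    obtain ⟨k, y, rfl⟩ := hsurj x
    obtain ⟨_, ⟨V, hV, rfl⟩, hyV, _⟩ := (W k).isBasis_affineOpens.exists_subset_of_mem_open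
      (Set.mem_univ y) isOpen_univ
    exact ⟨k, V, hV, y, hyV, rfl⟩
  choose k V hV hx using key
  obtain ⟨t, ht⟩ := isCompact_univ.elim_finite_subcover (fun x => g (k x) '' (V x : Set (W (k x))))
    (fun x => hP.isOpenMap _ (hPg _) _ (V x).isOpen) (fun x _ => Set.mem_iUnion.2 ⟨x, hx x⟩)
  choose φ hφ using fun x : t => Spec.map_surjective ((hV x.1).fromSpec ≫ g (k x.1))
  refine ⟨t, inferInstance, fun x => Γ(W (k x.1), V x.1), φ, fun x => k x.1, fun x => (hV x.1).fromSpec,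
    fun x => (hφ x).symm, fun x => ?_, fun p => ?_⟩
  · rw [hφ]
    exact P.comp_mem _ _ (hP.openImm _ inferInstance) (hPg _)
  · obtain ⟨x, hxt, y, hy, hyp⟩ : ∃ x ∈ t, ∃ y ∈ V x, g (k x) y = p := by
      simpa using ht (Set.mem_univ p)
    obtain ⟨q, hq⟩ : y ∈ Set.range (hV x).fromSpec := by rw [(hV x).range_fromSpec]; exact hy
    refine ⟨⟨x, hxt⟩, q, ?_⟩
    show Spec.map (φ ⟨x, hxt⟩) q = p
    rw [hφ]
    show g (k x) ((hV x).fromSpec q) = p
    rw [hq, hyp]

include hP in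
/-- covering sieves of affine schemes contain finite affine coverings -/
theorem exists_affine_of_mem [P.IsStableUnderBaseChange] {B : Type u} [CommRing B]
    {s : Sieve (Spec (CommRingCat.of B))} (hs : s ∈ (Scheme.precoverage P).toGrothendieck (Spec (CommRingCat.of B))) :
    ∃ (ι : Type u) (_ : Finite ι) (C : ι → CommRingCat.{u}) (φ : ∀ j, CommRingCat.of B ⟶ C j),
      (∀ j, s.arrows (Spec.map (φ j))) ∧ (∀ j, P (Spec.map (φ j))) ∧
        ∀ p : PrimeSpectrum B, ∃ j, p ∈ Set.range (PrimeSpectrum.comap (φ j).hom) := by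
  haveI : P.ContainsIdentities := ⟨fun X => hP.openImm _ inferInstance⟩
  obtain ⟨Rs, hR, hle⟩ := Precoverage.mem_toGrothendieck_iff_of_isStableUnderComposition.1 hs
  obtain ⟨κ, W, g, rfl⟩ := Rs.exists_eq_ofArrows
  obtain ⟨ι, hι, C, φ, k, h, hh, hPφ, hsurj⟩ := exists_affine_refinement hP g hR
  refine ⟨ι, hι, C, φ, fun j => ?_, hPφ, hsurj⟩
  rw [← hh]
  exact s.downward_closed (hle _ _ (Presieve.ofArrows.mk (k j))) _

end Refine

section Sections

variable {P : MorphismProperty Scheme.{u}} [BigSite.OSh (Scheme.precoverage P)] {S : Scheme.{u}} {R : CommRingCat.{u}}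
  (a : Spec R ⟶ S)

/-- the family of maps of spectra given by maps of algebras covers -/
theorem family_mem {B : Alg R} {ι : Type u} {D : ι → Alg R} (f : ∀ j, B ⟶ D j)
    (hPf : ∀ j, P (Spec.map (CommRingCat.ofHom (f j).hom.toRingHom)))
    (hsurj : ∀ p : PrimeSpectrum B, ∃ j, p ∈ Set.range (PrimeSpectrum.comap (f j).hom.toRingHom)) :
    Sieve.generate (Presieve.ofArrows (fun j => (specOver a).obj (op (D j))) fun j => (specOver a).map (f j).op) ∈
      QuotSh.J (Scheme.precoverage P) S ((specOver a).obj (op B)) := by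
  rw [GrothendieckTopology.mem_over_iff, Sieve.overEquiv_ofArrows]
  refine Precoverage.generate_mem_toGrothendieck ?_
  refine (Scheme.ofArrows_mem_precoverage_iff P).2 ⟨fun x => ?_, hPf⟩
  obtain ⟨j, q, hq⟩ := hsurj x
  exact ⟨j, q, hq⟩

/-- weak universal property of an overlap -/
def IsOverlap {B D D' E : Alg R} (f : B ⟶ D) (f' : B ⟶ D') (l : D ⟶ E) (r : D' ⟶ E) : Prop :=
  ∀ (T : Type u) [CommRing T] (α : (D : Type u) →+* T) (β : (D' : Type u) →+* T),
    α.comp f.hom.toRingHom = β.comp f'.hom.toRingHom →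
      ∃ h : (E : Type u) →+* T, h.comp l.hom.toRingHom = α ∧ h.comp r.hom.toRingHom = β

theorem exists_factor_spec {Z : Scheme.{u}} {X : CommRingCat.{u}} (g : Z ⟶ Spec X) :
    Z.toSpecΓ ≫ Spec.map ((Scheme.ΓSpecIso X).inv ≫ g.appTop) = g := by
  rw [Spec.map_comp, ← Category.assoc, ← Scheme.toSpecΓ_naturality, Category.assoc, ← SpecMap_ΓSpecIso_hom,
    ← Spec.map_comp, Iso.inv_hom_id, Spec.map_id, Category.comp_id]

theorem appTop_comp_SpecMap {Z : Scheme.{u}} {X Y : CommRingCat.{u}} (φ : X ⟶ Y) (g : Z ⟶ Spec Y) :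
    φ ≫ (Scheme.ΓSpecIso Y).inv ≫ g.appTop = (Scheme.ΓSpecIso X).inv ≫ (g ≫ Spec.map φ).appTop := by
  rw [← Category.assoc, Scheme.ΓSpecIso_inv_naturality, Category.assoc]
  rfl

theorem exists_factor_scheme {Z : Scheme.{u}} {B D D' E : CommRingCat.{u}} {f : B ⟶ D} {f' : B ⟶ D'} {l : D ⟶ E}
    {r : D' ⟶ E} (hE : ∀ (T : Type u) [CommRing T] (α : (D : Type u) →+* T) (β : (D' : Type u) →+* T),
      α.comp f.hom = β.comp f'.hom → ∃ h : (E : Type u) →+* T, h.comp l.hom = α ∧ h.comp r.hom = β)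
    (g : Z ⟶ Spec D) (g' : Z ⟶ Spec D') (h : g ≫ Spec.map f = g' ≫ Spec.map f') :
    ∃ q : Z ⟶ Spec E, q ≫ Spec.map l = g ∧ q ≫ Spec.map r = g' := by
  obtain ⟨k, hk, hk'⟩ := hE Γ(Z, ⊤) ((Scheme.ΓSpecIso D).inv ≫ g.appTop).hom
    ((Scheme.ΓSpecIso D').inv ≫ g'.appTop).hom (by
      have := appTop_comp_SpecMap f g
      rw [h, ← appTop_comp_SpecMap f' g'] at this
      exact congrArg CommRingCat.Hom.hom this)
  refine ⟨Z.toSpecΓ ≫ Spec.map (CommRingCat.ofHom k), ?_, ?_⟩
  · conv_rhs => rw [← exists_factor_spec g]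
    rw [Category.assoc, ← Spec.map_comp]
    congr 2
    exact CommRingCat.hom_ext hk
  · conv_rhs => rw [← exists_factor_spec g']
    rw [Category.assoc, ← Spec.map_comp]
    congr 2
    exact CommRingCat.hom_ext hk'

theorem specOver_hom (B : Alg R) :
    ((specOver a).obj (op B)).hom = Spec.map (CommRingCat.ofHom (algebraMap R (B : Type u))) ≫ a := rfl

theorem exists_factor {B D D' E : Alg R} {f : B ⟶ D} {f' : B ⟶ D'} {l : D ⟶ E} {r : D' ⟶ E}
    (hE : IsOverlap f f' l r) {Z : Over S} (g : Z ⟶ (specOver a).obj (op D)) (g' : Z ⟶ (specOver a).obj (op D'))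
    (h : g ≫ (specOver a).map f.op = g' ≫ (specOver a).map f'.op) :
    ∃ q : Z ⟶ (specOver a).obj (op E), q ≫ (specOver a).map l.op = g ∧ q ≫ (specOver a).map r.op = g' := by
  obtain ⟨q, hl, hr⟩ := exists_factor_scheme (B := CommRingCat.of (B : Type u)) (f := CommRingCat.ofHom f.hom.toRingHom)
    (f' := CommRingCat.ofHom f'.hom.toRingHom) (l := CommRingCat.ofHom l.hom.toRingHom)
    (r := CommRingCat.ofHom r.hom.toRingHom) hE g.left g'.left (congrArg CommaMorphism.left h)
  refine ⟨Over.homMk q ?_, Over.OverMorphism.ext hl, Over.OverMorphism.ext hr⟩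
  exact (congrArg (q ≫ ·) (Over.w ((specOver a).map l.op)).symm).trans
    ((Category.assoc _ _ _).symm.trans ((congrArg (· ≫ ((specOver a).obj (op D)).hom) hl).trans (Over.w g)))

variable (M : BigSite.Mod (Scheme.precoverage P) S)

theorem isSheafFor_family {B : Alg R} {ι : Type u} {D : ι → Alg R} (f : ∀ j, B ⟶ D j)
    (hPf : ∀ j, P (Spec.map (CommRingCat.ofHom (f j).hom.toRingHom)))
    (hsurj : ∀ p : PrimeSpectrum B, ∃ j, p ∈ Set.range (PrimeSpectrum.comap (f j).hom.toRingHom)) :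
    Presieve.IsSheafFor (((BigSite.toAbMod _ S).obj M).obj ⋙ forget AddCommGrpCat)
      (Presieve.ofArrows (fun j => (specOver a).obj (op (D j))) fun j => (specOver a).map (f j).op) := by
  rw [Presieve.isSheafFor_iff_generate]
  exact (isSheaf_iff_isSheaf_of_type _ _).1
    ((Presheaf.isSheaf_iff_isSheaf_forget _ _ (forget AddCommGrpCat)).1 ((BigSite.toAbMod _ S).obj M).property)
    _ (family_mem a f hPf hsurj)

theorem sheaf_separated {B : Alg R} {ι : Type u} {D : ι → Alg R} (f : ∀ j, B ⟶ D j)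
    (hPf : ∀ j, P (Spec.map (CommRingCat.ofHom (f j).hom.toRingHom)))
    (hsurj : ∀ p : PrimeSpectrum B, ∃ j, p ∈ Set.range (PrimeSpectrum.comap (f j).hom.toRingHom))
    (x x' : ((toMVF (Scheme.precoverage P) a).obj M).obj (pt B))
    (h : ∀ j, mp _ (f j) x = mp _ (f j) x') : x = x' :=
  (isSheafFor_family a M f hPf hsurj).isSeparatedFor.ext fun _ _ ⟨j⟩ => h j

theorem sheaf_glue {B : Alg R} {ι : Type u} {D : ι → Alg R} (f : ∀ j, B ⟶ D j)
    (hPf : ∀ j, P (Spec.map (CommRingCat.ofHom (f j).hom.toRingHom)))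
    (hsurj : ∀ p : PrimeSpectrum B, ∃ j, p ∈ Set.range (PrimeSpectrum.comap (f j).hom.toRingHom))
    {E : ι → ι → Alg R} (l : ∀ j k, D j ⟶ E j k) (r : ∀ j k, D k ⟶ E j k)
    (hE : ∀ j k, IsOverlap (f j) (f k) (l j k) (r j k))
    (y : ∀ j, ((toMVF (Scheme.precoverage P) a).obj M).obj (pt (D j)))
    (hy : ∀ j k, mp _ (l j k) (y j) = mp _ (r j k) (y k)) : ∃ x, ∀ j, mp _ (f j) x = y j := by
  obtain ⟨x, hx, -⟩ := (Presieve.isSheafFor_arrows_iff _ _).1 (isSheafFor_family a M f hPf hsurj) y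
    (fun j k Z g g' hgg => by
      obtain ⟨q, hq, hq'⟩ := exists_factor a (hE j k) g g' hgg
      show M.val.presheaf.map g.op (y j) = M.val.presheaf.map g'.op (y k)
      rw [← hq, ← hq', op_comp, op_comp, Functor.map_comp, Functor.map_comp]
      exact congrArg (M.val.presheaf.map q.op) (hy j k))
  exact ⟨x, hx⟩

end Sections

end Groth.Agent.Adeq
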