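import Mathlib
import Groth.Prelude.Def_Adeq2
import Groth.Agent.Adeq.Site

/-! Adequacy over arbitrary affine objects. -/

set_option autoImplicit false
set_option backward.isDefEq.respectTransparency false
universe u
open CategoryTheory CategoryTheory.Limits AlgebraicGeometry Opposite TensorProduct

namespace Groth.Agent.Adeq
open _root_.Adeq

/-- the ring map underlying a map of algebras -/
abbrev ringHomOf {A : Type u} [CommRing A] {B D : Alg A} (f : B ⟶ D) : (B : Type u) →+* D := f.hom.toRingHom

theorem ringHomOf_algebraMap {A : Type u} [CommRing A] {B D : Alg A} (f : B ⟶ D) (r : A) :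
    ringHomOf f (algebraMap A (B : Type u) r) = algebraMap A (D : Type u) r := f.hom.commutes r

instance osh_fppf : BigSite.OSh.{u} (Scheme.precoverage (@Flat ⊓ @LocallyOfFinitePresentation)) :=
  inferInstanceAs (BigSite.OSh.{u} Scheme.fppfPrecoverage.{u})

section Biproduct

variable {A : Type u} [CommRing A] {ι : Type u} [Finite ι]

noncomputable instance hasFiniteBiproducts_MVF : HasFiniteBiproducts (MVF A) := Abelian.hasFiniteBiproducts

theorem adequate_biproduct (f : ι → MVF A) (hf : ∀ j, adequate A (f j)) : adequate A (⨁ f) := by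
  let e : ⨁ f ≅ ⨁ (fun j : ULift.{u + 1} ι => f j.down) :=
    biproduct.whiskerEquiv (f := f) (g := fun j : ULift.{u + 1} ι => f j.down) Equiv.ulift.symm fun j => Iso.refl _
  exact (adequate A).prop_of_iso (e ≪≫ biproduct.isoCoproduct _).symm
    (adequate_coproduct _ fun j => hf j.down)

theorem biproduct_ext_pt (f : ι → MVF A) (B : Alg A) (z z' : (⨁ f).obj (pt B))
    (h : ∀ j, (biproduct.π f j).app (pt B) z = (biproduct.π f j).app (pt B) z') : z = z' := by
  cases nonempty_fintype ι
  have t : ∑ j, biproduct.π f j ≫ biproduct.ι f j = 𝟙 (⨁ f) := IsBilimit.total (biproduct.isBilimit f)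
  have e1 : ∀ z, ∑ j, (biproduct.ι f j).app (pt B) ((biproduct.π f j).app (pt B) z) = z := fun z => by
    let ev : ((⨁ f) ⟶ ⨁ f) →+ (⨁ f).obj (pt B) :=
      { toFun := fun q => q.app (pt B) z
        map_zero' := rfl
        map_add' := fun _ _ => rfl }
    have := congrArg ev t
    rw [map_sum] at this
    exact this
  rw [← e1 z, ← e1 z']
  exact Finset.sum_congr rfl fun j _ => by rw [h j]

theorem biproduct_exists_pt (f : ι → MVF A) (B : Alg A) (y : ∀ j, (f j).obj (pt B)) :
    ∃ z : (⨁ f).obj (pt B), ∀ j, (biproduct.π f j).app (pt B) z = y j := by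
  classical
  cases nonempty_fintype ι
  refine ⟨∑ j, (biproduct.ι f j).app (pt B) (y j), fun k => ?_⟩
  rw [map_sum, Finset.sum_eq_single k]
  · rw [← comp_app, biproduct.ι_π_self]
    rfl
  · intro j _ hj
    rw [← comp_app, biproduct.ι_π_ne f hj]
    rfl
  · exact fun h => absurd (Finset.mem_univ k) h

variable (A' : ι → Type u) [∀ j, CommRing (A' j)] [∀ j, Algebra A (A' j)]

/-- adequacy descends along a finite family -/
theorem adequate_of_descent_family {F : MVF A} (h₁ : ∀ j, adequate (A' j) ((restr A (A' j)).obj F))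
    (hinj : ∀ (B : Alg A) (x x' : F.obj (pt B)),
      (∀ j, mp F (Alg.unit A (A' j) B) x = mp F (Alg.unit A (A' j) B) x') → x = x')
    (hex : ∀ (B : Alg A) (y : ∀ j, F.obj (pt ((Alg.restr A (A' j)).obj ((Alg.baseChange A (A' j)).obj B)))),
      (∀ j k, mp F ((Alg.restr A (A' j)).map ((Alg.baseChange A (A' j)).map (Alg.unit A (A' k) B))) (y j) =
        mp F (Alg.unit A (A' j) ((Alg.restr A (A' k)).obj ((Alg.baseChange A (A' k)).obj B))) (y k)) →
      ∃ x, ∀ j, mp F (Alg.unit A (A' j) B) x = y j) : adequate A F := by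
  let P₁ : ι → MVF A := fun j => (push A (A' j)).obj ((restr A (A' j)).obj F)
  let P₂ : ι × ι → MVF A := fun q => (push A (A' q.2)).obj ((restr A (A' q.2)).obj (P₁ q.1))
  have hP₁ : ∀ j, adequate A (P₁ j) := fun j => adequate_push (A' j) (h₁ j)
  have hP₂ : ∀ q, adequate A (P₂ q) := fun q => adequate_push (A' q.2) (adequate_restr (A' q.2) (hP₁ q.1))
  let i : F ⟶ ⨁ P₁ := biproduct.lift fun j => etaHom (A' j) F
  let d : (⨁ P₁) ⟶ ⨁ P₂ := biproduct.lift fun q =>
    biproduct.π P₁ q.1 ≫ etaHom (A' q.2) (P₁ q.1) -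
      biproduct.π P₁ q.2 ≫ (push A (A' q.2)).map ((restr A (A' q.2)).map (etaHom (A' q.1) F))
  have hi : ∀ (B : Alg A) x j, (biproduct.π P₁ j).app (pt B) (i.app (pt B) x) = mp F (Alg.unit A (A' j) B) x := by
    intro B x j
    rw [← comp_app, biproduct.lift_π]
    rfl
  have hd : ∀ (B : Alg A) z (j k : ι), (biproduct.π P₂ (j, k)).app (pt B) (d.app (pt B) z) =
      mp F ((Alg.restr A (A' j)).map ((Alg.baseChange A (A' j)).map (Alg.unit A (A' k) B)))
          ((biproduct.π P₁ j).app (pt B) z) -
        mp F (Alg.unit A (A' j) ((Alg.restr A (A' k)).obj ((Alg.baseChange A (A' k)).obj B)))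
          ((biproduct.π P₁ k).app (pt B) z) := by
    intro B z j k
    rw [← comp_app, biproduct.lift_π]
    rfl
  obtain ⟨e⟩ := (show IsKer i d from ⟨fun B x x' h => hinj B x x' fun j => by rw [← hi, h, hi], fun B x => by
      refine biproduct_ext_pt P₂ B _ _ fun q => ?_
      rw [map_zero, hd B _ q.1 q.2, hi, hi, ← mp_comp, ← mp_comp, sub_eq_zero]
      exact congrArg (fun g => mp F g x) (unit_natural (A' q.1) (Alg.unit A (A' q.2) B)).symm,
    fun B z hz => by
      obtain ⟨x, hx⟩ := hex B (fun j => (biproduct.π P₁ j).app (pt B) z) fun j k => by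
        rw [← sub_eq_zero, ← hd B z j k, hz, map_zero]
      exact ⟨x, biproduct_ext_pt P₁ B _ _ fun j => (hi B x j).trans (hx j)⟩⟩).nonempty_iso
  exact (adequate A).prop_of_iso e.symm
    (adequate_kernel d (adequate_biproduct P₁ hP₁) (adequate_biproduct P₂ hP₂))

end Biproduct

section Restr

variable (K : Precoverage Scheme.{u}) [BigSite.OSh K] {S : Scheme.{u}} {R R' : CommRingCat.{u}} [Algebra R R']
  (a : Spec R ⟶ S) (a' : Spec R' ⟶ S) (ha : Spec.map (CommRingCat.ofHom (algebraMap R R')) ≫ a = a')
  (P : PresheafOfModules.{u + 1} (BigSite.ORing K S).obj)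

include ha in
theorem restrObj_hom (B : Alg R') :
    ((specOver a).obj (op ((Alg.restr R R').obj B))).hom = ((specOver a').obj (op B)).hom := by
  show Spec.map (CommRingCat.ofHom ((algebraMap R' B).comp (algebraMap R R'))) ≫ a =
    Spec.map (CommRingCat.ofHom (algebraMap R' B)) ≫ a'
  rw [← ha, CommRingCat.ofHom_comp, Spec.map_comp, Category.assoc]

/-- the two objects over `S` attached to an algebra -/
noncomputable def restrObjIso (B : Alg R') : (specOver a').obj (op B) ≅ (specOver a).obj (op ((Alg.restr R R').obj B)) :=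
  Over.isoMk (Iso.refl _) ((Category.id_comp _).trans (restrObj_hom a a' ha B))

/-- restriction to algebras over an algebra -/
noncomputable def restrHom : (Adeq.restr R R').obj ((toMVFPre K a).obj P) ⟶ (toMVFPre K a').obj P :=
  mkHom (fun B => ((PresheafOfModules.toPresheaf _).obj P |>.map (restrObjIso a a' ha B).hom.op).hom)
    (fun B B' g x => by
      show ((PresheafOfModules.toPresheaf _).obj P).map (restrObjIso a a' ha B').hom.op
          (((PresheafOfModules.toPresheaf _).obj P).map ((specOver a).map ((Alg.restr R R').map g).op).op x) =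
        ((PresheafOfModules.toPresheaf _).obj P).map ((specOver a').map g.op).op
          (((PresheafOfModules.toPresheaf _).obj P).map (restrObjIso a a' ha B).hom.op x)
      rw [← comp_apply, ← comp_apply, ← Functor.map_comp, ← Functor.map_comp, ← op_comp, ← op_comp]
      congr 3)
    (fun B b x => by
      refine (P.map_smul (restrObjIso a a' ha B).hom.op (toSect K a ((Alg.restr R R').obj B) b) x).trans ?_
      congr 1)

include ha in
theorem adequate_restr_iff :
    adequate R' ((Adeq.restr R R').obj ((toMVFPre K a).obj P)) ↔ adequate R' ((toMVFPre K a').obj P) := by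
  have : IsIso (restrHom K a a' ha P) := isIso_of_pt _ fun B =>
    ((forget AddCommGrpCat).mapIso (((PresheafOfModules.toPresheaf _).obj P).mapIso (restrObjIso a a' ha B).op)).toEquiv.bijective
  exact ⟨(adequate R').prop_of_iso (asIso (restrHom K a a' ha P)),
    (adequate R').prop_of_iso (asIso (restrHom K a a' ha P)).symm⟩

end Restr

section Main

variable {P : MorphismProperty Scheme.{u}} [P.IsStableUnderComposition] [P.IsStableUnderBaseChange]
  [BigSite.OSh (Scheme.precoverage P)] (hP : Good P) {S : Scheme.{u}}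

omit [P.IsStableUnderComposition] [BigSite.OSh (Scheme.precoverage P)] in
theorem prop_unit (R : CommRingCat.{u}) (C : Type u) [CommRing C] [Algebra R C] (B : Alg R)
    (h : P (Spec.map (CommRingCat.ofHom (algebraMap R C)))) :
    P (Spec.map (CommRingCat.ofHom (ringHomOf (Alg.unit R C B)))) := by
  have := P.pullback_snd (Spec.map (CommRingCat.ofHom (algebraMap R C))) (Spec.map (CommRingCat.ofHom (algebraMap R (B : Type u)))) h
  have e : Spec.map (CommRingCat.ofHom (ringHomOf (Alg.unit R C B))) =
      (pullbackSpecIso R C B).inv ≫ pullback.snd _ _ := (pullbackSpecIso_inv_snd R C B).symm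
  rw [e]
  exact (MorphismProperty.cancel_left_of_respectsIso P _ _).2 this

theorem surj_unit {ι : Type u} (R : CommRingCat.{u}) (C : ι → Type u) [∀ j, CommRing (C j)] [∀ j, Algebra R (C j)]
    (B : Alg R)
    (h : ∀ p : PrimeSpectrum R, ∃ j, p ∈ Set.range (PrimeSpectrum.comap (algebraMap R (C j)))) (p : PrimeSpectrum (B : Type u)) :
    ∃ j, p ∈ Set.range (PrimeSpectrum.comap (ringHomOf (Alg.unit R (C j) B))) := by
  obtain ⟨j, q, hq⟩ := h (PrimeSpectrum.comap (algebraMap R B) p)
  obtain ⟨z, -, hz⟩ := Scheme.Pullback.exists_preimage_pullback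
    (f := Spec.map (CommRingCat.ofHom (algebraMap R (C j)))) (g := Spec.map (CommRingCat.ofHom (algebraMap R (B : Type u)))) q p hq
  refine ⟨j, (pullbackSpecIso R (C j) B).hom z, ?_⟩
  show Spec.map (CommRingCat.ofHom (Algebra.TensorProduct.includeRight : (B : Type u) →ₐ[R] C j ⊗[R] (B : Type u)).toRingHom)
    ((pullbackSpecIso R (C j) B).hom z) = p
  rw [← Scheme.Hom.comp_apply]
  erw [pullbackSpecIso_hom_snd]
  exact hz

theorem exists_pushout_hom (R : CommRingCat.{u}) (C : Type u) [CommRing C] [Algebra R C] (V : Alg R)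
    {T : Type u} [CommRing T] (αC : C →+* T) (β : (V : Type u) →+* T)
    (h : αC.comp (algebraMap R C) = β.comp (algebraMap R (V : Type u))) :
    ∃ k : C ⊗[R] (V : Type u) →+* T, ∀ c v, k (c ⊗ₜ[R] v) = αC c * β v := by
  letI : Algebra R T := (αC.comp (algebraMap R C)).toAlgebra
  let f : C →ₐ[R] T := { αC with commutes' := fun r => rfl }
  let g : (V : Type u) →ₐ[R] T := { β with commutes' := fun r => (DFunLike.congr_fun h r).symm }
  exact ⟨(Algebra.TensorProduct.lift f g fun _ _ => Commute.all _ _).toRingHom,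
    fun c v => Algebra.TensorProduct.lift_tmul _ _ _ c v⟩

theorem isOverlap_baseChange (R : CommRingCat.{u}) (C C' : Type u) [CommRing C] [Algebra R C] [CommRing C'] [Algebra R C']
    (B : Alg R) :
    IsOverlap (Alg.unit R C B) (Alg.unit R C' B)
      ((Alg.restr R C).map ((Alg.baseChange R C).map (Alg.unit R C' B)))
      (Alg.unit R C ((Alg.restr R C').obj ((Alg.baseChange R C').obj B))) := by
  intro T _ α β hαβ
  let α₀ : C ⊗[R] (B : Type u) →+* T := α
  let αC : C →+* T := α₀.comp (Algebra.TensorProduct.includeLeftRingHom (R := R) (A := C) (B := (B : Type u)))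
  obtain ⟨k, hk⟩ := exists_pushout_hom R C ((Alg.restr R C').obj ((Alg.baseChange R C').obj B)) αC β
    (RingHom.ext fun r => ((congrArg α (ringHomOf_algebraMap (Alg.unit R C B) r)).symm.trans
      (DFunLike.congr_fun hαβ (algebraMap R (B : Type u) r))).trans (congrArg β (ringHomOf_algebraMap (Alg.unit R C' B) r)))
  refine ⟨k, ?_, ?_⟩
  · refine RingHom.ext fun (v : C ⊗[R] (B : Type u)) => ?_
    induction v using TensorProduct.induction_on with
    | zero => exact (map_zero _).trans (map_zero α).symm
    | tmul c b =>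
      refine (hk c ((Alg.unit R C' B).hom b)).trans ?_
      show α₀ (c ⊗ₜ[R] 1) * β ((Alg.unit R C' B).hom b) = α₀ (c ⊗ₜ[R] b)
      rw [show β ((Alg.unit R C' B).hom b) = α₀ ((1 : C) ⊗ₜ[R] b) from (DFunLike.congr_fun hαβ b).symm, ← map_mul,
        Algebra.TensorProduct.tmul_mul_tmul, mul_one, one_mul]
    | add v w hv hw => exact (map_add _ _ _).trans ((congrArg₂ (· + ·) hv hw).trans (map_add α _ _).symm)
  · refine RingHom.ext fun v => (hk 1 v).trans ?_
    rw [map_one, one_mul]

include hP in
/-- an adequate module gives an adequate functor on every affine object -/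
theorem adequate_toMVF (M : BigSite.Mod (Scheme.precoverage P) S)
    (hM : adequateMod (Scheme.precoverage P) S M) (R : CommRingCat.{u}) (a : Spec R ⟶ S) :
    adequate R ((toMVF (Scheme.precoverage P) a).obj M) := by
  obtain ⟨κ, Rk, ak, hcov, hk⟩ := hM
  obtain ⟨hsurj, hPk⟩ := (Scheme.ofArrows_mem_precoverage_iff P).1 hcov
  obtain ⟨ι, _, C, φ, k, h, hh, hPφ, hs⟩ := exists_affine_refinement hP (B := (R : Type u))
    (fun k => pullback.fst a (ak k)) ((Scheme.ofArrows_mem_precoverage_iff P).2 ⟨fun x => by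
      obtain ⟨k, y, hy⟩ := hsurj (a x)
      obtain ⟨z, hz, -⟩ := Scheme.Pullback.exists_preimage_pullback (f := a) (g := ak k) x y hy.symm
      exact ⟨k, z, hz⟩, fun k => P.pullback_fst a (ak k) (hPk k)⟩)
  letI : ∀ j, Algebra R (C j) := fun j => (φ j).hom.toAlgebra
  have hloc : ∀ j, adequate (C j) ((Adeq.restr R (C j)).obj ((toMVF (Scheme.precoverage P) a).obj M)) := fun j => by
    obtain ⟨ψ, hψ⟩ := Spec.map_surjective (h j ≫ pullback.snd a (ak (k j)))
    letI : Algebra (Rk (k j)) (C j) := ψ.hom.toAlgebra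
    refine (adequate_restr_iff (Scheme.precoverage P) a (Spec.map (φ j) ≫ a) rfl M.val).2 ?_
    refine (adequate_restr_iff (Scheme.precoverage P) (ak (k j)) (Spec.map (φ j) ≫ a) ?_ M.val).1
      (adequate_restr _ (hk (k j)))
    show Spec.map ψ ≫ ak (k j) = _
    rw [hψ, Category.assoc, ← pullback.condition, ← Category.assoc]
    exact congrArg (· ≫ a) (hh j)
  refine adequate_of_descent_family (fun j => (C j : Type u)) hloc (fun B x x' hx => ?_) (fun B y hy => ?_)
  · exact sheaf_separated a M (fun j => Alg.unit R (C j) B) (fun j => prop_unit R (C j) B (hPφ j))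
      (surj_unit R (fun j => (C j : Type u)) B hs) x x' hx
  · exact sheaf_glue a M (fun j => Alg.unit R (C j) B) (fun j => prop_unit R (C j) B (hPφ j))
      (surj_unit R (fun j => (C j : Type u)) B hs) _ _ (fun j k => isOverlap_baseChange R (C j) (C k) B) y hy

end Main

end Groth.Agent.Adeq
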