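import Mathlib
import Groth.Prelude.Def_Adeq2
import Groth.Agent.Adeq.Mod

/-! Pullbacks and kernels of adequate modules. -/

set_option autoImplicit false
set_option backward.isDefEq.respectTransparency false
universe u
open CategoryTheory CategoryTheory.Limits AlgebraicGeometry Opposite TensorProduct

namespace Groth.Agent.Adeq
open _root_.Adeq

variable {P : MorphismProperty Scheme.{u}} [P.IsStableUnderComposition] [P.IsStableUnderBaseChange]
  [BigSite.OSh (Scheme.precoverage P)] (hP : Good P) {S : Scheme.{u}}

include hP in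
omit [P.IsStableUnderBaseChange] [P.IsStableUnderComposition] in
/-- adequacy on all affine objects gives an adequate module -/
theorem adequateMod_of_forall (M : BigSite.Mod (Scheme.precoverage P) S)
    (h : ∀ (R : CommRingCat.{u}) (a : Spec R ⟶ S), adequate R ((toMVF (Scheme.precoverage P) a).obj M)) :
    adequateMod (Scheme.precoverage P) S M := by
  choose U R e using fun x => S.local_affine x
  let e' := fun x => (e x).some
  let f : ∀ x, Spec (R x) ⟶ S := fun x => ⟨(e' x).inv ≫ S.toLocallyRingedSpace.ofRestrict _⟩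
  refine ⟨S, R, f, (Scheme.ofArrows_mem_precoverage_iff P).2 ⟨fun x => ⟨x, (e' x).hom.base ⟨x, (U x).2⟩, ?_⟩,
    fun x => hP.openImm _ ?_⟩, fun x => h _ _⟩
  · change ((((e' x).hom ≫ (e' x).inv).base ≫ (S.ofRestrict _).base)) ⟨x, _⟩ = x
    cat_disch
  · show IsOpenImmersion (f x)
    infer_instance

/-- the two objects attached to an affine object of `T` over `S` -/
noncomputable def pullObjIso {T : Scheme.{u}} (f : T ⟶ S) {R : CommRingCat.{u}} (a : Spec R ⟶ T) (B : Alg R) :
    (specOver (a ≫ f)).obj (op B) ≅ (Over.map f).obj ((specOver a).obj (op B)) :=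
  Over.isoMk (Iso.refl _) (by
    show 𝟙 _ ≫ (Spec.map _ ≫ a) ≫ f = Spec.map _ ≫ a ≫ f
    rw [Category.id_comp, Category.assoc])

/-- the functor attached to a pullback -/
noncomputable def pullHom {T : Scheme.{u}} (f : T ⟶ S) {R : CommRingCat.{u}} (a : Spec R ⟶ T)
    (M : BigSite.Mod (Scheme.precoverage P) S) :
    (toMVF (Scheme.precoverage P) a).obj ((BigSite.pullMod (Scheme.precoverage P) f).obj M) ⟶
      (toMVF (Scheme.precoverage P) (a ≫ f)).obj M :=
  mkHom (fun B => (M.val.presheaf.map (pullObjIso f a B).hom.op).hom)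
    (fun B B' g x => by
      show M.val.presheaf.map (pullObjIso f a B').hom.op
          (M.val.presheaf.map ((Over.map f).map ((specOver a).map g.op)).op x) =
        M.val.presheaf.map ((specOver (a ≫ f)).map g.op).op (M.val.presheaf.map (pullObjIso f a B).hom.op x)
      rw [← comp_apply, ← comp_apply, ← Functor.map_comp, ← Functor.map_comp, ← op_comp, ← op_comp]
      congr 3)
    (fun B b x => by
      refine (M.val.map_smul (pullObjIso f a B).hom.op _ x).trans ?_
      congr 1)

theorem isIso_pullHom {T : Scheme.{u}} (f : T ⟶ S) {R : CommRingCat.{u}} (a : Spec R ⟶ T)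
    (M : BigSite.Mod (Scheme.precoverage P) S) : IsIso (pullHom f a M) :=
  isIso_of_pt _ fun B =>
    ((forget AddCommGrpCat).mapIso (M.val.presheaf.mapIso (pullObjIso f a B).op)).toEquiv.bijective

include hP in
theorem adequateMod_pullMod {T : Scheme.{u}} (f : T ⟶ S) (M : BigSite.Mod (Scheme.precoverage P) S)
    (hM : adequateMod (Scheme.precoverage P) S M) :
    adequateMod (Scheme.precoverage P) T ((BigSite.pullMod (Scheme.precoverage P) f).obj M) :=
  adequateMod_of_forall hP _ fun R a => by
    have := isIso_pullHom f a M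
    exact (adequate R).prop_of_iso (asIso (pullHom f a M)).symm (adequate_toMVF hP M hM R (a ≫ f))

include hP in
theorem adequateMod_of_cover (M : BigSite.Mod (Scheme.precoverage P) S) (ι : Type u) (T : ι → Scheme.{u})
    (f : ∀ i, T i ⟶ S) (hcov : Presieve.ofArrows T f ∈ (Scheme.precoverage P).coverings S)
    (h : ∀ i, adequateMod (Scheme.precoverage P) (T i) ((BigSite.pullMod (Scheme.precoverage P) (f i)).obj M)) :
    adequateMod (Scheme.precoverage P) S M := by
  choose κ R a hc ha using h
  obtain ⟨hs, hf⟩ := (Scheme.ofArrows_mem_precoverage_iff P).1 hcov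
  refine ⟨Σ i, κ i, fun q => R q.1 q.2, fun q => a q.1 q.2 ≫ f q.1, (Scheme.ofArrows_mem_precoverage_iff P).2
    ⟨fun x => ?_, fun q => P.comp_mem _ _ (((Scheme.ofArrows_mem_precoverage_iff P).1 (hc q.1)).2 q.2) (hf q.1)⟩,
    fun q => ?_⟩
  · obtain ⟨i, y, rfl⟩ := hs x
    obtain ⟨k, z, rfl⟩ := ((Scheme.ofArrows_mem_precoverage_iff P).1 (hc i)).1 y
    exact ⟨⟨i, k⟩, z, rfl⟩
  · have := isIso_pullHom (f q.1) (a q.1 q.2) M
    exact (adequate _).prop_of_iso (asIso (pullHom (f q.1) (a q.1 q.2) M)) (ha q.1 q.2)

omit [P.IsStableUnderBaseChange] [P.IsStableUnderComposition] in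
theorem isKer_toMVF_kernel {M N : BigSite.Mod (Scheme.precoverage P) S} (φ : M ⟶ N) {R : CommRingCat.{u}}
    (a : Spec R ⟶ S) :
    IsKer ((toMVF (Scheme.precoverage P) a).map (kernel.ι φ)) ((toMVF (Scheme.precoverage P) a).map φ) := by
  have key : ∀ B : Alg R,
      ((ShortComplex.mk (kernel.ι φ) φ (kernel.condition φ)).map (SheafOfModules.forget (BigSite.ORing (Scheme.precoverage P) S) ⋙
        PresheafOfModules.evaluation _ (op ((specOver a).obj (op B))))).Exact ∧
      Mono ((SheafOfModules.forget (BigSite.ORing (Scheme.precoverage P) S) ⋙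
        PresheafOfModules.evaluation _ (op ((specOver a).obj (op B)))).map (kernel.ι φ)) := fun B =>
    ⟨ShortComplex.Exact.map_of_mono_of_preservesKernel
      (ShortComplex.exact_of_f_is_kernel _ (kernelIsKernel φ)) _ inferInstance inferInstance, inferInstance⟩
  exact ⟨fun B x y h => ((ModuleCat.mono_iff_injective ((SheafOfModules.forget (BigSite.ORing (Scheme.precoverage P) S) ⋙
        PresheafOfModules.evaluation _ (op ((specOver a).obj (op B)))).map (kernel.ι φ))).1 (key B).2) h,
    fun B y => congrArg (fun q : kernel φ ⟶ N => q.val.app (op ((specOver a).obj (op B))) y) (kernel.condition φ),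
    fun B x hx => (ShortComplex.moduleCat_exact_iff _).1 (key B).1 x hx⟩

include hP in
theorem adequateMod_kernel {M N : BigSite.Mod (Scheme.precoverage P) S} (φ : M ⟶ N)
    (hM : adequateMod (Scheme.precoverage P) S M) (hN : adequateMod (Scheme.precoverage P) S N) :
    adequateMod (Scheme.precoverage P) S (kernel φ) :=
  adequateMod_of_forall hP _ fun R a => by
    obtain ⟨e⟩ := (isKer_toMVF_kernel φ a).nonempty_iso
    exact (adequate R).prop_of_iso e.symm
      (adequate_kernel _ (adequate_toMVF hP M hM R a) (adequate_toMVF hP N hN R a))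

end Groth.Agent.Adeq
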