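import Mathlib
import Groth.Prelude.Def_Adeq2
import Groth.Agent.Adeq.Modules

/-! Sheafification and colimits of adequate modules. -/

set_option autoImplicit false
set_option backward.isDefEq.respectTransparency false
universe u
open CategoryTheory CategoryTheory.Limits AlgebraicGeometry Opposite TensorProduct

namespace Groth.Agent.Adeq
open _root_.Adeq

/-- an algebra over an algebra, as an object -/
noncomputable abbrev algOver {A : Type u} [CommRing A] (B : Alg A) {C : Type u} [CommRing C] (φ : (B : Type u) →+* C) : Alg A :=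
  letI : Algebra A C := (φ.comp (algebraMap A (B : Type u))).toAlgebra
  algOf A C

/-- its structure map -/
noncomputable def toAlgOver {A : Type u} [CommRing A] (B : Alg A) {C : Type u} [CommRing C] (φ : (B : Type u) →+* C) :
    B ⟶ algOver B φ :=
  letI : Algebra A C := (φ.comp (algebraMap A (B : Type u))).toAlgebra
  CommAlgCat.ofHom { φ with commutes' := fun _ => rfl }

section Family

variable {A : Type u} [CommRing A] {F : MVF A} {B : Alg A} {ι : Type u} [Finite ι] {D : ι → Alg A}
  (f : ∀ j, B ⟶ D j)

theorem adequate_family (hF : adequate A F) (hflat : ∀ j, (f j).hom.toRingHom.Flat)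
    (hsurj : ∀ p : PrimeSpectrum B, ∃ j, p ∈ Set.range (PrimeSpectrum.comap (f j).hom.toRingHom))
    (y : ∀ j, F.obj (pt (D j)))
    (hy : ∀ j k (E : Alg A) (l : D j ⟶ E) (r : D k ⟶ E), f j ≫ l = f k ≫ r → mp F l (y j) = mp F r (y k)) :
    ∃! x, ∀ j, mp F (f j) x = y j := by
  letI : ∀ j, Algebra (B : Type u) (D j : Type u) := fun j => (f j).hom.toRingHom.toAlgebra
  haveI : ∀ j, IsScalarTower A (B : Type u) (D j : Type u) := fun j =>
    IsScalarTower.of_algebraMap_eq fun r => ((f j).hom.commutes r).symm
  haveI : ∀ j, Module.Flat (B : Type u) (D j : Type u) := hflat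
  refine exists_mp_eq_family hF (B : Type u) (fun j => (D j : Type u)) hsurj y fun j k => ?_
  refine hy j k _ _ _ (CommAlgCat.hom_ext (AlgHom.ext fun b => ?_))
  show (algebraMap (B : Type u) (D j : Type u) b) ⊗ₜ[(B : Type u)] (1 : D k) =
    (1 : D j) ⊗ₜ[(B : Type u)] (algebraMap (B : Type u) (D k : Type u) b)
  rw [Algebra.algebraMap_eq_smul_one, Algebra.algebraMap_eq_smul_one, smul_tmul]

theorem adequate_family_ext (hF : adequate A F) (hflat : ∀ j, (f j).hom.toRingHom.Flat)
    (hsurj : ∀ p : PrimeSpectrum B, ∃ j, p ∈ Set.range (PrimeSpectrum.comap (f j).hom.toRingHom))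
    (x x' : F.obj (pt B)) (h : ∀ j, mp F (f j) x = mp F (f j) x') : x = x' :=
  (adequate_family f hF hflat hsurj (fun j => mp F (f j) x) fun j k E l r e => by
    rw [← mp_comp, ← mp_comp, e]).unique (fun _ => rfl) fun j => (h j).symm

end Family

variable {P : MorphismProperty Scheme.{u}} [P.IsStableUnderComposition] [P.IsStableUnderBaseChange]
  [BigSite.OSh (Scheme.precoverage P)] (hP : Good P) {S : Scheme.{u}} {R : CommRingCat.{u}} (a : Spec R ⟶ S)

include hP in
theorem flat_of_prop {B D : Alg R} (f : B ⟶ D) (h : P (Spec.map (CommRingCat.ofHom f.hom.toRingHom))) :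
    f.hom.toRingHom.Flat :=
  (HasRingHomProperty.Spec_iff (P := @Flat)).1 (hP.flat _ h)

include hP in
omit [BigSite.OSh (Scheme.precoverage P)] in
/-- finite affine coverings in covering sieves -/
theorem exists_family_of_mem {B : Alg R} {s : Sieve ((specOver a).obj (op B))}
    (hs : s ∈ QuotSh.J (Scheme.precoverage P) S ((specOver a).obj (op B))) :
    ∃ (ι : Type u) (_ : Finite ι) (D : ι → Alg R) (f : ∀ j, B ⟶ D j),
      (∀ j, s.arrows ((specOver a).map (f j).op)) ∧
      (∀ j, P (Spec.map (CommRingCat.ofHom (f j).hom.toRingHom))) ∧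
      ∀ p : PrimeSpectrum B, ∃ j, p ∈ Set.range (PrimeSpectrum.comap (f j).hom.toRingHom) := by
  rw [GrothendieckTopology.mem_over_iff] at hs
  obtain ⟨ι, hι, C, φ, hmem, hPφ, hsurj⟩ := exists_affine_of_mem hP (B := (B : Type u)) hs
  refine ⟨ι, hι, fun j => algOver B (φ j).hom, fun j => toAlgOver B (φ j).hom, fun j => ?_, hPφ, hsurj⟩
  have h := (Sieve.overEquiv_iff s _).1 (hmem j)
  let e : (specOver a).obj (op (algOver B (φ j).hom)) ⟶ Over.mk (Spec.map (φ j) ≫ ((specOver a).obj (op B)).hom) :=
    Over.homMk (𝟙 _) ((Category.id_comp _).trans (Over.w ((specOver a).map (toAlgOver B (φ j).hom).op)))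
  have he : (specOver a).map (toAlgOver B (φ j).hom).op =
      e ≫ (Over.homMk (Spec.map (φ j)) : Over.mk (Spec.map (φ j) ≫ ((specOver a).obj (op B)).hom) ⟶ (specOver a).obj (op B)) :=
    Over.OverMorphism.ext (Category.id_comp _).symm
  rw [he]
  exact s.downward_closed h e

variable (Q : PresheafOfModules.{u + 1} (BigSite.ORing (Scheme.precoverage P) S).obj)

/-- the unit of sheafification -/
noncomputable def sheafifyUnit :
    (toMVFPre (Scheme.precoverage P) a).obj Q ⟶ (toMVF (Scheme.precoverage P) a).obj
      ((PresheafOfModules.sheafification (𝟙 (BigSite.ORing (Scheme.precoverage P) S).obj)).obj Q) :=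
  (toMVFPre (Scheme.precoverage P) a).map
    (PresheafOfModules.sheafificationHomEquiv (𝟙 (BigSite.ORing (Scheme.precoverage P) S).obj) (𝟙 _))

theorem sheafifyUnit_app (B : Alg R) (x : ((toMVFPre (Scheme.precoverage P) a).obj Q).obj (pt B)) :
    (sheafifyUnit a Q).app (pt B) x =
      (CategoryTheory.toSheafify (QuotSh.J (Scheme.precoverage P) S) Q.presheaf).app (op ((specOver a).obj (op B))) x := rfl

include hP in
/-- sheafification does not change the sections over affine objects -/
theorem isIso_sheafifyUnit (h : adequate R ((toMVFPre (Scheme.precoverage P) a).obj Q)) : IsIso (sheafifyUnit a Q) := by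
  let M := (PresheafOfModules.sheafification (𝟙 (BigSite.ORing (Scheme.precoverage P) S).obj)).obj Q
  let J := QuotSh.J (Scheme.precoverage P) S
  let η := CategoryTheory.toSheafify J Q.presheaf
  have hinj : ∀ B : Alg R, Function.Injective ((sheafifyUnit a Q).app (pt B)) := by
    intro B
    rw [injective_iff_map_eq_zero]
    intro x hx
    rw [sheafifyUnit_app] at hx
    have hs := Presheaf.equalizerSieve_mem J η x 0 (hx.trans (map_zero _).symm)
    obtain ⟨ι, _, D, f, hf, hPf, hsurj⟩ := exists_family_of_mem hP a hs
    refine adequate_family_ext f h (fun j => flat_of_prop hP (f j) (hPf j)) hsurj x 0 fun j => ?_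
    exact hf j
  refine isIso_of_pt _ fun B => ⟨hinj B, fun s => ?_⟩
  have hs := Presheaf.imageSieve_mem J η (U := op ((specOver a).obj (op B))) s
  obtain ⟨ι, _, D, f, hf, hPf, hsurj⟩ := exists_family_of_mem hP a hs
  choose y hy using hf
  have hy' : ∀ j, (sheafifyUnit a Q).app (pt (D j)) (y j) = mp _ (f j) s := hy
  obtain ⟨x, hx, -⟩ := adequate_family f h (fun j => flat_of_prop hP (f j) (hPf j)) hsurj y
    fun j k E l r e => hinj E (by
      rw [mp_natural (sheafifyUnit a Q) l, mp_natural (sheafifyUnit a Q) r, hy', hy', ← mp_comp, ← mp_comp, e])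
  refine ⟨x, sheaf_separated a M f hPf hsurj _ _ fun j => ?_⟩
  rw [← mp_natural (sheafifyUnit a Q) (f j), hx, hy']

include hP in
theorem adequateMod_sheafification
    (h : ∀ (R : CommRingCat.{u}) (a : Spec R ⟶ S), adequate R ((toMVFPre (Scheme.precoverage P) a).obj Q)) :
    adequateMod (Scheme.precoverage P) S
      ((PresheafOfModules.sheafification (𝟙 (BigSite.ORing (Scheme.precoverage P) S).obj)).obj Q) :=
  adequateMod_of_forall hP _ fun R a => by
    have := isIso_sheafifyUnit hP a Q (h R a)
    exact (adequate R).prop_of_iso (asIso (sheafifyUnit a Q)) (h R a)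

omit [P.IsStableUnderBaseChange] [P.IsStableUnderComposition] in
theorem preservesColimitsOfShape_toMVFPre (J : Type*) [Category J]
    [HasColimitsOfShape J AddCommGrpCat.{u + 1}] [HasColimitsOfShape J (MVF R)]
    [PreservesColimitsOfShape J (PresheafOfModules.toPresheaf.{u + 1} (ringOf R))]
    [PreservesColimitsOfShape J (PresheafOfModules.toPresheaf.{u + 1} (BigSite.ORing (Scheme.precoverage P) S).obj)] :
    PreservesColimitsOfShape J (toMVFPre (Scheme.precoverage P) a) := by
  have : PreservesColimitsOfShape J (toMVFPre (Scheme.precoverage P) a ⋙ PresheafOfModules.toPresheaf.{u + 1} (ringOf R)) :=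
    inferInstanceAs (PreservesColimitsOfShape J
      (PresheafOfModules.toPresheaf.{u + 1} (BigSite.ORing (Scheme.precoverage P) S).obj ⋙
        (Functor.whiskeringLeft _ _ _).obj (specOver a).op))
  have : ReflectsColimitsOfShape J (PresheafOfModules.toPresheaf.{u + 1} (ringOf R)) :=
    reflectsColimitsOfShape_of_reflectsIsomorphisms
  exact preservesColimitsOfShape_of_reflects_of_preserves _ (PresheafOfModules.toPresheaf.{u + 1} (ringOf R))

variable {J : Type*} [Category J]

/-- a colimit of sheaves of modules is the sheafification of the colimit of presheaves -/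
noncomputable def colimitIsoSheafify (D : J ⥤ BigSite.Mod (Scheme.precoverage P) S)
    [HasColimitsOfShape J (BigSite.Mod (Scheme.precoverage P) S)]
    [HasColimitsOfShape J (PresheafOfModules.{u + 1} (BigSite.ORing (Scheme.precoverage P) S).obj)] :
    colimit D ≅ (PresheafOfModules.sheafification (𝟙 (BigSite.ORing (Scheme.precoverage P) S).obj)).obj
      (colimit (D ⋙ SheafOfModules.forget _ ⋙ PresheafOfModules.restrictScalars (𝟙 _))) :=
  haveI : PreservesColimitsOfSize (PresheafOfModules.sheafification (𝟙 (BigSite.ORing (Scheme.precoverage P) S).obj)) :=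
    (PresheafOfModules.sheafificationAdjunction _).leftAdjoint_preservesColimits
  HasColimit.isoOfNatIso (Functor.isoWhiskerLeft D
    (asIso (PresheafOfModules.sheafificationAdjunction (𝟙 (BigSite.ORing (Scheme.precoverage P) S).obj)).counit)).symm ≪≫
    (preservesColimitIso (PresheafOfModules.sheafification (𝟙 (BigSite.ORing (Scheme.precoverage P) S).obj))
      (D ⋙ SheafOfModules.forget _ ⋙ PresheafOfModules.restrictScalars (𝟙 _))).symm

include hP in
theorem adequateMod_cokernel {M N : BigSite.Mod (Scheme.precoverage P) S} (φ : M ⟶ N)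
    (hM : adequateMod (Scheme.precoverage P) S M) (hN : adequateMod (Scheme.precoverage P) S N) :
    adequateMod (Scheme.precoverage P) S (cokernel φ) := by
  refine (adequateMod (Scheme.precoverage P) S).prop_of_iso (colimitIsoSheafify (parallelPair φ 0)).symm
    (adequateMod_sheafification hP _ fun R a => ?_)
  have := preservesColimitsOfShape_toMVFPre (P := P) a WalkingParallelPair
  let Z := parallelPair φ 0 ⋙ SheafOfModules.forget _ ⋙ PresheafOfModules.restrictScalars (𝟙 _)
  let T := toMVF (Scheme.precoverage P) a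
  let e : Z ⋙ toMVFPre (Scheme.precoverage P) a ≅ parallelPair (T.map φ) 0 :=
    diagramIsoParallelPair (Z ⋙ toMVFPre (Scheme.precoverage P) a) ≪≫
      parallelPair.ext (Iso.refl _) (Iso.refl _) ((Category.comp_id _).trans (Category.id_comp _).symm)
        (by ext X x; rfl)
  exact (adequate R).prop_of_iso
    (preservesColimitIso (toMVFPre (Scheme.precoverage P) a) Z ≪≫ HasColimit.isoOfNatIso e).symm
    (adequate_cokernel (T.map φ) (adequate_toMVF hP M hM R a) (adequate_toMVF hP N hN R a))

include hP in
theorem adequateMod_colimit {J : Type (u + 1)} [SmallCategory J] (D : J ⥤ BigSite.Mod (Scheme.precoverage P) S)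
    (hD : ∀ j, adequateMod (Scheme.precoverage P) S (D.obj j)) :
    adequateMod (Scheme.precoverage P) S (colimit D) := by
  refine (adequateMod (Scheme.precoverage P) S).prop_of_iso (colimitIsoSheafify D).symm
    (adequateMod_sheafification hP _ fun R a => ?_)
  have := preservesColimitsOfShape_toMVFPre (P := P) a J
  exact (adequate R).prop_of_iso (preservesColimitIso (toMVFPre (Scheme.precoverage P) a) _).symm
    (adequate_colimit _ fun j => adequate_toMVF hP (D.obj j) (hD j) R a)

end Groth.Agent.Adeq
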