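import Mathlib
import Groth.Prelude.Def_Adeq2
import Groth.Agent.Adeq.Sheafify
import Groth.Agent.Adeq.Ext

/-! First Cech cohomology of adequate functors; exactness on affine objects. -/

set_option autoImplicit false
set_option backward.isDefEq.respectTransparency false
universe u v
open CategoryTheory CategoryTheory.Limits AlgebraicGeometry Opposite TensorProduct

namespace Groth.Agent.Adeq
open _root_.Adeq

section Amitsur

variable (B C : Type u) [CommRing B] [CommRing C] [Algebra B C] [Module.FaithfullyFlat B C]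
  (X : Type v) [AddCommGroup X] [Module B X]

/-- the first differential -/
noncomputable def amD : C ⊗[B] X →ₗ[B] C ⊗[B] (C ⊗[B] X) :=
  (TensorProduct.mk B C X 1).lTensor C - TensorProduct.mk B C (C ⊗[B] X) 1

/-- the second differential -/
noncomputable def amD₂ : C ⊗[B] (C ⊗[B] X) →ₗ[B] C ⊗[B] (C ⊗[B] (C ⊗[B] X)) :=
  (amD B C X).lTensor C + TensorProduct.mk B C (C ⊗[B] (C ⊗[B] X)) 1

/-- multiplication of the first two factors -/
noncomputable def amMul (Y : Type v) [AddCommGroup Y] [Module B Y] : C ⊗[B] (C ⊗[B] Y) →ₗ[B] C ⊗[B] Y :=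
  (LinearMap.mul' B C).rTensor Y ∘ₗ (TensorProduct.assoc B C C Y).symm.toLinearMap

omit [Module.FaithfullyFlat B C] in
theorem amMul_tmul (Y : Type v) [AddCommGroup Y] [Module B Y] (c a : C) (y : Y) :
    amMul B C Y (c ⊗ₜ (a ⊗ₜ y)) = (c * a) ⊗ₜ y := rfl

omit [Module.FaithfullyFlat B C] in
theorem amD_tmul (c : C) (x : X) : amD B C X (c ⊗ₜ x) = c ⊗ₜ ((1 : C) ⊗ₜ x) - (1 : C) ⊗ₜ (c ⊗ₜ x) := rfl

theorem amitsur_exact₂ : Function.Exact (amD B C X) (amD₂ B C X) := by
  refine (Module.FaithfullyFlat.lTensor_exact_iff_exact B C _ _).1 fun w => ⟨fun hw => ?_, ?_⟩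
  · have key : ∀ z, amMul B C (C ⊗[B] (C ⊗[B] X)) ((amD₂ B C X).lTensor C z) =
        z + (amD B C X).lTensor C (amMul B C (C ⊗[B] X) z) := by
      intro z
      induction z using TensorProduct.induction_on with
      | zero => simp
      | tmul c v =>
        induction v using TensorProduct.induction_on with
        | zero => simp
        | tmul a y =>
          simp only [LinearMap.lTensor_tmul, amD₂, LinearMap.add_apply, TensorProduct.mk_apply, TensorProduct.tmul_add,
            map_add, amMul_tmul, mul_one]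
          exact add_comm _ _
        | add a b ha hb =>
          simp only [TensorProduct.tmul_add, map_add, ha, hb]
          abel
      | add a b ha hb =>
        simp only [map_add, ha, hb]
        abel
    refine ⟨-amMul B C (C ⊗[B] X) w, ?_⟩
    have := key w
    rw [hw, map_zero] at this
    rw [map_neg]
    exact neg_eq_of_add_eq_zero_left this.symm
  · rintro ⟨z, rfl⟩
    rw [← LinearMap.comp_apply, ← LinearMap.lTensor_comp,
      show amD₂ B C X ∘ₗ amD B C X = 0 from TensorProduct.ext' fun c x => by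
        simp [amD₂, amD_tmul, TensorProduct.tmul_sub], LinearMap.lTensor_zero, LinearMap.zero_apply]

end Amitsur

variable {A : Type u} [CommRing A]

section Tensor

variable (B : Type u) [CommRing B] [Algebra A B] (C : Type u) [CommRing C] [Algebra A C] [Algebra B C]
  [IsScalarTower A B C]

/-- the three coface maps -/
noncomputable abbrev face01 : algOf A (C ⊗[B] C) ⟶ algOf A (C ⊗[B] (C ⊗[B] C)) :=
  CommAlgCat.ofHom ((Algebra.TensorProduct.map (AlgHom.id B C)
    (Algebra.TensorProduct.includeLeft : C →ₐ[B] C ⊗[B] C)).restrictScalars A)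

/-- coface -/
noncomputable abbrev face12 : algOf A (C ⊗[B] C) ⟶ algOf A (C ⊗[B] (C ⊗[B] C)) :=
  CommAlgCat.ofHom ((Algebra.TensorProduct.includeRight : C ⊗[B] C →ₐ[B] C ⊗[B] (C ⊗[B] C)).restrictScalars A)

/-- coface -/
noncomputable abbrev face02 : algOf A (C ⊗[B] C) ⟶ algOf A (C ⊗[B] (C ⊗[B] C)) :=
  CommAlgCat.ofHom ((Algebra.TensorProduct.map (AlgHom.id B C)
    (Algebra.TensorProduct.includeRight : C →ₐ[B] C ⊗[B] C)).restrictScalars A)

variable [Module.FaithfullyFlat B C] (M : Type v) [AddCommGroup M] [Module A M]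

theorem exists_rTensor_sub (c : (C ⊗[B] C) ⊗[A] M)
    (hc : (face01 B C).hom.toLinearMap.rTensor M c + (face12 B C).hom.toLinearMap.rTensor M c =
      (face02 B C).hom.toLinearMap.rTensor M c) :
    ∃ b : C ⊗[A] M, (toLeft A B C C).hom.toLinearMap.rTensor M b - (toRight A B C C).hom.toLinearMap.rTensor M b = c := by
  let cM := AlgebraTensorModule.cancelBaseChange A B C C M
  let θ : (C ⊗[B] C) ⊗[A] M ≃ₗ[B] C ⊗[B] (C ⊗[B] (B ⊗[A] M)) :=
    ((AlgebraTensorModule.assoc A B C C C M).restrictScalars B).trans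
      (LinearEquiv.lTensor C (cM.symm.restrictScalars B))
  let θ₃ : (C ⊗[B] (C ⊗[B] C)) ⊗[A] M →ₗ[B] C ⊗[B] (C ⊗[B] (C ⊗[B] (B ⊗[A] M))) :=
    θ.toLinearMap.lTensor C ∘ₗ ((AlgebraTensorModule.assoc A B C C (C ⊗[B] C) M).restrictScalars B).toLinearMap
  have hθ : ∀ (p q : C) (m : M), θ ((p ⊗ₜ q) ⊗ₜ m) = p ⊗ₜ (q ⊗ₜ ((1 : B) ⊗ₜ m)) := fun p q m => rfl
  have hθ₃ : ∀ (p q r : C) (m : M), θ₃ ((p ⊗ₜ (q ⊗ₜ r)) ⊗ₜ m) = p ⊗ₜ (q ⊗ₜ (r ⊗ₜ ((1 : B) ⊗ₜ m))) :=
    fun p q r m => rfl
  have e1 : ∀ w, amD₂ B C (B ⊗[A] M) (θ w) = θ₃ ((face01 B C).hom.toLinearMap.rTensor M w) +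
      θ₃ ((face12 B C).hom.toLinearMap.rTensor M w) - θ₃ ((face02 B C).hom.toLinearMap.rTensor M w) := by
    intro w
    induction w using TensorProduct.induction_on with
    | zero => simp
    | tmul pq m =>
      induction pq using TensorProduct.induction_on with
      | zero => simp
      | tmul p q =>
        simp only [LinearMap.rTensor_tmul, AlgHom.toLinearMap_apply, CommAlgCat.hom_ofHom, AlgHom.coe_restrictScalars',
          Algebra.TensorProduct.map_tmul, AlgHom.coe_id, id_eq, Algebra.TensorProduct.includeLeft_apply,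
          Algebra.TensorProduct.includeRight_apply, hθ, hθ₃, amD₂, LinearMap.add_apply, LinearMap.lTensor_tmul, amD_tmul,
          TensorProduct.mk_apply, TensorProduct.tmul_sub]
        abel
      | add a b ha hb =>
        simp only [TensorProduct.add_tmul, map_add, ha, hb]
        abel
    | add a b ha hb =>
      simp only [map_add, ha, hb]
      abel
  have e2 : ∀ z : C ⊗[A] M, amD B C (B ⊗[A] M) (cM.symm z) =
      θ ((toLeft A B C C).hom.toLinearMap.rTensor M z - (toRight A B C C).hom.toLinearMap.rTensor M z) := by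
    intro z
    induction z using TensorProduct.induction_on with
    | zero => simp
    | tmul p m =>
      simp only [LinearMap.rTensor_tmul, AlgHom.toLinearMap_apply, CommAlgCat.hom_ofHom, AlgHom.coe_restrictScalars',
        Algebra.TensorProduct.includeLeft_apply, Algebra.TensorProduct.includeRight_apply, map_sub, hθ]
      rfl
    | add a b ha hb =>
      simp only [map_add, map_sub] at ha hb ⊢
      rw [ha, hb]
      abel
  obtain ⟨z, hz⟩ := (amitsur_exact₂ B C (B ⊗[A] M) (θ c)).1 (by rw [e1, ← map_add, ← map_sub, hc, sub_self, map_zero])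
  refine ⟨cM z, θ.injective ?_⟩
  rw [← e2, LinearEquiv.symm_apply_apply, hz]

omit [Module.FaithfullyFlat B C] in
theorem rTensor_comp_hom {D D' D'' : Alg A} (f : D ⟶ D') (g : D' ⟶ D'') (v : (D : Type u) ⊗[A] M) :
    g.hom.toLinearMap.rTensor M (f.hom.toLinearMap.rTensor M v) = (f ≫ g).hom.toLinearMap.rTensor M v :=
  (LinearMap.rTensor_comp_apply M g.hom.toLinearMap f.hom.toLinearMap v).symm

theorem exists_mp_sub {F : MVF A} (hF : adequate A F) (c : F.obj (pt (algOf A (C ⊗[B] C))))
    (hc : mp F (face01 B C) c + mp F (face12 B C) c = mp F (face02 B C) c) :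
    ∃ b, mp F (toLeft A B C C) b - mp F (toRight A B C C) b = c := by
  obtain ⟨M, N, ψ, i, hi⟩ := (adequate_iff F).1 hF
  obtain ⟨b₀, hb₀⟩ := exists_rTensor_sub B C M (i.app (pt (algOf A (C ⊗[B] C))) c) (by
    have := congrArg (i.app (pt (algOf A (C ⊗[B] (C ⊗[B] C))))) hc
    rw [map_add, mp_natural, mp_natural, mp_natural, mp_U, mp_U, mp_U] at this
    exact this)
  have hnat : ∀ {D D' : Alg A} (g : D ⟶ D') (v : (D : Type u) ⊗[A] M),
      g.hom.toLinearMap.rTensor N (ψ.hom.baseChange (D : Type u) v) =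
        ψ.hom.baseChange (D' : Type u) (g.hom.toLinearMap.rTensor M v) := fun g v => by
    rw [LinearMap.baseChange_eq_ltensor, LinearMap.baseChange_eq_ltensor, ← LinearMap.comp_apply,
      LinearMap.rTensor_comp_lTensor, ← LinearMap.lTensor_comp_rTensor, LinearMap.comp_apply]
  obtain ⟨w, hw⟩ := exists_rTensor_eq_ff (A := A) (B := B) (C := C) N (ψ.hom.baseChange C b₀) (by
    rw [← sub_eq_zero]
    have h1 := hnat (toLeft A B C C) b₀
    have h2 := hnat (toRight A B C C) b₀
    refine (congrArg₂ (· - ·) h1 h2).trans ?_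
    rw [← map_sub, hb₀]
    exact hi.zero (algOf A (C ⊗[B] C)) c)
  let Q := N ⧸ LinearMap.range ψ.hom
  have hQ : (LinearMap.range ψ.hom).mkQ.baseChange B w = 0 := by
    refine rTensor_injective_ff (A := A) (B := B) (C := C) Q ?_
    rw [map_zero, LinearMap.baseChange_eq_ltensor, ← LinearMap.comp_apply, LinearMap.rTensor_comp_lTensor,
      ← LinearMap.lTensor_comp_rTensor, LinearMap.comp_apply, hw, LinearMap.baseChange_eq_ltensor,
      ← LinearMap.comp_apply, ← LinearMap.lTensor_comp, LinearMap.range_mkQ_comp, LinearMap.lTensor_zero,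
      LinearMap.zero_apply]
  obtain ⟨v, hv⟩ := (bc_exact B ψ.hom (LinearMap.range ψ.hom).mkQ (LinearMap.exact_map_mkQ_range ψ.hom)
    (Submodule.mkQ_surjective _) w).1 hQ
  let t := toTop A B C
  obtain ⟨b, hb⟩ := hi.exact (algOf A C) (b₀ - t.hom.toLinearMap.rTensor M v) (by
    rw [Um_app]
    show ψ.hom.baseChange C (b₀ - t.hom.toLinearMap.rTensor M v) = 0
    refine (map_sub (ψ.hom.baseChange C) _ _).trans (sub_eq_zero.2 ?_)
    refine hw.symm.trans ?_
    rw [← hv]
    exact hnat t v)
  refine ⟨b, hi.inj _ ?_⟩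
  rw [map_sub, mp_natural, mp_natural, hb, mp_U, mp_U, ← hb₀]
  show _ - _ = _
  have hlr : t ≫ toLeft A B C C = t ≫ toRight A B C C := CommAlgCat.hom_ext (AlgHom.ext fun x => by
    show (algebraMap B C x) ⊗ₜ[B] (1 : C) = (1 : C) ⊗ₜ[B] (algebraMap B C x)
    rw [Algebra.algebraMap_eq_smul_one, smul_tmul])
  have e : (toLeft A B C C).hom.toLinearMap.rTensor M (t.hom.toLinearMap.rTensor M v) =
      (toRight A B C C).hom.toLinearMap.rTensor M (t.hom.toLinearMap.rTensor M v) := by
    rw [rTensor_comp_hom M t (toLeft A B C C) v, rTensor_comp_hom M t (toRight A B C C) v, hlr]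
  rw [map_sub, map_sub, e]
  abel

end Tensor

section Sheaf

variable {P : MorphismProperty Scheme.{u}} [P.IsStableUnderComposition] [P.IsStableUnderBaseChange]
  [BigSite.OSh (Scheme.precoverage P)] (hP : Good P) {S : Scheme.{u}} {R : CommRingCat.{u}} (a : Spec R ⟶ S)

theorem isOverlap_tensor {B D D' : Type u} [CommRing B] [Algebra R B] [CommRing D] [Algebra R D] [Algebra B D]
    [IsScalarTower R B D] [CommRing D'] [Algebra R D'] [Algebra B D'] [IsScalarTower R B D'] :
    IsOverlap (toTop (R : Type u) B D) (toTop (R : Type u) B D') (toLeft (R : Type u) B D D')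
      (toRight (R : Type u) B D D') := by
  intro T _ α β h
  letI : Algebra B T := (RingHom.comp (α : D →+* T) (algebraMap B D)).toAlgebra
  let α₀ : D →+* T := α
  let β₀ : D' →+* T := β
  let α' : D →ₐ[B] T := { α₀ with commutes' := fun _ => rfl }
  let β' : D' →ₐ[B] T := { β₀ with commutes' := fun b => (DFunLike.congr_fun h b).symm }
  refine ⟨(Algebra.TensorProduct.lift α' β' fun _ _ => Commute.all _ _).toRingHom,
    RingHom.ext fun d => ?_, RingHom.ext fun d => ?_⟩
  · show Algebra.TensorProduct.lift α' β' (fun _ _ => Commute.all _ _) (d ⊗ₜ 1) = α d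
    rw [Algebra.TensorProduct.lift_tmul, map_one, mul_one]
    rfl
  · show Algebra.TensorProduct.lift α' β' (fun _ _ => Commute.all _ _) (1 ⊗ₜ d) = β d
    rw [Algebra.TensorProduct.lift_tmul, map_one, one_mul]
    rfl

variable (M : BigSite.Mod (Scheme.precoverage P) S)

theorem eq_of_subsingleton {B : Alg R} [Subsingleton (B : Type u)]
    (x x' : ((toMVF (Scheme.precoverage P) a).obj M).obj (pt B)) : x = x' :=
  sheaf_separated a M (ι := PEmpty.{u + 1}) (D := fun j => j.elim) (fun j => j.elim) (fun j => j.elim)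
    (fun p => (p.isPrime.ne_top (Subsingleton.elim _ _)).elim) x x' fun j => j.elim

include hP in
theorem exists_pi {ι : Type u} [Finite ι] (D : ι → Type u) [∀ j, CommRing (D j)] [∀ j, Algebra R (D j)]
    (y : ∀ j, ((toMVF (Scheme.precoverage P) a).obj M).obj (pt (algOf (R : Type u) (D j)))) :
    ∃ z : ((toMVF (Scheme.precoverage P) a).obj M).obj (pt (algOf (R : Type u) (∀ j, D j))), ∀ j,
      mp _ (CommAlgCat.ofHom (Pi.evalAlgHom R D j) : algOf (R : Type u) (∀ j, D j) ⟶ algOf (R : Type u) (D j)) z = y j := by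
  classical
  letI : ∀ j, Algebra (∀ j, D j) (D j) := fun j => (Pi.evalRingHom D j).toAlgebra
  haveI : ∀ j, IsScalarTower R (∀ j, D j) (D j) := fun j => IsScalarTower.of_algebraMap_eq fun _ => rfl
  refine sheaf_glue a M (fun j => toTop (R : Type u) (∀ j, D j) (D j)) (fun j => hP.openImm _ ?_) (fun p => ?_)
    (fun j k => toLeft (R : Type u) (∀ j, D j) (D j) (D k)) (fun j k => toRight (R : Type u) (∀ j, D j) (D j) (D k))
    (fun j k => isOverlap_tensor) y fun j k => ?_
  · show IsOpenImmersion (Spec.map (CommRingCat.ofHom (Pi.evalRingHom D j)))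
    infer_instance
  · obtain ⟨j, q, hq⟩ := PrimeSpectrum.exists_comap_evalRingHom_eq p
    exact ⟨j, q, hq⟩
  · by_cases hjk : j = k
    · subst hjk
      have : toLeft (R : Type u) (∀ j, D j) (D j) (D j) = toRight (R : Type u) (∀ j, D j) (D j) (D j) := by
        refine CommAlgCat.hom_ext (AlgHom.ext fun d => ?_)
        obtain ⟨c, rfl⟩ := Function.surjective_eval (β := D) j d
        show (algebraMap (∀ j, D j) (D j) c) ⊗ₜ[(∀ j, D j)] (1 : D j) = (1 : D j) ⊗ₜ[(∀ j, D j)] (algebraMap (∀ j, D j) (D j) c)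
        rw [Algebra.algebraMap_eq_smul_one, smul_tmul]
      rw [this]
    · haveI : Subsingleton (D j ⊗[(∀ j, D j)] D k) := by
        refine subsingleton_of_zero_eq_one ?_
        have h1 : (1 : D j) = (Pi.single j 1 : ∀ j, D j) • (1 : D j) := by
          show _ = (Pi.single (M := D) j 1 j) * 1
          rw [Pi.single_eq_same, mul_one]
        have h2 : (Pi.single j 1 : ∀ j, D j) • (1 : D k) = 0 := by
          show (Pi.single (M := D) j 1 k) * 1 = 0
          rw [Pi.single_eq_of_ne (Ne.symm hjk), zero_mul]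
        rw [Algebra.TensorProduct.one_def, h1, smul_tmul, h2, tmul_zero]
      exact eq_of_subsingleton a M _ _

include hP in
omit [P.IsStableUnderBaseChange] in
/-- an epimorphism of modules is locally surjective -/
theorem imageSieve_mem_of_epi {M N : BigSite.Mod (Scheme.precoverage P) S} (φ : M ⟶ N) [Epi φ] (U : Over S)
    (x : N.val.obj (op U)) :
    ∃ s ∈ QuotSh.J (Scheme.precoverage P) S U, ∀ ⦃V : Over S⦄ (g : V ⟶ U), s.arrows g →
      ∃ y : M.val.obj (op V), φ.val.app (op V) y = N.val.map g.op x := by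
  let sh := PresheafOfModules.sheafification (𝟙 (BigSite.ORing (Scheme.precoverage P) S).obj)
  let adj := PresheafOfModules.sheafificationAdjunction (𝟙 (BigSite.ORing (Scheme.precoverage P) S).obj)
  let ψ := (SheafOfModules.forget _ ⋙ PresheafOfModules.restrictScalars (𝟙 (BigSite.ORing (Scheme.precoverage P) S).obj)).map φ
  haveI : Epi (sh.map ψ) := by
    have : sh.map ψ = adj.counit.app M ≫ φ ≫ inv (adj.counit.app N) := by
      rw [← Category.assoc, IsIso.eq_comp_inv]
      exact adj.counit.naturality φ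
    rw [this]
    infer_instance
  haveI : PreservesColimitsOfSize sh := adj.leftAdjoint_preservesColimits
  have hz : IsZero (sh.obj (cokernel ψ)) :=
    (isZero_cokernel_of_epi (sh.map ψ)).of_iso (PreservesCokernel.iso sh ψ)
  let η := CategoryTheory.toSheafify (QuotSh.J (Scheme.precoverage P) S) (cokernel ψ).presheaf
  have hη : η.app (op U) ((cokernel.π ψ).app (op U) x) = 0 := by
    have := congrArg (fun q : sh.obj (cokernel ψ) ⟶ sh.obj (cokernel ψ) =>
      q.val.app (op U) (η.app (op U) ((cokernel.π ψ).app (op U) x))) (hz.eq_of_src (𝟙 _) 0)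
    exact this
  refine ⟨_, Presheaf.equalizerSieve_mem (QuotSh.J (Scheme.precoverage P) S) η ((cokernel.π ψ).app (op U) x) 0
    (hη.trans (map_zero _).symm), fun V g hg => ?_⟩
  have h0 : (cokernel.π ψ).app (op V) (N.val.map g.op x) = 0 := by
    refine Eq.trans ?_ (hg.trans (map_zero _))
    exact PresheafOfModules.naturality_apply (cokernel.π ψ) g.op x
  have hex := ((ShortComplex.exact_of_g_is_cokernel (ShortComplex.mk ψ (cokernel.π ψ) (cokernel.condition ψ))
    (cokernelIsCokernel ψ)).map_of_epi_of_preservesCokernel (PresheafOfModules.evaluation _ (op V)) inferInstance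
      inferInstance)
  exact (ShortComplex.moduleCat_exact_iff _).1 hex (N.val.map g.op x) h0

include hP in
/-- sections over affine objects of an extension by an adequate module -/
theorem surjective_toMVF_of_adequate (C : ShortComplex (BigSite.Mod (Scheme.precoverage P) S)) [Epi C.g]
    (hk : IsKer ((toMVF (Scheme.precoverage P) a).map C.f) ((toMVF (Scheme.precoverage P) a).map C.g))
    (hF : adequate R ((toMVF (Scheme.precoverage P) a).obj C.X₁)) (B : Alg R) :
    Function.Surjective (((toMVF (Scheme.precoverage P) a).map C.g).app (pt B)) := by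
  classical
  intro x
  obtain ⟨s, hs, hsx⟩ := imageSieve_mem_of_epi hP C.g ((specOver a).obj (op B)) x
  obtain ⟨ι, _, D, f, hf, hPf, hsurj⟩ := exists_family_of_mem hP a hs
  choose y hy using fun j => hsx _ (hf j)
  set ιh := (toMVF (Scheme.precoverage P) a).map C.f with hιh
  set g := (toMVF (Scheme.precoverage P) a).map C.g with hgdef
  letI : ∀ j, Algebra (B : Type u) (D j : Type u) := fun j => (f j).hom.toRingHom.toAlgebra
  haveI : ∀ j, IsScalarTower (R : Type u) (B : Type u) (D j : Type u) := fun j =>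
    IsScalarTower.of_algebraMap_eq fun r => ((f j).hom.commutes r).symm
  haveI : ∀ j, Module.Flat (B : Type u) (D j : Type u) := fun j => flat_of_prop hP (f j) (hPf j)
  haveI := faithfullyFlat_pi (B : Type u) (fun j => (D j : Type u)) hsurj
  let Cp : Type u := ∀ j, (D j : Type u)
  obtain ⟨yC, hyC⟩ := exists_pi hP a C.X₂ (fun j => (D j : Type u)) y
  let top := toTop (R : Type u) (B : Type u) Cp
  let pr : ∀ j, algOf (R : Type u) Cp ⟶ D j := fun j =>
    CommAlgCat.ofHom (Pi.evalAlgHom R (fun j => (D j : Type u)) j)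
  letI : ∀ j, Algebra Cp (D j : Type u) := fun j => (Pi.evalRingHom (fun j => (D j : Type u)) j).toAlgebra
  have hgy : g.app (pt (algOf (R : Type u) Cp)) yC = mp _ top x := by
    refine sheaf_separated a C.X₃ pr (fun j => hP.openImm _ (by
      show IsOpenImmersion (Spec.map (CommRingCat.ofHom (Pi.evalRingHom (fun j => (D j : Type u)) j)))
      infer_instance)) (fun p => ?_) _ _ fun j => ?_
    · obtain ⟨j, q, hq⟩ := PrimeSpectrum.exists_comap_evalRingHom_eq p
      exact ⟨j, q, hq⟩
    · rw [← mp_natural g (pr j), hyC, ← mp_comp]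
      exact hy j
  let L := toLeft (R : Type u) (B : Type u) Cp Cp
  let Rr := toRight (R : Type u) (B : Type u) Cp Cp
  have hLR : top ≫ L = top ≫ Rr := CommAlgCat.hom_ext (AlgHom.ext fun z => by
    show (algebraMap (B : Type u) Cp z) ⊗ₜ[(B : Type u)] (1 : Cp) = (1 : Cp) ⊗ₜ[(B : Type u)] (algebraMap (B : Type u) Cp z)
    rw [Algebra.algebraMap_eq_smul_one, smul_tmul])
  obtain ⟨c, hc⟩ := hk.exact _ (mp _ L yC - mp _ Rr yC) (by
    rw [map_sub, mp_natural g L, mp_natural g Rr, hgy, ← mp_comp, ← mp_comp, hLR, sub_self])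
  have h1 : Rr ≫ face01 (A := (R : Type u)) (B : Type u) Cp = L ≫ face12 (A := (R : Type u)) (B : Type u) Cp :=
    CommAlgCat.hom_ext (AlgHom.ext fun z => rfl)
  have h2 : L ≫ face01 (A := (R : Type u)) (B : Type u) Cp = L ≫ face02 (A := (R : Type u)) (B : Type u) Cp :=
    CommAlgCat.hom_ext (AlgHom.ext fun z => rfl)
  have h3 : Rr ≫ face12 (A := (R : Type u)) (B : Type u) Cp = Rr ≫ face02 (A := (R : Type u)) (B : Type u) Cp :=
    CommAlgCat.hom_ext (AlgHom.ext fun z => rfl)
  obtain ⟨b, hb⟩ := exists_mp_sub (B : Type u) Cp hF c (hk.inj _ (by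
    rw [map_add, mp_natural ιh, mp_natural ιh, mp_natural ιh, hc, map_sub, map_sub, map_sub, ← mp_comp, ← mp_comp,
      ← mp_comp, ← mp_comp, ← mp_comp, ← mp_comp, h1, h2, h3]
    abel))
  let y' := yC - ιh.app (pt (algOf (R : Type u) Cp)) b
  have hy' : mp _ L y' = mp _ Rr y' := by
    rw [map_sub, map_sub, ← mp_natural ιh L, ← mp_natural ιh Rr, sub_eq_sub_iff_sub_eq_sub, ← map_sub, hb]
    exact hc.symm
  have hgy' : g.app (pt (algOf (R : Type u) Cp)) y' = mp _ top x := by
    rw [map_sub, hgy, hk.zero, sub_zero]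
  let π2 : ∀ j k, algOf (R : Type u) (Cp ⊗[(B : Type u)] Cp) ⟶ algOf (R : Type u) ((D j : Type u) ⊗[(B : Type u)] (D k : Type u)) :=
    fun j k => CommAlgCat.ofHom ((Algebra.TensorProduct.map (Pi.evalAlgHom (B : Type u) (fun j => (D j : Type u)) j)
      (Pi.evalAlgHom (B : Type u) (fun j => (D j : Type u)) k)).restrictScalars (R : Type u))
  have hπL : ∀ j k, L ≫ π2 j k = pr j ≫ toLeft (R : Type u) (B : Type u) (D j : Type u) (D k : Type u) := fun j k =>
    CommAlgCat.hom_ext (AlgHom.ext fun z => by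
      show (Algebra.TensorProduct.map (Pi.evalAlgHom (B : Type u) (fun j => (D j : Type u)) j) (Pi.evalAlgHom (B : Type u) (fun j => (D j : Type u)) k))
        (z ⊗ₜ[(B : Type u)] 1) = z j ⊗ₜ[(B : Type u)] 1
      rw [Algebra.TensorProduct.map_tmul, map_one]
      rfl)
  have hπR : ∀ j k, Rr ≫ π2 j k = pr k ≫ toRight (R : Type u) (B : Type u) (D j : Type u) (D k : Type u) := fun j k =>
    CommAlgCat.hom_ext (AlgHom.ext fun z => by
      show (Algebra.TensorProduct.map (Pi.evalAlgHom (B : Type u) (fun j => (D j : Type u)) j) (Pi.evalAlgHom (B : Type u) (fun j => (D j : Type u)) k))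
        (1 ⊗ₜ[(B : Type u)] z) = 1 ⊗ₜ[(B : Type u)] z k
      rw [Algebra.TensorProduct.map_tmul, map_one]
      rfl)
  let tL : ∀ j k, D j ⟶ algOf (R : Type u) ((D j : Type u) ⊗[(B : Type u)] (D k : Type u)) := fun j k =>
    toLeft (R : Type u) (B : Type u) (D j : Type u) (D k : Type u)
  let tR : ∀ j k, D k ⟶ algOf (R : Type u) ((D j : Type u) ⊗[(B : Type u)] (D k : Type u)) := fun j k =>
    toRight (R : Type u) (B : Type u) (D j : Type u) (D k : Type u)
  obtain ⟨x₀, hx₀⟩ := sheaf_glue a C.X₂ f hPf hsurj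
    tL tR
    (fun j k => isOverlap_tensor) (fun j => mp _ (pr j) y') fun j k => by
      rw [← mp_comp, ← mp_comp, show pr j ≫ tL j k = L ≫ π2 j k from (hπL j k).symm,
        show pr k ≫ tR j k = Rr ≫ π2 j k from (hπR j k).symm, mp_comp, mp_comp, hy']
  refine ⟨x₀, sheaf_separated a C.X₃ f hPf hsurj _ _ fun j => ?_⟩
  rw [← mp_natural g (f j), hx₀, mp_natural g (pr j), hgy', ← mp_comp]
  rfl

end Sheaf

end Groth.Agent.Adeq

namespace Groth.Agent.Adeq
open _root_.Adeq

section ShortExact

variable {P : MorphismProperty Scheme.{u}} [P.IsStableUnderComposition] [P.IsStableUnderBaseChange]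
  [BigSite.OSh (Scheme.precoverage P)] (hP : Good P) {S : Scheme.{u}}

omit [P.IsStableUnderBaseChange] [P.IsStableUnderComposition] in
theorem isKer_toMVF_of_shortExact {C : ShortComplex (BigSite.Mod (Scheme.precoverage P) S)} (hC : C.ShortExact)
    {R : CommRingCat.{u}} (a : Spec R ⟶ S) :
    IsKer ((toMVF (Scheme.precoverage P) a).map C.f) ((toMVF (Scheme.precoverage P) a).map C.g) := by
  let e := IsLimit.conePointUniqueUpToIso hC.fIsKernel (limit.isLimit (parallelPair C.g 0))
  have he : e.hom ≫ kernel.ι C.g = C.f :=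
    IsLimit.conePointUniqueUpToIso_hom_comp hC.fIsKernel (limit.isLimit _) WalkingParallelPair.zero
  rw [← he, Functor.map_comp]
  exact (isKer_toMVF_kernel C.g a).of_iso ((toMVF (Scheme.precoverage P) a).mapIso e)

include hP in
theorem adequateMod_extension {C : ShortComplex (BigSite.Mod (Scheme.precoverage P) S)} (hC : C.ShortExact)
    (h₁ : adequateMod (Scheme.precoverage P) S C.X₁) (h₃ : adequateMod (Scheme.precoverage P) S C.X₃) :
    adequateMod (Scheme.precoverage P) S C.X₂ :=
  adequateMod_of_forall hP _ fun R a => by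
    have := hC.epi_g
    have hk := isKer_toMVF_of_shortExact hC a
    have h₁' := adequate_toMVF hP C.X₁ h₁ R a
    exact adequate_of_extension hk (fun B => surjective_toMVF_of_adequate hP a C hk h₁' B) h₁'
      (adequate_toMVF hP C.X₃ h₃ R a)

end ShortExact

end Groth.Agent.Adeq
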