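import Mathlib
import Groth.Prelude.Def_Adeq
import Groth.Agent.Adeq.Colim

/-! Adequate functors commute with filtered colimits. -/

set_option autoImplicit false
set_option backward.isDefEq.respectTransparency false
universe u
open CategoryTheory CategoryTheory.Limits Opposite TensorProduct

namespace Groth.Agent.Adeq
open _root_.Adeq

variable {A : Type u} [CommRing A] {J : Type u} [SmallCategory J] [IsFiltered J] {D : J ⥤ Alg A} {c : Cocone D}

theorem preservesColimit_forget : PreservesColimit D (forget (Alg A)) := by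
  haveI : IsConnected J := IsFiltered.isConnected J
  have : PreservesColimitsOfShape J (Under.forget (CommRingCat.of A)) :=
    inferInstanceAs (PreservesColimitsOfShape J (StructuredArrow.proj (CommRingCat.of A) (𝟭 CommRingCat)))
  let E := (commAlgCatEquivUnder (CommRingCat.of A)).functor
  have : PreservesColimit D (E ⋙ Under.forget (CommRingCat.of A) ⋙ forget CommRingCat.{u}) := inferInstance
  exact this

theorem alg_jointly_surjective (hc : IsColimit c) (x : c.pt) : ∃ (j : J) (y : D.obj j), (c.ι.app j).hom y = x := by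
  have := preservesColimit_forget (D := D)
  obtain ⟨j, y, hy⟩ := Types.jointly_surjective _ (isColimitOfPreserves (forget (Alg A)) hc) x
  exact ⟨j, y, hy⟩

theorem alg_eq_iff (hc : IsColimit c) {j : J} (x y : D.obj j) :
    (c.ι.app j).hom x = (c.ι.app j).hom y ↔ ∃ (k : J) (f : j ⟶ k), (D.map f).hom x = (D.map f).hom y := by
  have := preservesColimit_forget (D := D)
  exact Types.FilteredColimit.isColimit_eq_iff' (isColimitOfPreserves (forget (Alg A)) hc) x y

theorem push_w {M : Type (u + 1)} [AddCommMonoid M] [Module A M] {j k : J} (f : j ⟶ k) (v : (D.obj j : Type u) ⊗[A] M) :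
    (c.ι.app k).hom.toLinearMap.rTensor M ((D.map f).hom.toLinearMap.rTensor M v) =
      (c.ι.app j).hom.toLinearMap.rTensor M v := by
  rw [← c.w f]
  exact (LinearMap.rTensor_comp_apply M (c.ι.app k).hom.toLinearMap (D.map f).hom.toLinearMap v).symm

theorem exists_tensor_lift (hc : IsColimit c) {M : Type (u + 1)} [AddCommMonoid M] [Module A M]
    (z : (c.pt : Type u) ⊗[A] M) : ∃ (j : J) (w : (D.obj j : Type u) ⊗[A] M),
      (c.ι.app j).hom.toLinearMap.rTensor M w = z := by
  induction z using TensorProduct.induction_on with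
  | zero => exact ⟨IsFiltered.nonempty.some, 0, map_zero _⟩
  | tmul x m =>
    obtain ⟨j, y, rfl⟩ := alg_jointly_surjective hc x
    exact ⟨j, y ⊗ₜ m, rfl⟩
  | add a b ha hb =>
    obtain ⟨j, v, rfl⟩ := ha
    obtain ⟨k, w, rfl⟩ := hb
    refine ⟨IsFiltered.max j k, (D.map (IsFiltered.leftToMax j k)).hom.toLinearMap.rTensor M v +
      (D.map (IsFiltered.rightToMax j k)).hom.toLinearMap.rTensor M w, ?_⟩
    rw [map_add, push_w, push_w]

theorem eventually_zero_free (hc : IsColimit c) {ι : Type (u + 1)} {j : J} (z : (D.obj j : Type u) ⊗[A] (ι →₀ A))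
    (hz : (c.ι.app j).hom.toLinearMap.rTensor (ι →₀ A) z = 0) :
    ∃ (k : J) (f : j ⟶ k), (D.map f).hom.toLinearMap.rTensor (ι →₀ A) z = 0 := by
  classical
  have hnat : ∀ {B B' : Alg A} (g : B ⟶ B') (v : (B : Type u) ⊗[A] (ι →₀ A)) (i : ι),
      TensorProduct.finsuppScalarRight A A (B' : Type u) ι (g.hom.toLinearMap.rTensor _ v) i =
        g.hom (TensorProduct.finsuppScalarRight A A (B : Type u) ι v i) := by
    intro B B' g v i
    induction v using TensorProduct.induction_on with
    | zero => simp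
    | tmul b p => simp [TensorProduct.finsuppScalarRight_apply_tmul_apply]
    | add a b ha hb => simp only [map_add, Finsupp.add_apply, ha, hb]
  let v := TensorProduct.finsuppScalarRight A A (D.obj j : Type u) ι z
  have h : ∀ s : Finset ι, ∃ (k : J) (f : j ⟶ k), ∀ i ∈ s, (D.map f).hom (v i) = 0 := by
    intro s
    induction s using Finset.induction_on with
    | empty => exact ⟨j, 𝟙 j, fun i hi => absurd hi (Finset.notMem_empty i)⟩
    | @insert i s _ ih =>
      obtain ⟨k, f, hf⟩ := ih
      have h0 : (c.ι.app j).hom (v i) = (c.ι.app j).hom 0 := by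
        rw [map_zero, ← hnat, hz, map_zero]; rfl
      obtain ⟨l, g, hg⟩ := (alg_eq_iff hc _ _).1 h0
      obtain ⟨n, p, q, hpq⟩ := IsFiltered.span f g
      refine ⟨n, f ≫ p, fun i' hi' => ?_⟩
      rcases Finset.mem_insert.1 hi' with rfl | hi'
      · rw [hpq, D.map_comp]
        show (D.map q).hom ((D.map g).hom (v i')) = 0
        rw [hg, map_zero, map_zero]
      · rw [D.map_comp]
        show (D.map p).hom ((D.map f).hom (v i')) = 0
        rw [hf i' hi', map_zero]
  obtain ⟨k, f, hf⟩ := h v.support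
  refine ⟨k, f, (TensorProduct.finsuppScalarRight A A (D.obj k : Type u) ι).injective (Finsupp.ext fun i => ?_)⟩
  rw [hnat, map_zero, Finsupp.zero_apply]
  by_cases hi : i ∈ v.support
  · exact hf i hi
  · rw [show TensorProduct.finsuppScalarRight A A (D.obj j : Type u) ι z i = 0 from Finsupp.notMem_support_iff.1 hi,
      map_zero]

theorem exact_ker_baseChange (B : Type u) [CommRing B] [Algebra A B] {P Q : Type (u + 1)} [AddCommGroup P] [Module A P]
    [AddCommGroup Q] [Module A Q] (g : P →ₗ[A] Q) (hg : Function.Surjective g) :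
    Function.Exact ((LinearMap.ker g).subtype.baseChange B) (g.baseChange B) := by
  intro x
  exact bc_exact B (LinearMap.ker g).subtype g (LinearMap.exact_subtype_ker_map g) hg x

theorem rTensor_baseChange {P Q : Type (u + 1)} [AddCommMonoid P] [Module A P] [AddCommMonoid Q] [Module A Q] (g : P →ₗ[A] Q)
    {B B' : Alg A} (f : B ⟶ B') (v : (B : Type u) ⊗[A] P) :
    f.hom.toLinearMap.rTensor Q (g.baseChange (B : Type u) v) = g.baseChange (B' : Type u) (f.hom.toLinearMap.rTensor P v) := by
  induction v using TensorProduct.induction_on with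
  | zero => simp
  | tmul b p => simp
  | add a b ha hb => simp only [map_add, ha, hb]

theorem eventually_zero (hc : IsColimit c) {M : Type (u + 1)} [AddCommGroup M] [Module A M] {j : J}
    (z : (D.obj j : Type u) ⊗[A] M) (hz : (c.ι.app j).hom.toLinearMap.rTensor M z = 0) :
    ∃ (k : J) (f : j ⟶ k), (D.map f).hom.toLinearMap.rTensor M z = 0 := by
  let π : (M →₀ A) →ₗ[A] M := Finsupp.linearCombination A id
  have hπ : Function.Surjective π := fun v => ⟨Finsupp.single v 1, by simp [π]⟩
  have hex := fun B : Alg A => exact_ker_baseChange (B : Type u) π hπ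
  obtain ⟨zz, rfl⟩ := bc_surjective (D.obj j : Type u) π hπ z
  rw [rTensor_baseChange π (c.ι.app j)] at hz
  obtain ⟨η, hη⟩ := (hex c.pt _).1 hz
  obtain ⟨l, ξ, rfl⟩ := exists_tensor_lift (M := LinearMap.ker π) hc η
  let f1 := IsFiltered.leftToMax j l
  let f2 := IsFiltered.rightToMax j l
  let d := (D.map f1).hom.toLinearMap.rTensor (M →₀ A) zz -
    (LinearMap.ker π).subtype.baseChange _ ((D.map f2).hom.toLinearMap.rTensor _ ξ)
  have hd : (c.ι.app _).hom.toLinearMap.rTensor (M →₀ A) d = 0 := by
    rw [map_sub, rTensor_baseChange (LinearMap.ker π).subtype (c.ι.app _), push_w, push_w, sub_eq_zero]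
    exact hη.symm
  obtain ⟨k, g, hg⟩ := eventually_zero_free hc d hd
  refine ⟨k, f1 ≫ g, ?_⟩
  have h2 := congrArg (π.baseChange (D.obj k : Type u)) hg
  rw [map_zero, ← rTensor_baseChange π (D.map g), map_sub, ← rTensor_baseChange π (D.map f1)] at h2
  rw [(hex _ _).2 ⟨_, rfl⟩, sub_zero, ← LinearMap.rTensor_comp_apply] at h2
  rw [D.map_comp]
  exact h2

theorem nonempty_isColimit_mapCocone (F : MVF A) (hF : adequate A F) (hc : IsColimit c) :
    Nonempty (IsColimit (F.toAb.mapCocone c)) := by
  obtain ⟨M, N, ψ, i, hi⟩ := (adequate_iff F).1 hF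
  have : PreservesFilteredColimitsOfSize.{u, u} (forget AddCommGrpCat.{u + 1}) :=
    preservesFilteredColimitsOfSize_shrink.{u, u + 1, u, u + 1} _
  have : ReflectsColimitsOfShape J (forget AddCommGrpCat.{u + 1}) := reflectsColimitsOfShape_of_reflectsIsomorphisms
  refine ⟨isColimitOfReflects (forget AddCommGrpCat.{u + 1}) (Types.FilteredColimit.isColimitOf' _ _ ?_ ?_)⟩
  · intro (y : F.obj (pt c.pt))
    obtain ⟨j, w, hw⟩ := exists_tensor_lift hc (i.app (pt c.pt) y)
    have h0 : (c.ι.app j).hom.toLinearMap.rTensor N (ψ.hom.baseChange _ w) = 0 := by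
      have := hi.zero c.pt y
      rw [Um_app, ← hw] at this
      rw [LinearMap.baseChange_eq_ltensor, ← LinearMap.comp_apply,
        LinearMap.rTensor_comp_lTensor, ← LinearMap.lTensor_comp_rTensor, LinearMap.comp_apply]
      exact this
    obtain ⟨k, f, hf⟩ := eventually_zero hc _ h0
    obtain ⟨x, hx⟩ := hi.exact (D.obj k) ((D.map f).hom.toLinearMap.rTensor M w) (by
      rw [Um_app]
      show ψ.hom.baseChange _ _ = 0
      rw [LinearMap.baseChange_eq_ltensor, ← LinearMap.comp_apply,
        LinearMap.lTensor_comp_rTensor, ← LinearMap.rTensor_comp_lTensor, LinearMap.comp_apply]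
      exact hf)
    refine ⟨k, x, hi.inj c.pt ?_⟩
    show i.app (pt c.pt) y = i.app (pt c.pt) (mp F (c.ι.app k) x)
    refine Eq.trans ?_ (mp_natural i (c.ι.app k : D.obj k ⟶ c.pt) x).symm
    rw [hx, mp_U]
    exact hw.symm.trans (push_w f w).symm
  · intro j (x : F.obj (pt (D.obj j))) (x' : F.obj (pt (D.obj j))) (h : mp F (c.ι.app j) x = mp F (c.ι.app j) x')
    have h0 : (c.ι.app j).hom.toLinearMap.rTensor M (i.app (pt (D.obj j)) x - i.app (pt (D.obj j)) x') = 0 := by
      rw [map_sub, ← mp_U M (c.ι.app j), ← mp_U M (c.ι.app j), ← mp_natural i, ← mp_natural i, h, sub_self]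
    obtain ⟨k, f, hf⟩ := eventually_zero hc _ h0
    refine ⟨k, f, hi.inj (D.obj k) ?_⟩
    show i.app (pt (D.obj k)) (mp F (D.map f) x) = i.app (pt (D.obj k)) (mp F (D.map f) x')
    rw [mp_natural i, mp_natural i, mp_U, mp_U]
    exact sub_eq_zero.1 ((map_sub (LinearMap.rTensor M (D.map f).hom.toLinearMap) _ _).symm.trans hf)

end Groth.Agent.Adeq
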