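import Mathlib
import Groth.Prelude.Def_Adeq
import Groth.Agent.Adeq.Colim

/-! Flat base change for adequate functors. -/

set_option autoImplicit false
set_option backward.isDefEq.respectTransparency false
universe u
open CategoryTheory CategoryTheory.Limits Opposite TensorProduct

namespace Groth.Agent.Adeq
open _root_.Adeq

variable {A : Type u} [CommRing A]

theorem isIso_bc_of_flat (F : MVF A) (hF : adequate A F) {B B' : Alg A} (f : B ⟶ B') (hf : f.hom.toRingHom.Flat) :
    IsIso (F.bc f) := by
  obtain ⟨M, N, ψ, i, hi⟩ := (adequate_iff F).1 hF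
  letI : Algebra B B' := f.hom.toRingHom.toAlgebra
  haveI : Module.Flat B B' := hf
  haveI : IsScalarTower A B B' := IsScalarTower.of_algebraMap_eq fun a => (f.hom.commutes a).symm
  let ιB : F.obj (pt B) →ₗ[(B : Type u)] (B : Type u) ⊗[A] M := (i.app (pt B)).hom
  let ψB : (B : Type u) ⊗[A] M →ₗ[(B : Type u)] (B : Type u) ⊗[A] N := ψ.hom.baseChange B
  have hex : Function.Exact ιB ψB := fun x => ⟨fun h => hi.exact B x h, fun ⟨y, hy⟩ => hy ▸ hi.zero B y⟩
  have hinj : Function.Injective (ιB.lTensor (B' : Type u)) :=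
    Module.Flat.lTensor_preserves_injective_linearMap _ (hi.inj B)
  have hex' := Module.Flat.lTensor_exact (B' : Type u) hex
  let cM := AlgebraTensorModule.cancelBaseChange A (B : Type u) (B' : Type u) (B' : Type u) M
  let cN := AlgebraTensorModule.cancelBaseChange A (B : Type u) (B' : Type u) (B' : Type u) N
  let bcT : (B' : Type u) ⊗[(B : Type u)] F.obj (pt B) → F.obj (pt B') := fun z => (F.bc f).hom z
  have key : ∀ z, i.app (pt B') (bcT z) = cM (ιB.lTensor (B' : Type u) z) := by
    intro z
    induction z using TensorProduct.induction_on with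
    | zero =>
      show i.app (pt B') ((F.bc f).hom 0) = _
      rw [map_zero, map_zero, map_zero, map_zero]
    | tmul b' x =>
      show i.app (pt B') (b' • mp F f x) = _
      rw [(i.app (pt B')).hom.map_smul, mp_natural i f x, mp_U, LinearMap.lTensor_tmul]
      show b' • f.hom.toLinearMap.rTensor M (ιB x) = _
      induction ιB x using TensorProduct.induction_on with
      | zero => simp
      | tmul b m =>
        rw [LinearMap.rTensor_tmul, AlgebraTensorModule.cancelBaseChange_tmul, Algebra.smul_def, smul_tmul',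
          smul_eq_mul, mul_comm]
        rfl
      | add a b ha hb => rw [map_add, smul_add, ha, hb, tmul_add, map_add]
    | add a b ha hb =>
      show i.app (pt B') ((F.bc f).hom (a + b)) = _
      erw [map_add (F.bc f).hom]
      rw [map_add, map_add, map_add, ← ha, ← hb]
  have hψ : ∀ w, cN (ψB.lTensor (B' : Type u) w) = ψ.hom.baseChange B' (cM w) := by
    intro w
    induction w using TensorProduct.induction_on with
    | zero => simp
    | tmul b' v =>
      induction v using TensorProduct.induction_on with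
      | zero => simp
      | tmul b m => simp [ψB, cM, cN, smul_tmul']
      | add a b ha hb => simp only [tmul_add, map_add, ha, hb]
    | add a b ha hb => simp only [map_add, ha, hb]
  rw [ConcreteCategory.isIso_iff_bijective]
  constructor
  · intro z z' h
    exact hinj (cM.injective (((key z).symm.trans (congrArg (i.app (pt B')) h)).trans (key z')))
  · intro y
    have h0 : ψB.lTensor (B' : Type u) (cM.symm (i.app (pt B') y)) = 0 := cN.injective (by
      rw [hψ, LinearEquiv.apply_symm_apply, map_zero]
      exact hi.zero B' y)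
    obtain ⟨z, hz⟩ := (hex' _).1 h0
    refine ⟨z, hi.inj B' ?_⟩
    exact (key z).trans (by rw [hz, LinearEquiv.apply_symm_apply])

theorem exists_pow_smul_eq_zero (G : MVF A) {B B' : Alg A} (f : B ⟶ B') (b : B) (d : G.obj (pt B))
    (hloc : @IsLocalization (B : Type u) _ (Submonoid.powers b) (B' : Type u) _ f.hom.toRingHom.toAlgebra)
    (hG : ∀ ⦃B B' : Alg A⦄ (f : B ⟶ B'), f.hom.toRingHom.Flat → IsIso (G.bc f))
    (hd : mp G f d = 0) : ∃ n : ℕ, b ^ n • d = 0 := by
  letI : Algebra B B' := f.hom.toRingHom.toAlgebra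
  have hflat : f.hom.toRingHom.Flat := IsLocalization.flat (B' : Type u) (Submonoid.powers b)
  have hiso := hG f hflat
  have e1 : (G.bc f).hom ((1 : B') ⊗ₜ[(B : Type u)] d) = (G.bc f).hom 0 := by
    show (1 : B') • mp G f d = (G.bc f).hom 0
    rw [hd, smul_zero]
    exact (map_zero _).symm
  have h1 : ((1 : B') ⊗ₜ[(B : Type u)] d) = 0 := ((ConcreteCategory.isIso_iff_bijective (G.bc f)).1 hiso).1 e1
  haveI : IsLocalizedModule (Submonoid.powers b) (TensorProduct.mk (B : Type u) (B' : Type u) (G.obj (pt B)) 1) :=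
    (isLocalizedModule_iff_isBaseChange _ (B' : Type u) _).mpr (TensorProduct.isBaseChange _ _ _)
  obtain ⟨⟨_, n, rfl⟩, hn⟩ := (IsLocalizedModule.eq_zero_iff (Submonoid.powers b)
    (TensorProduct.mk (B : Type u) (B' : Type u) (G.obj (pt B)) 1)).1 h1
  exact ⟨n, hn⟩

theorem isLocalization_toAlgHom {B : Type u} [CommRing B] [Algebra A B] (S : Type u) [CommRing S] [Algebra A S]
    [Algebra B S] [IsScalarTower A B S] (T : Submonoid B) [h : IsLocalization T S] :
    @IsLocalization B _ T S _ (IsScalarTower.toAlgHom A B S).toRingHom.toAlgebra := by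
  have he : (IsScalarTower.toAlgHom A B S).toRingHom.toAlgebra = (inferInstance : Algebra B S) :=
    Algebra.algebra_ext _ _ fun (_ : B) => rfl
  rw [he]
  exact h

theorem linear_of_additive_of_units (F G : MVF A) (φ : ∀ B : Alg A, F.obj (pt B) → G.obj (pt B))
    (hnat : ∀ ⦃B B' : Alg A⦄ (f : B ⟶ B') (x : F.obj (pt B)), φ B' (mp F f x) = mp G f (φ B x))
    (hadd : ∀ (B : Alg A) (x y : F.obj (pt B)), φ B (x + y) = φ B x + φ B y)
    (hunit : ∀ (B : Alg A) (v : (B : Type u)ˣ) (x : F.obj (pt B)), φ B ((v : B) • x) = (v : B) • φ B x)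
    (hG : ∀ ⦃B B' : Alg A⦄ (f : B ⟶ B'), f.hom.toRingHom.Flat → IsIso (G.bc f))
    (B : Alg A) (b : B) (x : F.obj (pt B)) : φ B (b • x) = b • φ B x := by
  rw [← sub_eq_zero]
  set d := φ B (b • x) - b • φ B x with hd
  have key : ∀ c : B, (c = b ∨ c = b + 1) → ∃ n : ℕ, c ^ n • d = 0 := by
    intro c hc
    let B' : Alg A := algOf A (Localization.Away c)
    let f : B ⟶ B' := CommAlgCat.ofHom (IsScalarTower.toAlgHom A (B : Type u) (Localization.Away c))
    refine exists_pow_smul_eq_zero G f c d (isLocalization_toAlgHom (Localization.Away c) (Submonoid.powers c)) hG ?_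
    show mp G f d = 0
    have hu : IsUnit (f.hom c) := IsLocalization.Away.algebraMap_isUnit c
    obtain ⟨v, hv⟩ := hu
    rw [hd, map_sub, ← hnat, mp_smul, mp_smul, ← hnat, sub_eq_zero]
    rcases hc with rfl | rfl
    · rw [← hv]; exact hunit _ v _
    · have h := hunit B' v (mp F f x)
      rw [hv, map_add f.hom, map_one f.hom, add_smul, add_smul, one_smul, one_smul, hadd] at h
      exact add_right_cancel h
  obtain ⟨n, hn⟩ := key b (Or.inl rfl)
  obtain ⟨m, hm⟩ := key (b + 1) (Or.inr rfl)
  obtain ⟨u, w, huw⟩ : IsCoprime (b ^ n) ((b + 1) ^ m) := IsCoprime.pow ⟨-1, 1, by ring⟩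
  rw [← one_smul (B : Type u) d, ← huw, add_smul, mul_smul, mul_smul, hn, hm, smul_zero, smul_zero, add_zero]

end Groth.Agent.Adeq
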