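import Mathlib
import Groth.Prelude.Def_Adeq2
import Groth.Agent.Adeq.Cech
import Groth.Agent.Adeq.Flat

/-! Parasitic adequate modules. -/

set_option autoImplicit false
set_option backward.isDefEq.respectTransparency false
universe u
open CategoryTheory CategoryTheory.Limits AlgebraicGeometry Opposite TensorProduct

namespace Groth.Agent.Adeq
open _root_.Adeq

variable {P : MorphismProperty Scheme.{u}} [P.IsStableUnderComposition] [P.IsStableUnderBaseChange]
  [BigSite.OSh (Scheme.precoverage P)] (hP : Good P) {S : Scheme.{u}} (M : BigSite.Mod (Scheme.precoverage P) S)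

include hP in
omit [P.IsStableUnderBaseChange] [P.IsStableUnderComposition] in
/-- a section vanishes if it vanishes locally for the Zariski topology -/
theorem eq_zero_of_locally (U : Over S) (x : M.val.obj (op U))
    (h : ∀ p : U.left, ∃ (V : U.left.Opens), p ∈ V ∧ IsAffineOpen V ∧
      M.val.presheaf.map (Over.homMk V.ι : Over.mk (V.ι ≫ U.hom) ⟶ U).op x = 0) : x = 0 := by
  choose V hV _ hx using h
  let f : ∀ p : U.left, Over.mk ((V p).ι ≫ U.hom) ⟶ U := fun p => Over.homMk (V p).ι
  have hmem : Sieve.generate (Presieve.ofArrows _ f) ∈ QuotSh.J (Scheme.precoverage P) S U := by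
    rw [GrothendieckTopology.mem_over_iff, Sieve.overEquiv_ofArrows]
    refine Precoverage.generate_mem_toGrothendieck ((Scheme.ofArrows_mem_precoverage_iff P).2
      ⟨fun q => ⟨q, ⟨q, hV q⟩, rfl⟩, fun q => hP.openImm _ ?_⟩)
    show IsOpenImmersion (V q).ι
    infer_instance
  have hs := (isSheaf_iff_isSheaf_of_type _ _).1
    ((Presheaf.isSheaf_iff_isSheaf_forget _ _ (forget AddCommGrpCat)).1 ((BigSite.toAbMod _ S).obj M).property) _ hmem
  rw [← Presieve.isSheafFor_iff_generate] at hs
  exact hs.isSeparatedFor.ext fun _ _ ⟨p⟩ => (hx p).trans (map_zero (M.val.presheaf.map (f p).op).hom).symm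

omit [P.IsStableUnderBaseChange] [P.IsStableUnderComposition] in
theorem subsingleton_sectMod_of_iso' {U V : Over S} (e : U ≅ V) (h : Subsingleton (M.val.obj (op U))) :
    Subsingleton (M.val.obj (op V)) :=
  (((forget AddCommGrpCat).mapIso (M.val.presheaf.mapIso e.op)).toEquiv).subsingleton_congr.2 h

/-- an affine object as a value -/
noncomputable def specOverSelfIso {R : CommRingCat.{u}} (a : Spec R ⟶ S) :
    (specOver a).obj (op (algOf (R : Type u) (R : Type u))) ≅ Over.mk a :=
  Over.isoMk (Iso.refl _) (by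
    show 𝟙 _ ≫ a = Spec.map (𝟙 R) ≫ a
    rw [Spec.map_id])

include hP in
omit [P.IsStableUnderBaseChange] [P.IsStableUnderComposition] in
/-- vanishing on flat affine objects suffices -/
theorem parasitic_of_affine
    (h : ∀ (R : CommRingCat.{u}) (a : Spec R ⟶ S), Flat a →
      Subsingleton (((toMVF (Scheme.precoverage P) a).obj M).obj (pt (algOf (R : Type u) (R : Type u))))) :
    parasitic (Scheme.precoverage P) S M := by
  intro U hU
  refine subsingleton_of_forall_eq 0 fun x => eq_zero_of_locally hP M U x fun p => ?_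
  obtain ⟨_, ⟨V, hV, rfl⟩, hpV, _⟩ := U.left.isBasis_affineOpens.exists_subset_of_mem_open
    (Set.mem_univ p) isOpen_univ
  let a : Spec Γ(U.left, V) ⟶ S := hV.fromSpec ≫ U.hom
  have hflat : Flat a := inferInstance
  let e : Over.mk a ≅ Over.mk ((Scheme.Opens.ι V) ≫ U.hom) :=
    Over.isoMk hV.isoSpec.symm (by
      show hV.isoSpec.inv ≫ (Scheme.Opens.ι V) ≫ U.hom = hV.fromSpec ≫ U.hom
      rw [← Category.assoc, IsAffineOpen.isoSpec_inv_ι])
  have hss := subsingleton_sectMod_of_iso' M e (subsingleton_sectMod_of_iso' M (specOverSelfIso a) (h _ a hflat))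
  exact ⟨V, hpV, hV, hss.elim _ _⟩

include hP in
theorem parasitic_of_exact (C : ShortComplex (BigSite.Mod (Scheme.precoverage P) S)) (hC : C.Exact)
    (h₁ : adequateMod (Scheme.precoverage P) S C.X₁) (h₂ : adequateMod (Scheme.precoverage P) S C.X₂)
    (h₃ : adequateMod (Scheme.precoverage P) S C.X₃) (p₁ : parasitic (Scheme.precoverage P) S C.X₁)
    (p₃ : parasitic (Scheme.precoverage P) S C.X₃) : parasitic (Scheme.precoverage P) S C.X₂ := by
  refine parasitic_of_affine hP _ fun R a ha => subsingleton_of_forall_eq 0 fun x => ?_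
  let U := (specOver a).obj (op (algOf (R : Type u) (R : Type u)))
  have hU : Flat U.hom := by
    show Flat (Spec.map (𝟙 R) ≫ a)
    rw [Spec.map_id, Category.id_comp]
    exact ha
  let f' := kernel.lift C.g C.f C.zero
  haveI : Epi f' := hC.epi_kernelLift
  have hK := adequateMod_kernel hP C.g h₂ h₃
  have hK' := adequateMod_kernel hP f' h₁ hK
  obtain ⟨z, hz⟩ := (isKer_toMVF_kernel C.g a).exact (algOf (R : Type u) (R : Type u)) x
    ((p₃ U hU).elim _ _)
  obtain ⟨y, hy⟩ := surjective_toMVF_of_adequate hP a (ShortComplex.mk (kernel.ι f') f' (kernel.condition f'))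
    (isKer_toMVF_kernel f' a) (adequate_toMVF hP _ hK' R a) (algOf (R : Type u) (R : Type u)) z
  rw [← hz, ← hy, show y = 0 from (p₁ U hU).elim _ _, map_zero, map_zero]

include hP in
theorem parasitic_tfae (hM : adequateMod (Scheme.precoverage P) S M) :
    List.TFAE [parasitic (Scheme.precoverage P) S M, parasiticFor (Scheme.precoverage P) S M,
      ∀ U : S.Opens, Subsingleton (BigSite.sectMod (Scheme.precoverage P) M ((BigSite.zarIncl S).obj U)),
      ∃ (ι : Type u) (U : ι → S.Opens), (∀ i, IsAffineOpen (U i)) ∧ (⨆ i, U i) = ⊤ ∧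
        ∀ i, Subsingleton (BigSite.sectMod (Scheme.precoverage P) M ((BigSite.zarIncl S).obj (U i)))] := by
  tfae_have 1 → 2 := fun h Q hQ V g hg => h (Over.mk g) (hP.flat _ (hQ.2 hg))
  tfae_have 2 → 3 := fun h U => by
    have hid : P (𝟙 S) := hP.openImm _ (inferInstanceAs (IsOpenImmersion (𝟙 S)))
    have hmem : Presieve.ofArrows (fun b : ULift.{u} Bool => if b.down then U.toScheme else S)
        (fun b => match b with
          | ⟨true⟩ => U.ι
          | ⟨false⟩ => 𝟙 S) ∈ (Scheme.precoverage P).coverings S :=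
      (Scheme.ofArrows_mem_precoverage_iff P).2 ⟨fun x => ⟨⟨false⟩, x, rfl⟩, fun b => match b with
        | ⟨true⟩ => hP.openImm _ (inferInstanceAs (IsOpenImmersion U.ι))
        | ⟨false⟩ => hid⟩
    exact h hmem U.ι (Presieve.ofArrows.mk (⟨true⟩ : ULift.{u} Bool))
  tfae_have 3 → 4 := fun h => ⟨S.affineOpens, fun V => V.1, fun V => V.2, iSup_affineOpens_eq_top S, fun V => h V.1⟩
  tfae_have 4 → 1 := by
    rintro ⟨ι, U, hUa, hsup, h⟩ W hW
    refine subsingleton_of_forall_eq 0 fun x => eq_zero_of_locally hP M W x fun p => ?_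
    obtain ⟨i, hi⟩ : ∃ i, W.hom p ∈ U i := TopologicalSpace.Opens.mem_iSup.1 (hsup.ge (Set.mem_univ (W.hom p)))
    obtain ⟨_, ⟨V, hV, rfl⟩, hpV, hVU⟩ := W.left.isBasis_affineOpens.exists_subset_of_mem_open
      (show p ∈ (W.hom ⁻¹ᵁ U i : Set W.left) from hi) (W.hom ⁻¹ᵁ U i).isOpen
    let b : Spec Γ(S, U i) ⟶ S := (hUa i).fromSpec
    obtain ⟨φ, hφ⟩ := Spec.map_surjective
      (hV.isoSpec.inv ≫ W.hom.resLE (U i) V (by exact hVU) ≫ (hUa i).isoSpec.hom)
    letI : Algebra Γ(S, U i) Γ(W.left, V) := φ.hom.toAlgebra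
    let A := algOf (Γ(S, U i) : Type u) (Γ(S, U i) : Type u)
    let B := algOf (Γ(S, U i) : Type u) (Γ(W.left, V) : Type u)
    let F := (toMVF (Scheme.precoverage P) b).obj M
    let eb : (BigSite.zarIncl S).obj (U i) ≅ Over.mk b :=
      Over.isoMk (hUa i).isoSpec (by
        show (hUa i).isoSpec.hom ≫ (hUa i).fromSpec = (U i).ι
        exact (Iso.eq_inv_comp _).1 (IsAffineOpen.isoSpec_inv_ι (hUa i)).symm)
    haveI : Subsingleton (F.obj (pt A)) :=
      subsingleton_sectMod_of_iso' M (eb ≪≫ (specOverSelfIso b).symm) (h i)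
    have hflat : φ.hom.Flat := by
      refine (HasRingHomProperty.Spec_iff (P := @Flat)).1 ?_
      rw [hφ]
      infer_instance
    let f : A ⟶ B := CommAlgCat.ofHom (Algebra.ofId _ _)
    haveI := isIso_bc_of_flat F (adequate_toMVF hP M hM _ b) f hflat
    haveI : Subsingleton (F.obj (pt B)) := by
      refine subsingleton_of_forall_eq 0 fun y => ?_
      obtain ⟨z, rfl⟩ := ((ConcreteCategory.isIso_iff_bijective (F.bc f)).1 inferInstance).2 y
      letI : Algebra A B := f.hom.toRingHom.toAlgebra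
      induction z using TensorProduct.induction_on with
      | zero => exact map_zero (F.bc f).hom
      | tmul c v =>
        show (F.bc f).hom (c ⊗ₜ v) = 0
        rw [Subsingleton.elim v 0, tmul_zero]
        exact map_zero (F.bc f).hom
      | add u v hu hv =>
        refine (map_add (F.bc f).hom u v).trans ?_
        exact (congrArg₂ (· + ·) hu hv).trans (add_zero _)
    have e0 : Spec.map φ ≫ b = hV.fromSpec ≫ W.hom := by
      rw [hφ, ← IsAffineOpen.isoSpec_inv_ι hV]
      simp only [Category.assoc, b]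
      rw [show (hUa i).isoSpec.hom ≫ (hUa i).fromSpec = (U i).ι from
        (Iso.eq_inv_comp _).1 (IsAffineOpen.isoSpec_inv_ι (hUa i)).symm, Scheme.Hom.resLE_comp_ι]
    let e : (specOver b).obj (op B) ≅ Over.mk ((Scheme.Opens.ι V) ≫ W.hom) :=
      Over.isoMk hV.isoSpec.symm (by
        show hV.isoSpec.inv ≫ (Scheme.Opens.ι V) ≫ W.hom = Spec.map φ ≫ b
        rw [e0, ← IsAffineOpen.isoSpec_inv_ι hV, Category.assoc])
    have hss := subsingleton_sectMod_of_iso' M e (inferInstanceAs (Subsingleton (F.obj (pt B))))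
    exact ⟨V, hpV, hV, hss.elim _ _⟩
  tfae_finish

end Groth.Agent.Adeq
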