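import Mathlib
import Groth.Prelude.Def_Adeq2
import Groth.Agent.Adeq.Parasitic

/-! Adequate modules are sheaves for the fpqc topology. -/

set_option autoImplicit false
set_option backward.isDefEq.respectTransparency false
universe u w
open CategoryTheory CategoryTheory.Limits AlgebraicGeometry Opposite TensorProduct

namespace Groth.Agent.Adeq
open _root_.Adeq

section Total

variable {S : Scheme.{u}} (F : (Over S)ᵒᵖ ⥤ Type w)

/-- the presheaf of pairs of a structure map and a section -/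
@[reducible] def Tot (T : Scheme.{u}) : Type (max u w) := Σ t : T ⟶ S, F.obj (op (Over.mk t))

variable {F}

theorem map_eq_of_left {U Z : Over S} (e e' : Z ⟶ U) (h : e.left = e'.left) (x : F.obj (op U)) :
    F.map e.op x = F.map e'.op x := by rw [Over.OverMorphism.ext h]

theorem map_id' {U : Over S} (e : U ⟶ U) (h : e.left = 𝟙 U.left) (x : F.obj (op U)) : F.map e.op x = x := by
  rw [show e = 𝟙 U from Over.OverMorphism.ext h, op_id, F.map_id]
  rfl

theorem map_map {Z Z' Z'' : Over S} (e : Z ⟶ Z') (e' : Z' ⟶ Z'') (g : Z ⟶ Z'') (h : e.left ≫ e'.left = g.left)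
    (x : F.obj (op Z'')) : F.map e.op (F.map e'.op x) = F.map g.op x := by
  rw [show g = e ≫ e' from Over.OverMorphism.ext h.symm, op_comp, F.map_comp]
  rfl

theorem tot_ext {T : Scheme.{u}} {p q : Tot F T} (h : p.1 = q.1)
    (h' : ∀ (e : Over.mk q.1 ⟶ Over.mk p.1), e.left = 𝟙 T → F.map e.op p.2 = q.2) : p = q := by
  obtain ⟨t, x⟩ := p
  obtain ⟨t', x'⟩ := q
  obtain rfl : t = t' := h
  congr
  exact (map_id' (𝟙 (Over.mk t)) rfl x).symm.trans (h' (𝟙 _) rfl)

theorem tot_snd {T : Scheme.{u}} {p q : Tot F T} (h : p = q) {Z : Over S} (e : Z ⟶ Over.mk p.1) (e' : Z ⟶ Over.mk q.1)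
    (he : e.left = e'.left) : F.map e.op p.2 = F.map e'.op q.2 := by
  subst h
  exact map_eq_of_left e e' he _

variable (F)

/-- the functor of pairs -/
def totFun : Scheme.{u}ᵒᵖ ⥤ Type (max u w) where
  obj T := Tot F T.unop
  map {T T'} g := TypeCat.ofHom fun p =>
    (⟨g.unop ≫ p.1, F.map (Over.homMk g.unop : Over.mk (g.unop ≫ p.1) ⟶ Over.mk p.1).op p.2⟩ : Tot F T'.unop)
  map_id T := by
    refine ConcreteCategory.hom_ext _ _ fun p => ?_
    refine tot_ext (Category.id_comp (p : Tot F T.unop).1) fun e he => ?_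
    refine (map_map e _ (𝟙 _) ?_ _).trans (map_id' _ rfl _)
    rw [he]
    exact Category.id_comp _
  map_comp {T T' T''} g g' := by
    refine ConcreteCategory.hom_ext _ _ fun p => ?_
    refine tot_ext (Category.assoc g'.unop g.unop (p : Tot F T.unop).1) fun e he => ?_
    refine (map_map e _ (Over.homMk (g'.unop ≫ g.unop) (Category.assoc _ _ _) :
      Over.mk (g'.unop ≫ g.unop ≫ (p : Tot F T.unop).1) ⟶ Over.mk (p : Tot F T.unop).1) ?_ _).trans ?_
    · rw [he]
      exact Category.id_comp _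
    · exact (map_map (Over.homMk g'.unop : Over.mk (g'.unop ≫ g.unop ≫ (p : Tot F T.unop).1) ⟶
        Over.mk (g.unop ≫ (p : Tot F T.unop).1)) _ _ rfl _).symm

variable {F}

theorem totFun_map {T T' : Scheme.{u}} (g : T' ⟶ T) (p : Tot F T) :
    (totFun F).map g.op p = (⟨g ≫ p.1, F.map (Over.homMk g : Over.mk (g ≫ p.1) ⟶ Over.mk p.1).op p.2⟩ : Tot F T') := rfl

theorem tot_res {W T₁ T₂ : Scheme.{u}} {g₁ : W ⟶ T₁} {g₂ : W ⟶ T₂} {p : Tot F T₁} {q : Tot F T₂}
    (h : (totFun F).map g₁.op p = (totFun F).map g₂.op q) {Z : Over S} (k : Z.left ⟶ W) (e : Z ⟶ Over.mk p.1)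
    (e' : Z ⟶ Over.mk q.1) (he : e.left = k ≫ g₁) (he' : e'.left = k ≫ g₂) :
    F.map e.op p.2 = F.map e'.op q.2 := by
  rw [totFun_map, totFun_map] at h
  have w : k ≫ g₁ ≫ p.1 = Z.hom := by rw [← Category.assoc, ← he]; exact Over.w e
  have w' : k ≫ g₂ ≫ q.1 = Z.hom := by rw [← Category.assoc, ← he']; exact Over.w e'
  have hh := tot_snd h (Over.homMk k w : Z ⟶ Over.mk (g₁ ≫ p.1)) (Over.homMk k w' : Z ⟶ Over.mk (g₂ ≫ q.1)) rfl
  exact ((map_map _ _ e he.symm _).symm.trans hh).trans (map_map _ _ e' he'.symm _)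

theorem tot_res₁ {W T : Scheme.{u}} {g : W ⟶ T} {p : Tot F T} {q : Tot F W}
    (h : (totFun F).map g.op p = q) {Z : Over S} (k : Z.left ⟶ W) (e : Z ⟶ Over.mk p.1)
    (e' : Z ⟶ Over.mk q.1) (he : e.left = k ≫ g) (he' : e'.left = k) :
    F.map e.op p.2 = F.map e'.op q.2 :=
  tot_res (g₂ := 𝟙 W) (h.trans (by rw [op_id, (totFun F).map_id]; rfl)) k e e' he (he'.trans (Category.comp_id k).symm)

/-- lift of a presieve -/
def liftP {T : Scheme.{u}} (R : Presieve T) (t : T ⟶ S) : Presieve (Over.mk t) := fun _ g => R g.left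

theorem isSheafFor_tot {T : Scheme.{u}} (R : Presieve T) (hS : Presieve.IsSheafFor (yoneda.obj S) R)
    (hF : ∀ t : T ⟶ S, Presieve.IsSheafFor F (liftP R t)) : Presieve.IsSheafFor (totFun F) R := by
  intro x hx
  let xS : Presieve.FamilyOfElements (yoneda.obj S) R := fun Z f hf => (x f hf).1
  have hxS : xS.Compatible := fun Z₁ Z₂ Z g₁ g₂ f₁ f₂ h₁ h₂ e => congrArg Sigma.fst (hx g₁ g₂ h₁ h₂ e)
  obtain ⟨t, ht, htu⟩ := hS xS hxS
  have hmk : ∀ {Z : Over S} (g : Z ⟶ Over.mk t) (hg : R g.left), 𝟙 Z.left ≫ (x g.left hg).1 = Z.hom := fun g hg => by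
    rw [Category.id_comp, ← Over.w g]
    exact (ht g.left hg).symm
  let ι : ∀ {Z : Over S} (g : Z ⟶ Over.mk t) (hg : R g.left), Z ⟶ Over.mk (x g.left hg).1 := fun g hg =>
    Over.homMk (𝟙 _) (hmk g hg)
  let xF : Presieve.FamilyOfElements F (liftP R t) := fun Z g hg => F.map (ι g hg).op (x g.left hg).2
  have hxF : xF.Compatible := by
    intro Z₁ Z₂ W g₁ g₂ f₁ f₂ h₁ h₂ e
    refine ((map_map g₁ (ι f₁ h₁) (g₁ ≫ ι f₁ h₁) rfl _).trans ?_).trans (map_map g₂ (ι f₂ h₂) (g₂ ≫ ι f₂ h₂) rfl _).symm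
    exact tot_res (hx g₁.left g₂.left h₁ h₂ (congrArg CommaMorphism.left e)) (𝟙 W.left) _ _
      ((Category.comp_id _).trans (Category.id_comp _).symm) ((Category.comp_id _).trans (Category.id_comp _).symm)
  obtain ⟨z, hz, hzu⟩ := hF t xF hxF
  refine ⟨(⟨t, z⟩ : Tot F T), fun Z f hf => ?_, fun p hp => ?_⟩
  · refine (totFun_map f (⟨t, z⟩ : Tot F T)).trans (tot_ext (ht f hf) fun e he => ?_)
    show F.map e.op (F.map (Over.homMk f : Over.mk (f ≫ t) ⟶ Over.mk t).op z) = _
    rw [hz (Over.homMk f : Over.mk (f ≫ t) ⟶ Over.mk t) hf]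
    refine (map_map e (ι (Over.homMk f : Over.mk (f ≫ t) ⟶ Over.mk t) hf) (𝟙 _) ?_ _).trans (map_id' _ rfl _)
    rw [he]
    exact Category.id_comp _
  · have h1 : p.1 = t := htu p.1 fun Z f hf => congrArg Sigma.fst (hp f hf)
    refine tot_ext h1 fun e he => hzu _ fun Z g hg => ?_
    refine (map_map g e (g ≫ e) rfl _).trans ?_
    exact tot_res₁ (hp g.left hg) (𝟙 Z.left) (g ≫ e) (ι g hg)
      (by rw [Over.comp_left, he, Category.id_comp]; exact Category.comp_id _) rfl

theorem isSheaf_over_of_tot (J : GrothendieckTopology Scheme.{u}) (hS : Presieve.IsSheaf J (yoneda.obj S))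
    (hG : Presieve.IsSheaf J (totFun F)) : Presieve.IsSheaf (J.over S) F := by
  intro U s hs x hx
  have hs' : Sieve.overEquiv U s ∈ J U.left := hs
  let fo : ∀ {Z : Scheme.{u}} (f : Z ⟶ U.left), Over.mk (f ≫ U.hom) ⟶ U := fun f => Over.homMk f
  let xG : Presieve.FamilyOfElements (totFun F) (Sieve.overEquiv U s).arrows := fun Z f hf =>
    (⟨f ≫ U.hom, x (fo f) ((Sieve.overEquiv_iff s f).1 hf)⟩ : Tot F Z)
  have hxG : xG.Compatible := by
    intro Z₁ Z₂ W g₁ g₂ f₁ f₂ h₁ h₂ e
    rw [totFun_map, totFun_map]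
    refine tot_ext (by
      show g₁ ≫ f₁ ≫ U.hom = g₂ ≫ f₂ ≫ U.hom
      rw [← Category.assoc, e, Category.assoc]) fun d hd => ?_
    refine (map_map d _ (Over.homMk g₁ (by
      show g₁ ≫ f₁ ≫ U.hom = g₂ ≫ f₂ ≫ U.hom
      rw [← Category.assoc, e, Category.assoc]) : Over.mk (g₂ ≫ f₂ ≫ U.hom) ⟶ Over.mk (f₁ ≫ U.hom)) ?_ _).trans ?_
    · rw [hd]
      exact Category.id_comp _
    · exact hx _ _ _ _ (Over.OverMorphism.ext e)
  obtain ⟨p, hp, hpu⟩ := hG _ hs' xG hxG
  have ht : p.1 = U.hom :=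
    (hS _ hs').isSeparatedFor.ext fun Z f hf => congrArg Sigma.fst (hp f hf)
  let ιU : U ⟶ Over.mk p.1 := Over.homMk (𝟙 U.left) (by
    show 𝟙 U.left ≫ p.1 = U.hom
    rw [Category.id_comp, ht])
  refine ⟨F.map ιU.op p.2, fun Z g hg => ?_, fun y hy => ?_⟩
  · let e₀ : Over.mk (g.left ≫ U.hom) ⟶ Z := Over.homMk (𝟙 _) (by
      show 𝟙 _ ≫ Z.hom = g.left ≫ U.hom
      rw [Category.id_comp, Over.w g])
    let d : Z ⟶ Over.mk (g.left ≫ U.hom) := Over.homMk (𝟙 _) (by
      show 𝟙 _ ≫ g.left ≫ U.hom = Z.hom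
      rw [Category.id_comp, Over.w g])
    have hf0 : fo g.left = e₀ ≫ g := Over.OverMorphism.ext (Category.id_comp _).symm
    have hm : Sieve.overEquiv U s g.left := (Sieve.overEquiv_iff s _).2 (by
      show s.arrows (fo g.left)
      rw [hf0]
      exact s.downward_closed hg e₀)
    refine (map_map g ιU (g ≫ ιU) rfl _).trans ((tot_res₁ (hp g.left hm) (𝟙 Z.left) (g ≫ ιU) d
      ((Category.comp_id _).trans (Category.id_comp _).symm) rfl).trans ?_)
    refine (hx d (𝟙 Z) _ hg ?_).trans (map_id' _ rfl _)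
    exact Over.OverMorphism.ext rfl
  · let jU : Over.mk U.hom ⟶ U := Over.homMk (𝟙 U.left) (Category.id_comp _)
    let kU : U ⟶ Over.mk U.hom := Over.homMk (𝟙 U.left) (Category.id_comp _)
    let q : Tot F U.left := ⟨U.hom, F.map jU.op y⟩
    have hq : q = p := hpu q fun Z f hf => by
      refine (totFun_map f q).trans (tot_ext rfl fun e he => ?_)
      refine (map_id' e he _).trans ?_
      refine (map_map _ jU (fo f) (Category.comp_id _) y).trans ?_
      exact hy _ ((Sieve.overEquiv_iff s f).1 hf)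
    refine Eq.trans ?_ (tot_snd hq kU ιU rfl)
    exact ((map_map kU jU (𝟙 U) (Category.id_comp _) y).trans (map_id' _ rfl y)).symm

theorem isSheaf_tot_of_over (J : GrothendieckTopology Scheme.{u}) (hS : Presieve.IsSheaf J (yoneda.obj S))
    (hF : Presieve.IsSheaf (J.over S) F) : Presieve.IsSheaf J (totFun F) := fun T s hs =>
  isSheafFor_tot s.arrows (hS s hs) fun t => hF ((Sieve.overEquiv (Over.mk t)).symm s)
    (GrothendieckTopology.overEquiv_symm_mem_over J (Over.mk t) s hs)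

theorem isSheaf_over_fpqc (F : (Over S)ᵒᵖ ⥤ Type w) (hzar : Presieve.IsSheaf (Scheme.zariskiTopology.over S) F)
    (hff : ∀ {R R' : CommRingCat.{u}} (f : R ⟶ R') (a : Spec R ⟶ S), Flat (Spec.map f) → Surjective (Spec.map f) →
      ∀ x : F.obj (op (Over.mk (Spec.map f ≫ a))),
        (∀ {Z : Over S} (p₁ p₂ : Z ⟶ Over.mk (Spec.map f ≫ a)), p₁.left ≫ Spec.map f = p₂.left ≫ Spec.map f →
          F.map p₁.op x = F.map p₂.op x) →
        ∃! y, F.map (Over.homMk (Spec.map f) : Over.mk (Spec.map f ≫ a) ⟶ Over.mk a).op y = x) :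
    Presieve.IsSheaf (Scheme.fpqcTopology.over S) F := by
  have hS : Presieve.IsSheaf Scheme.fpqcTopology (yoneda.obj S) :=
    GrothendieckTopology.Subcanonical.isSheaf_of_isRepresentable _
  refine isSheaf_over_of_tot _ hS ((isSheaf_type_propQCTopology_iff (P := @Flat) _).2 ⟨?_, ?_⟩)
  · exact isSheaf_tot_of_over _ (Presieve.isSheaf_of_le _ Scheme.zariskiTopology_le_fpqcTopology hS) hzar
  · intro R R' f hf hs
    refine isSheafFor_tot _ (((isSheaf_type_propQCTopology_iff (P := @Flat) _).1 hS).2 f hf hs) fun a => ?_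
    intro x hx
    let g₀ : Over.mk (Spec.map f ≫ a) ⟶ Over.mk a := Over.homMk (Spec.map f)
    have hg₀ : liftP (Presieve.singleton (Spec.map f)) a g₀ := Presieve.singleton_self _
    obtain ⟨y, hy, hyu⟩ := hff f a hf hs (x g₀ hg₀) fun p₁ p₂ e =>
      hx p₁ p₂ hg₀ hg₀ (Over.OverMorphism.ext e)
    refine ⟨y, fun Z g hg => ?_, fun y' hy' => hyu y' (hy' g₀ hg₀)⟩
    obtain ⟨e, he⟩ : ∃ e : Z ⟶ Over.mk (Spec.map f ≫ a), e ≫ g₀ = g := by
      obtain ⟨Z₀, z, ⟨⟩⟩ := Z
      obtain ⟨gl, _, w⟩ := g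
      change Presieve.singleton (Spec.map f) gl at hg
      cases hg
      exact ⟨Over.homMk (𝟙 _) (by simpa using w), Over.OverMorphism.ext (Category.id_comp _)⟩
    calc F.map g.op y = F.map e.op (F.map g₀.op y) := by rw [← he, op_comp, F.map_comp]; rfl
      _ = F.map e.op (x g₀ hg₀) := by rw [hy]
      _ = x g hg := by
        refine (hx e (𝟙 Z) hg₀ hg (by rw [he, Category.id_comp])).trans ?_
        rw [op_id, F.map_id]
        rfl

end Total

section Main

variable {P : MorphismProperty Scheme.{u}} [P.IsStableUnderComposition] [P.IsStableUnderBaseChange]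
  [BigSite.OSh (Scheme.precoverage P)] (hP : Good P) {S : Scheme.{u}}

include hP in
theorem isSheaf_fpqc_of_adequate (M : BigSite.Mod (Scheme.precoverage P) S)
    (hM : adequateMod (Scheme.precoverage P) S M) :
    Presheaf.IsSheaf (QuotSh.J Scheme.fpqcPrecoverage S) ((BigSite.toAbMod (Scheme.precoverage P) S).obj M).obj := by
  rw [Presheaf.isSheaf_iff_isSheaf_forget _ _ (forget AddCommGrpCat), isSheaf_iff_isSheaf_of_type]
  refine isSheaf_over_fpqc _ ?_ ?_
  · refine Presieve.isSheaf_of_le _ ?_ ((isSheaf_iff_isSheaf_of_type _ _).1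
      ((Presheaf.isSheaf_iff_isSheaf_forget _ _ (forget AddCommGrpCat)).1 ((BigSite.toAbMod _ S).obj M).property))
    exact fun U s hs => Precoverage.toGrothendieck_mono (Scheme.precoverage_mono hP.openImm) _ hs
  · intro R R' f a hflat hsurj x hx
    letI : Algebra R R' := f.hom.toAlgebra
    haveI : Module.FaithfullyFlat R R' := by
      haveI : Module.Flat R R' := (HasRingHomProperty.Spec_iff (P := @Flat)).1 hflat
      exact Module.FaithfullyFlat.of_comap_surjective fun p => hsurj.surj p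
    have hF := adequate_toMVF hP M hM R a
    let e₀ : (specOver a).obj (op (algOf (R : Type u) (R : Type u))) ≅ Over.mk a := specOverSelfIso a
    let e₁ : (specOver a).obj (op (algOf (R : Type u) (R' : Type u))) ≅ Over.mk (Spec.map f ≫ a) :=
      Over.isoMk (Iso.refl _) (Category.id_comp _)
    obtain ⟨y, hy⟩ := exists_mp_eq_ff hF (R : Type u) (R' : Type u) (M.val.presheaf.map e₁.hom.op x) (by
      refine Eq.trans ?_ ((hx ((specOver a).map (toLeft (R : Type u) (R : Type u) (R' : Type u) (R' : Type u)).op ≫ e₁.hom)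
        ((specOver a).map (toRight (R : Type u) (R : Type u) (R' : Type u) (R' : Type u)).op ≫ e₁.hom) ?_).trans ?_)
      · rw [op_comp, Functor.map_comp]; rfl
      · show (Spec.map (CommRingCat.ofHom (toLeft (R : Type u) (R : Type u) (R' : Type u) (R' : Type u)).hom.toRingHom) ≫ 𝟙 _) ≫ Spec.map f =
          (Spec.map (CommRingCat.ofHom (toRight (R : Type u) (R : Type u) (R' : Type u) (R' : Type u)).hom.toRingHom) ≫ 𝟙 _) ≫ Spec.map f
        rw [Category.comp_id, Category.comp_id, ← Spec.map_comp, ← Spec.map_comp]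
        refine congrArg Spec.map (CommRingCat.hom_ext (RingHom.ext fun r => ?_))
        show (algebraMap (R : Type u) (R' : Type u) r) ⊗ₜ[(R : Type u)] (1 : R') = (1 : R') ⊗ₜ[(R : Type u)] (algebraMap (R : Type u) (R' : Type u) r)
        rw [Algebra.algebraMap_eq_smul_one, smul_tmul]
      · rw [op_comp, Functor.map_comp]; rfl)
    let top := toTop (R : Type u) (R : Type u) (R' : Type u)
    have hsq : ∀ z : M.val.obj (op (Over.mk a)),
        M.val.presheaf.map e₁.hom.op (M.val.presheaf.map (Over.homMk (Spec.map f) : Over.mk (Spec.map f ≫ a) ⟶ Over.mk a).op z) =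
          mp ((toMVF (Scheme.precoverage P) a).obj M) top (M.val.presheaf.map e₀.hom.op z) := fun z => by
      show _ = M.val.presheaf.map ((specOver a).map top.op).op (M.val.presheaf.map e₀.hom.op z)
      rw [← comp_apply, ← comp_apply, ← Functor.map_comp, ← Functor.map_comp, ← op_comp, ← op_comp]
      congr 3
    have hb₁ : Function.Injective (M.val.presheaf.map e₁.hom.op) :=
      ((forget AddCommGrpCat).mapIso (M.val.presheaf.mapIso e₁.op)).toEquiv.injective
    have hb₀ : Function.Bijective (M.val.presheaf.map e₀.hom.op) :=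
      ((forget AddCommGrpCat).mapIso (M.val.presheaf.mapIso e₀.op)).toEquiv.bijective
    obtain ⟨z, rfl⟩ := hb₀.2 y
    refine ⟨z, hb₁ ((hsq z).trans hy), fun z' hz' => hb₀.1 (mp_injective_ff hF (R : Type u) (R' : Type u) ?_)⟩
    exact ((hsq z').symm.trans (congrArg (M.val.presheaf.map e₁.hom.op) hz')).trans hy.symm

end Main

end Groth.Agent.Adeq
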