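import Mathlib
import Groth.Prelude.Def_W4stkadequateTF
import Groth.Agent.Adeq.Ext

/-! Tangent functors. -/

set_option autoImplicit false
set_option backward.isDefEq.respectTransparency false
universe u
open CategoryTheory CategoryTheory.Limits Opposite

namespace Groth.Agent.Adeq
open _root_.Adeq AdeqTF

variable {A : Type u} [CommRing A]

/-- right exactness of the tangent functor -/
abbrev RExT (F : MVF A) : Prop :=
  ∀ (B : Alg A) (S : ShortComplex (ModuleCat.{u} B)), S.ShortExact →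
    Function.Surjective (tangentMap B F S.g) ∧ (tangentMap B F S.g).ker = (tangentMap B F S.f).range

variable {F G : MVF A} (B : Alg A) {N N' N'' : ModuleCat.{u} B}

theorem tangentMap_coe (g : N ⟶ N') (x : tangent B N F) :
    (tangentMap B F g x : F.obj (pt (ext B N'))) = mp F (AdeqTF.map B g) (x : F.obj (pt (ext B N))) := rfl

theorem map_comp' (f : N ⟶ N') (g : N' ⟶ N'') : AdeqTF.map B (f ≫ g) = AdeqTF.map B f ≫ AdeqTF.map B g := by
  refine CommAlgCat.hom_ext (AlgHom.ext fun x => ?_)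
  show TrivSqZeroExt.map (g.hom ∘ₗ f.hom) x = TrivSqZeroExt.map g.hom (TrivSqZeroExt.map f.hom x)
  rw [TrivSqZeroExt.map_comp_map]
  rfl

theorem map_id'' : AdeqTF.map B (𝟙 N) = 𝟙 (ext B N) := by
  refine CommAlgCat.hom_ext (AlgHom.ext fun x => ?_)
  show TrivSqZeroExt.map LinearMap.id x = x
  rw [TrivSqZeroExt.map_id]
  rfl

theorem map_zero'' : AdeqTF.map B (0 : N ⟶ N') = fst B N ≫ inl B N' := by
  refine CommAlgCat.hom_ext (AlgHom.ext fun x => ?_)
  show TrivSqZeroExt.map (0 : N →ₗ[(B : Type u)] N') x = algebraMap (B : Type u) (TrivSqZeroExt (B : Type u) N') (TrivSqZeroExt.fst x)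
  refine TrivSqZeroExt.ext ?_ ?_ <;> simp [TrivSqZeroExt.algebraMap_eq_inl]

theorem inl_fst : inl B N ≫ fst B N = 𝟙 B := by
  refine CommAlgCat.hom_ext (AlgHom.ext fun x => ?_)
  show TrivSqZeroExt.fst (algebraMap (B : Type u) (TrivSqZeroExt (B : Type u) N) x) = x
  simp [TrivSqZeroExt.algebraMap_eq_inl]

theorem tangentMap_comp (f : N ⟶ N') (g : N' ⟶ N'') (x : tangent B N F) :
    tangentMap B F g (tangentMap B F f x) = tangentMap B F (f ≫ g) x := by
  refine Subtype.ext ?_
  rw [tangentMap_coe, tangentMap_coe, tangentMap_coe, map_comp', mp_comp]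

theorem tangentMap_id (x : tangent B N F) : tangentMap B F (𝟙 N) x = x := by
  refine Subtype.ext ?_
  rw [tangentMap_coe, map_id'', mp_id]

theorem tangentMap_zero (x : tangent B N F) : tangentMap B F (0 : N ⟶ N') x = 0 := by
  refine Subtype.ext ?_
  rw [tangentMap_coe, map_zero'', mp_comp, show mp F (fst B N) (x : F.obj (pt (ext B N))) = 0 from x.2, map_zero]
  rfl

/-- a transformation on tangent spaces -/
noncomputable def tanApp (φ : F ⟶ G) (N : ModuleCat.{u} B) : tangent B N F →+ tangent B N G :=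
  ((φ.app (pt (ext B N))).hom.toAddMonoidHom.comp (tangent B N F).subtype).codRestrict _ fun x => by
    show mp G (fst B N) (φ.app (pt (ext B N)) (x : F.obj (pt (ext B N)))) = 0
    rw [← mp_natural φ (fst B N), show mp F (fst B N) (x : F.obj (pt (ext B N))) = 0 from x.2, map_zero]

theorem tanApp_natural (φ : F ⟶ G) (g : N ⟶ N') (x : tangent B N F) :
    tanApp B φ N' (tangentMap B F g x) = tangentMap B G g (tanApp B φ N x) :=
  Subtype.ext (mp_natural φ (AdeqTF.map B g) (x : F.obj (pt (ext B N))))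

section Exact

variable {C : ShortComplex (MVF A)} (hC : C.ShortExact)

include hC

theorem tanApp_exact (x : tangent B N C.X₂) (hx : tanApp B C.g N x = 0) : ∃ y, tanApp B C.f N y = x := by
  have hk := isKer_of_shortExact hC
  obtain ⟨y, hy⟩ := hk.exact (ext B N) (x : C.X₂.obj (pt (ext B N))) (congrArg Subtype.val hx)
  refine ⟨⟨y, hk.inj B ?_⟩, Subtype.ext hy⟩
  show C.f.app (pt B) (mp C.X₁ (fst B N) y) = C.f.app (pt B) 0
  rw [mp_natural, hy, map_zero]
  exact x.2

theorem tanApp_injective (x : tangent B N C.X₁) (hx : tanApp B C.f N x = 0) : x = 0 :=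
  Subtype.ext ((isKer_of_shortExact hC).inj (ext B N) ((congrArg Subtype.val hx).trans (map_zero _).symm))

theorem tanApp_zero (x : tangent B N C.X₁) : tanApp B C.g N (tanApp B C.f N x) = 0 :=
  Subtype.ext ((isKer_of_shortExact hC).zero (ext B N) _)

theorem tanApp_surjective (y : tangent B N C.X₃) : ∃ x, tanApp B C.g N x = y := by
  have := hC.epi_g
  obtain ⟨x, hx⟩ := surjective_pt C.g (ext B N) (y : C.X₃.obj (pt (ext B N)))
  refine ⟨⟨x - mp C.X₂ (inl B N) (mp C.X₂ (fst B N) x), ?_⟩, Subtype.ext ?_⟩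
  · show mp C.X₂ (fst B N) _ = 0
    rw [map_sub, ← mp_comp, ← mp_comp, inl_fst, Category.comp_id, sub_self]
  · show C.g.app (pt (ext B N)) (x - mp C.X₂ (inl B N) (mp C.X₂ (fst B N) x)) = _
    rw [map_sub, mp_natural, mp_natural, hx, show mp C.X₃ (fst B N) (y : C.X₃.obj (pt (ext B N))) = 0 from y.2,
      map_zero, sub_zero]

end Exact

theorem ker_of_exists {F : MVF A} {S : ShortComplex (ModuleCat.{u} B)}
    (h : ∀ x, tangentMap B F S.g x = 0 → ∃ w, tangentMap B F S.f w = x) :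
    (tangentMap B F S.g).ker = (tangentMap B F S.f).range := by
  ext x
  refine ⟨fun hx => h x hx, ?_⟩
  rintro ⟨w, rfl⟩
  show tangentMap B F S.g (tangentMap B F S.f w) = 0
  rw [tangentMap_comp, S.zero, tangentMap_zero]

theorem rext_exists {F : MVF A} (hF : RExT F) {S : ShortComplex (ModuleCat.{u} B)} (hS : S.ShortExact)
    (x : tangent B S.X₂ F) (hx : tangentMap B F S.g x = 0) : ∃ w, tangentMap B F S.f w = x := by
  have h : x ∈ (tangentMap B F S.g).ker := hx
  rw [(hF B S hS).2] at h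
  exact h

theorem rext_left {C : ShortComplex (MVF A)} (hC : C.ShortExact) (h₁ : RExT C.X₁) (h₂ : RExT C.X₂) :
    RExT C.X₃ := by
  intro B S hS
  refine ⟨fun y => ?_, ker_of_exists B fun y hy => ?_⟩
  · obtain ⟨x, rfl⟩ := tanApp_surjective B hC y
    obtain ⟨x', rfl⟩ := (h₂ B S hS).1 x
    exact ⟨tanApp B C.g _ x', (tanApp_natural B C.g S.g x').symm⟩
  · obtain ⟨x, rfl⟩ := tanApp_surjective B hC y
    rw [← tanApp_natural] at hy
    obtain ⟨z, hz⟩ := tanApp_exact B hC _ hy
    obtain ⟨z', rfl⟩ := (h₁ B S hS).1 z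
    obtain ⟨w, hw⟩ := rext_exists B h₂ hS (x - tanApp B C.f _ z') (by
      rw [map_sub, ← tanApp_natural, hz, sub_self])
    refine ⟨tanApp B C.g _ w, ?_⟩
    rw [← tanApp_natural, hw, map_sub, tanApp_zero B hC, sub_zero]

theorem rext_middle {C : ShortComplex (MVF A)} (hC : C.ShortExact) (h₁ : RExT C.X₁) (h₃ : RExT C.X₃) :
    RExT C.X₂ := by
  intro B S hS
  refine ⟨fun x => ?_, ker_of_exists B fun x hx => ?_⟩
  · obtain ⟨h, hh⟩ := (h₃ B S hS).1 (tanApp B C.g _ x)
    obtain ⟨x', rfl⟩ := tanApp_surjective B hC h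
    rw [← tanApp_natural] at hh
    obtain ⟨y, hy⟩ := tanApp_exact B hC (x - tangentMap B C.X₂ S.g x') (by rw [map_sub, hh, sub_self])
    obtain ⟨y', rfl⟩ := (h₁ B S hS).1 y
    refine ⟨x' + tanApp B C.f _ y', ?_⟩
    rw [map_add, ← tanApp_natural, hy, add_sub_cancel]
  · obtain ⟨h, hh⟩ := rext_exists B h₃ hS (tanApp B C.g _ x) (by rw [← tanApp_natural, hx, map_zero])
    obtain ⟨x₁, rfl⟩ := tanApp_surjective B hC h
    rw [← tanApp_natural] at hh
    obtain ⟨y, hy⟩ := tanApp_exact B hC (x - tangentMap B C.X₂ S.f x₁) (by rw [map_sub, hh, sub_self])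
    obtain ⟨y', rfl⟩ := rext_exists B h₁ hS y (tanApp_injective B hC _ (by
      rw [tanApp_natural, hy, map_sub, hx, tangentMap_comp, S.zero, tangentMap_zero, sub_zero]))
    refine ⟨x₁ + tanApp B C.f _ y', ?_⟩
    rw [map_add, ← tanApp_natural, hy, add_sub_cancel]

theorem tangent_biprod {F : MVF A} (hF : RExT F) (B : Alg A) (N₁ N₂ : ModuleCat.{u} B) :
    Function.Bijective ((tangentMap B F (biprod.inl : N₁ ⟶ N₁ ⊞ N₂)).coprod
      (tangentMap B F (biprod.inr : N₂ ⟶ N₁ ⊞ N₂))) := by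
  let S : ShortComplex (ModuleCat.{u} B) := ShortComplex.mk (biprod.inl : N₁ ⟶ N₁ ⊞ N₂) biprod.snd biprod.inl_snd
  have hS : S.ShortExact := (ShortComplex.Splitting.ofHasBinaryBiproduct N₁ N₂).shortExact
  constructor
  · rw [injective_iff_map_eq_zero]
    rintro ⟨a, b⟩ h
    rw [AddMonoidHom.coprod_apply] at h
    have e₂ := congrArg (tangentMap B F (biprod.snd : N₁ ⊞ N₂ ⟶ N₂)) h
    rw [map_add, tangentMap_comp, tangentMap_comp, biprod.inl_snd, biprod.inr_snd, tangentMap_zero, tangentMap_id,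
      zero_add, map_zero] at e₂
    have e₁ := congrArg (tangentMap B F (biprod.fst : N₁ ⊞ N₂ ⟶ N₁)) h
    rw [map_add, tangentMap_comp, tangentMap_comp, biprod.inl_fst, biprod.inr_fst, tangentMap_zero, tangentMap_id,
      add_zero, map_zero] at e₁
    exact Prod.ext e₁ e₂
  · intro x
    obtain ⟨w, hw⟩ := rext_exists B hF hS
      (x - tangentMap B F biprod.inr (tangentMap B F (biprod.snd : N₁ ⊞ N₂ ⟶ N₂) x)) (by
        show tangentMap B F (biprod.snd : N₁ ⊞ N₂ ⟶ N₂) _ = 0
        rw [map_sub, tangentMap_comp B biprod.inr biprod.snd, biprod.inr_snd, tangentMap_id, sub_self])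
    refine ⟨(w, tangentMap B F (biprod.snd : N₁ ⊞ N₂ ⟶ N₂) x), ?_⟩
    rw [AddMonoidHom.coprod_apply, show tangentMap B F (biprod.inl : N₁ ⟶ N₁ ⊞ N₂) w = _ from hw, sub_add_cancel]

end Groth.Agent.Adeq
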